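import Cfsg.Agent.H37.Kondo.Setup

/-!
The base group is weakly closed and its automiser is the symmetric group of degree `2n+1`.
-/

set_option autoImplicit false

namespace H37.Kondo

open Equiv Finset

variable {G : Type*} [Group G] {n : ℕ} (D : Setup G n)

namespace Setup

variable {π π' : Perm (Fin (2 * n))} {hπ : π * π = 1} {hπ' : π' * π' = 1}

/-- `1` is an involution -/
theorem one_invol : (1 : Perm (Fin (2 * n))) * 1 = 1 := one_mul 1

/-- the base group in coordinates -/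
noncomputable def b (w : Vec (2 * n)) : G := D.el one_invol w

theorem b_eq (w : Vec (2 * n)) : D.b w = D.ι (SP.embV w) := by
  rw [b, el, phi_eq_embV one_invol fun _ => rfl]

theorem el_eq_b {w : Vec (2 * n)} (hπ : π * π = 1) (hw : ∀ p, w (π p) = w p) : D.el hπ w = D.b w := by
  rw [b_eq, el, phi_eq_embV hπ hw]

/-- a point of the orbit of `t` on the base group has a frame -/
theorem frame (hn : 2 ≤ n) {g : G} {T : Vec (2 * n) → Vec (2 * n)} (h : D.Maps g one_invol hπ T)
    {y : Vec (2 * n)} (hy : T y = 1) (hy1 : y ≠ 1) : π = 1 ∧ par y = 1 := by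
  have hy0 : y ≠ 0 := by
    rintro rfl
    rw [h.zero] at hy
    have := congrFun hy ⟨0, by omega⟩
    simp at this
  refine frame_rigid hn hπ h.hom h.injective y hy0 hy1 hy fun p q hpq => ?_
  let a : SP (2 * n) := SP.embP (Equiv.swap p q)
  have ha := D.maps_base a
  obtain ⟨T', h', hl, hr⟩ := h.inv
  have hT := h.comp (ha.comp h')
  have hfix : y ∘ Equiv.swap p q = y := by
    funext x
    rw [Function.comp_apply]
    rcases eq_or_ne x p with rfl | hxp
    · rw [Equiv.swap_apply_left, hpq]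
    rcases eq_or_ne x q with rfl | hxq
    · rw [Equiv.swap_apply_right, hpq]
    · rw [Equiv.swap_apply_of_ne_of_ne hxp hxq]
  have h1' : T' 1 = y := by rw [← hy, hl]
  have h1 : T ((T' 1) ∘ a.σ.symm) = 1 := by
    rw [h1']
    show T (y ∘ (Equiv.swap p q).symm) = 1
    rw [Equiv.symm_swap, hfix, hy]
  obtain ⟨s, hs, hs'⟩ := hT.perm h1
  refine ⟨s, hs, fun w => ?_⟩
  have := hs' (T w)
  simp only [Function.comp_apply, hl] at this
  show T (w ∘ Equiv.swap p q) = T w ∘ s.symm
  rw [← this]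
  show _ = T (w ∘ (Equiv.swap p q).symm)
  rw [Equiv.symm_swap]

/-- weak closure of the base group -/
theorem wc_maps (hn : 2 ≤ n) {g : G} {T : Vec (2 * n) → Vec (2 * n)} (h : D.Maps g one_invol hπ T) :
    π = 1 := by
  obtain ⟨y, hy⟩ := h.bijective.2 1
  by_cases hy1 : y = 1
  · subst hy1
    have hg : g * D.t = D.t * g := by
      have := h 1
      rw [hy, D.el_one, D.el_one] at this
      exact mul_inv_eq_iff_eq_mul.1 this
    have := Maps.support_le D h hg
    rw [Perm.support_one, Finset.card_empty, Nat.le_zero, Finset.card_eq_zero, Perm.support_eq_empty_iff] at this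
    exact this
  · exact (D.frame hn h hy hy1).1

theorem wc_range (hn : 2 ≤ n) {g : G} (hr : ∀ w, g * D.b w * g⁻¹ ∈ D.ι.range) :
    ∃ T, D.Maps g one_invol one_invol T := by
  obtain ⟨π, hπ, T, h⟩ := D.exists_maps_of_range (hπ := one_invol) hr
  have := D.wc_maps hn h
  subst this
  exact ⟨T, h⟩

/-- fusion in the base group is controlled by its normaliser -/
theorem burnside [Finite G] (hn : 2 ≤ n) {g : G} {w w' : Vec (2 * n)}
    (h : g * D.b w * g⁻¹ = D.b w') :
    ∃ g' T, D.Maps g' one_invol one_invol T ∧ T w = w' := by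
  haveI : Fact (Nat.Prime 2) := ⟨Nat.prime_two⟩
  let M := D.elSub (one_invol (n := n))
  let B : Subgroup G := M.map (MulAut.conj g).toMonoidHom
  let C := Subgroup.centralizer ({D.b w'} : Set G)
  have hM : IsPGroup 2 M := D.elSub_isPGroup _
  have hcomm : ∀ u v, D.b u * D.b v = D.b v * D.b u := fun u v => by
    rw [b, b, ← D.el_add, ← D.el_add, add_comm]
  have hMC : M ≤ C := by
    rintro _ ⟨u, rfl⟩
    exact Subgroup.mem_centralizer_singleton_iff.2 (hcomm u w')
  have hBC : B ≤ C := by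
    rintro _ ⟨_, ⟨u, rfl⟩, rfl⟩
    refine Subgroup.mem_centralizer_singleton_iff.2 ?_
    show g * D.b u * g⁻¹ * D.b w' = D.b w' * (g * D.b u * g⁻¹)
    rw [← h]
    calc g * D.b u * g⁻¹ * (g * D.b w * g⁻¹) = g * (D.b u * D.b w) * g⁻¹ := by group
      _ = g * (D.b w * D.b u) * g⁻¹ := by rw [hcomm]
      _ = _ := by group
  obtain ⟨P, hP⟩ := (IsPGroup.comap_subtype (K := C) hM).exists_le_sylow
  obtain ⟨P', hP'⟩ := (IsPGroup.comap_subtype (K := C) (hM.map (MulAut.conj g).toMonoidHom)).exists_le_sylow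
  obtain ⟨k, hk⟩ := MulAction.exists_smul_eq C P' P
  let R : Subgroup G := (P : Subgroup C).map C.subtype
  obtain ⟨P₀, hP₀⟩ := (P.isPGroup'.map C.subtype : IsPGroup 2 R).exists_le_sylow
  obtain ⟨S, hS⟩ := D.sylow
  obtain ⟨a, ha⟩ := MulAction.exists_smul_eq G P₀ S
  have hin : ∀ x ∈ R, a * x * a⁻¹ ∈ D.ι.range := fun x hx => by
    refine hS ?_
    rw [← ha, Sylow.coe_subgroup_smul]
    exact Subgroup.smul_mem_pointwise_smul _ (MulAut.conj a) _ (hP₀ hx)
  have h1 : ∀ u, D.b u ∈ R := fun u => ⟨⟨D.b u, hMC ⟨u, rfl⟩⟩, hP (show D.b u ∈ M from ⟨u, rfl⟩), rfl⟩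
  have h2 : ∀ u, (k : G) * (g * D.b u * g⁻¹) * (k : G)⁻¹ ∈ R := fun u => by
    refine ⟨k * ⟨g * D.b u * g⁻¹, hBC ⟨_, ⟨u, rfl⟩, rfl⟩⟩ * k⁻¹, ?_, rfl⟩
    rw [← hk, Sylow.coe_subgroup_smul]
    exact Subgroup.smul_mem_pointwise_smul _ (MulAut.conj k) _ (hP' ⟨_, ⟨u, rfl⟩, rfl⟩)
  obtain ⟨T₁, hT₁⟩ := D.wc_range hn (g := a) fun u => hin _ (h1 u)
  obtain ⟨T₂, hT₂⟩ := D.wc_range hn (g := a * k * g) fun u => by
    have := hin _ (h2 u)
    convert this using 1
    group
  obtain ⟨T₁', hT₁', hl, hr⟩ := hT₁.inv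
  refine ⟨a⁻¹ * (a * k * g), T₁' ∘ T₂, hT₁'.comp hT₂, ?_⟩
  apply D.el_injective one_invol
  rw [← (hT₁'.comp hT₂) w]
  have hk' := Subgroup.mem_centralizer_singleton_iff.1 k.2
  show a⁻¹ * (a * (k : G) * g) * D.b w * (a⁻¹ * (a * k * g))⁻¹ = D.b w'
  calc a⁻¹ * (a * (k : G) * g) * D.b w * (a⁻¹ * (a * k * g))⁻¹
      = (k : G) * (g * D.b w * g⁻¹) * (k : G)⁻¹ := by group
    _ = D.b w' := by rw [h, hk', mul_inv_cancel_right]

/-- the orbit of `t` under the normaliser of the base -/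
def Orb (y : Vec (2 * n)) : Prop := ∃ g T, D.Maps g one_invol one_invol T ∧ T 1 = y

theorem orb_one : D.Orb 1 := ⟨1, id, D.maps_one _, rfl⟩

variable {D}

theorem Orb.map {g : G} {T : Vec (2 * n) → Vec (2 * n)} (h : D.Maps g one_invol one_invol T)
    {y : Vec (2 * n)} (hy : D.Orb y) : D.Orb (T y) := by
  obtain ⟨g', T', h', rfl⟩ := hy
  exact ⟨g * g', T ∘ T', h.comp h', rfl⟩

theorem Orb.perm {y : Vec (2 * n)} (hy : D.Orb y) (s : Perm (Fin (2 * n))) : D.Orb (y ∘ s.symm) :=
  hy.map (D.maps_base (SP.embP s))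

/-- there is a parity functional killing `y` and equal to `1` on the rest of the orbit -/
theorem Orb.functional (hn : 2 ≤ n) {y : Vec (2 * n)} (hy : D.Orb y) :
    ∃ f : Vec (2 * n) →+ ZMod 2, f y = 0 ∧ ∀ z, D.Orb z → z ≠ y → f z = 1 := by
  obtain ⟨g, T, h, rfl⟩ := hy
  obtain ⟨T', h', hl, hr⟩ := h.inv
  refine ⟨par.comp h'.hom, ?_, fun z hz hne => ?_⟩
  · show par (T' (T 1)) = 0
    rw [hl, ← sum_fv_univ, par_sum, Finset.card_univ, Fintype.card_fin, Nat.cast_mul]
    exact zero_mul _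
  · show par (T' z) = 1
    obtain ⟨g', U, hU, hU1⟩ := hz.map h'
    obtain ⟨U', hU', hl', hr'⟩ := hU.inv
    refine (D.frame hn hU' (y := T' z) (by rw [← hU1, hl']) fun e => hne ?_).2
    rw [← hr z, e]

variable (D)

theorem exists_orb_ne [Finite G] (hn : 2 ≤ n) : ∃ y, D.Orb y ∧ y ≠ 1 := by
  haveI : Fact (Nat.Prime 2) := ⟨Nat.prime_two⟩
  obtain ⟨S, hMS, hS⟩ := D.exists_sylow (D.elSub_isPGroup (one_invol (n := n))) (D.elSub_le_range _)
  let K : Subgroup (SP (2 * n)) :=
    { carrier := {a | par a.v = 0}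
      one_mem' := map_zero par
      mul_mem' := fun {a b} (ha : par a.v = 0) (hb : par b.v = 0) => by
        show par (a * b).v = 0
        have : par (b.v ∘ a.σ.symm) = par b.v := Equiv.sum_comp a.σ.symm b.v
        rw [show (a * b).v = a.v + b.v ∘ a.σ.symm from rfl, map_add, this, ha, hb, add_zero]
      inv_mem' := fun {a} (ha : par a.v = 0) => by
        show par (a.v ∘ a.σ) = 0
        exact (Equiv.sum_comp a.σ a.v).trans ha }
  let Q : Subgroup G := (S : Subgroup G) ⊓ K.map D.ι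
  let p₀ : Fin (2 * n) := ⟨0, by omega⟩
  have hu : D.b (fv p₀) ∈ (S : Subgroup G) := hMS ⟨_, rfl⟩
  have hpar : ∀ a b : SP (2 * n), par (a * b).v = par a.v + par b.v := fun a b => by
    rw [show (a * b).v = a.v + b.v ∘ a.σ.symm from rfl, map_add]
    exact congrArg (_ + ·) (Equiv.sum_comp a.σ.symm b.v)
  have hidx : Q.relIndex (S : Subgroup G) = 2 := by
    rw [Subgroup.relIndex, Subgroup.index_eq_two_iff]
    refine ⟨⟨D.b (fv p₀), hu⟩, fun c => ?_⟩
    obtain ⟨a, ha⟩ := hS c.2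
    have hmem : ∀ x : SP (2 * n), D.ι x ∈ K.map D.ι ↔ par x.v = 0 := fun x =>
      ⟨fun ⟨z, hz, e⟩ => D.inj e ▸ hz, fun hx => ⟨x, hx, rfl⟩⟩
    have e1 : (c * ⟨D.b (fv p₀), hu⟩ ∈ Q.subgroupOf (S : Subgroup G)) ↔ par a.v + 1 = 0 := by
      rw [Subgroup.mem_subgroupOf, Subgroup.mem_inf, Subgroup.coe_mul, ← ha]
      show (D.ι a * D.b (fv p₀) ∈ (S : Subgroup G) ∧ D.ι a * D.b (fv p₀) ∈ K.map D.ι) ↔ _
      rw [and_iff_right (by rw [ha]; exact mul_mem c.2 hu), D.b_eq, ← map_mul, hmem, hpar,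
        show par (SP.embV (fv p₀)).v = 1 from par_fv _]
    have e2 : (c ∈ Q.subgroupOf (S : Subgroup G)) ↔ par a.v = 0 := by
      rw [Subgroup.mem_subgroupOf, Subgroup.mem_inf, ← ha, hmem, and_iff_right_iff_imp]
      exact fun _ => ha ▸ c.2
    rw [e1, e2]
    rcases zmod2_cases (par a.v) with e | e <;> simp [e, Xor', two_eq]
  obtain ⟨w, hw, hT⟩ := H68.PF.extremal_transfer D.noTwo S (Q := Q) inf_le_left hidx
    (u := D.b (fv p₀)) (D.el_sq _ _)
  obtain ⟨g, hg, hgS⟩ := hT (D.elSub one_invol) (D.elSub_isPGroup _) (by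
    rintro _ ⟨v, rfl⟩
    refine Subgroup.mem_centralizer_singleton_iff.2 ?_
    rw [b, ← D.el_add, ← D.el_add, add_comm])
  obtain ⟨T, hT'⟩ := D.wc_range hn (g := g) fun v => hS (hgS _ ⟨v, rfl⟩)
  refine ⟨T 1, ⟨g, T, hT', rfl⟩, fun h1 => ?_⟩
  obtain ⟨s, -, hs⟩ := hT'.perm h1
  obtain ⟨x, hx, hxw⟩ := hw.2
  have h2 := hT' (fv p₀)
  rw [show D.el one_invol (fv p₀) = D.b (fv p₀) from rfl, hg, ← hxw,
    show D.el one_invol (T (fv p₀)) = D.b (T (fv p₀)) from rfl, D.b_eq, hs, fv_comp] at h2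
  have h3 : par x.v = 0 := hx
  rw [D.inj h2] at h3
  exact one_ne_zero ((par_fv (s p₀)).symm.trans h3)

/-- the non-trivial points of the orbit are all `e_p` or all `1 + e_p` -/
theorem orb_shape (hn : 2 ≤ n) {y : Vec (2 * n)} (hy : D.Orb y) (hy1 : y ≠ 1) :
    ∃ p, y = fv p ∨ y = 1 + fv p := by
  classical
  obtain ⟨f, hf0, hf⟩ := hy.functional hn
  let A : Finset (Fin (2 * n)) := univ.filter fun p => y p = 1
  let B : Finset (Fin (2 * n)) := univ.filter fun p => y p = 0
  have hy0 : y ≠ 0 := by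
    rintro rfl
    obtain ⟨g, T, h, h1⟩ := hy
    have := congrFun (h.injective (h1.trans h.zero.symm)) ⟨0, by omega⟩
    simp at this
  by_contra hno
  push Not at hno
  have hA : 1 < A.card := by
    by_contra h
    rcases Nat.lt_or_ge A.card 1 with h0 | h0
    · exact hy0 (by rw [vec_eq_sum y]; show ∑ q ∈ A, fv q = 0; rw [Finset.card_eq_zero.1 (show A.card = 0 by omega)]; rfl)
    · obtain ⟨p, hp⟩ := Finset.card_eq_one.1 (show A.card = 1 by omega)
      exact (hno p).1 (by rw [vec_eq_sum y]; show ∑ q ∈ A, fv q = _; rw [hp, Finset.sum_singleton])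
  have hB : 1 < B.card := by
    by_contra h
    rcases Nat.lt_or_ge B.card 1 with h0 | h0
    · refine hy1 (funext fun p => (zmod2_cases (y p)).resolve_left fun e => ?_)
      exact Finset.notMem_empty p (Finset.card_eq_zero.1 (show B.card = 0 by omega) ▸
        (Finset.mem_filter.2 ⟨mem_univ p, e⟩ : p ∈ B))
    · obtain ⟨p, hp⟩ := Finset.card_eq_one.1 (show B.card = 1 by omega)
      refine (hno p).2 (funext fun x => ?_)
      rw [Pi.add_apply, Pi.one_apply, fv_apply]
      by_cases hx : x = p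
      · subst hx
        have : x ∈ B := hp ▸ Finset.mem_singleton_self x
        rw [(Finset.mem_filter.1 this).2, if_pos rfl]; rfl
      · rw [if_neg hx, add_zero]
        refine (zmod2_cases (y x)).resolve_left fun e => hx ?_
        exact Finset.mem_singleton.1 (hp ▸ (Finset.mem_filter.2 ⟨mem_univ x, e⟩ : x ∈ B))
  obtain ⟨p, hp, p', hp', hpp⟩ := Finset.one_lt_card.1 hA
  obtain ⟨q, hq, q', hq', hqq⟩ := Finset.one_lt_card.1 hB
  replace hp := (Finset.mem_filter.1 hp).2
  replace hp' := (Finset.mem_filter.1 hp').2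
  replace hq := (Finset.mem_filter.1 hq).2
  replace hq' := (Finset.mem_filter.1 hq').2
  have key : ∀ z : Vec (2 * n), ∀ a c, z a = 1 → z c = 0 → D.Orb z → D.Orb (z + (fv a + fv c)) := by
    intro z a c ha hc hz
    have hac : a ≠ c := fun e => by rw [e, hc] at ha; exact absurd ha (by decide)
    convert hz.perm (Equiv.swap a c) using 1
    funext x
    rw [Equiv.symm_swap, Function.comp_apply, Pi.add_apply]
    rcases eq_or_ne x a with rfl | hxa
    · rw [Equiv.swap_apply_left, pair_left hac, ha, hc]; rfl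
    rcases eq_or_ne x c with rfl | hxc
    · rw [Equiv.swap_apply_right, pair_right hac, ha, hc]; rfl
    · rw [Equiv.swap_apply_of_ne_of_ne hxa hxc, Pi.add_apply, fv_of_ne hxa, fv_of_ne hxc, add_zero, add_zero]
  have hne : ∀ a c : Fin (2 * n), a ≠ c → y + (fv a + fv c) ≠ y := fun a c h e =>
    pair_ne_zero h (add_left_cancel (e.trans (add_zero y).symm))
  have hpq : ∀ a c, y a = 1 → y c = 0 → a ≠ c := fun a c ha hc e => by
    rw [e, hc] at ha; exact absurd ha (by decide)
  have h1 := hf _ (key y p q hp hq hy) (hne p q (hpq p q hp hq))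
  have h2 := hf _ (key y p' q' hp' hq' hy) (hne p' q' (hpq p' q' hp' hq'))
  have hne3 : y + (fv p + fv q) + (fv p' + fv q') ≠ y := fun e => by
    have := congrFun e p
    rw [Pi.add_apply, Pi.add_apply, pair_left (hpq p q hp hq), Pi.add_apply, fv_of_ne hpp,
      fv_of_ne (hpq p q' hp hq'), hp] at this
    simp at this
  have h3 := hf _ (key _ p' q' (by
      rw [Pi.add_apply, Pi.add_apply, fv_of_ne hpp.symm, fv_of_ne (hpq p' q hp' hq), hp']; rfl) (by
      rw [Pi.add_apply, Pi.add_apply, fv_of_ne (hpq p q' hp hq').symm, fv_of_ne hqq.symm, hq']; rfl)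
    (key y p q hp hq hy)) hne3
  rw [map_add, map_add, hf0, zero_add] at h3
  rw [map_add, hf0, zero_add] at h1 h2
  rw [h1, h2] at h3
  exact absurd h3 (by decide)

theorem not_both (hn : 2 ≤ n) {i j : Fin (2 * n)} (hi : D.Orb (fv i)) (hj : D.Orb (1 + fv j)) : False := by
  obtain ⟨k, hk⟩ := Fintype.exists_ne_of_one_lt_card (by rw [Fintype.card_fin]; omega) i
  have hk1 : D.Orb (fv k) := by
    have := hi.perm (Equiv.swap i k)
    rwa [fv_comp, Equiv.swap_apply_left] at this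
  have hk2 : D.Orb (1 + fv k) := by
    have h := hj.perm (Equiv.swap j k)
    rwa [show (1 + fv j) ∘ (Equiv.swap j k).symm = 1 + (fv j ∘ (Equiv.swap j k).symm) from rfl, fv_comp,
      Equiv.swap_apply_left] at h
  obtain ⟨f, hf0, hf⟩ := hi.functional hn
  have h1 := hf 1 D.orb_one fun e => by
    have := congrFun e k
    rw [fv_of_ne hk, Pi.one_apply] at this
    exact absurd this (by decide)
  have h2 := hf _ hk1 fun e => hk (by
    by_contra h; have := congrFun e k; rw [fv_same, fv_of_ne h] at this; exact absurd this (by decide))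
  have h3 := hf _ hk2 fun e => by
    have := congrFun e k
    rw [Pi.add_apply, Pi.one_apply, fv_same, fv_of_ne hk] at this
    obtain ⟨m, hm, hm'⟩ : ∃ m : Fin (2 * n), m ≠ i ∧ m ≠ k := by
      obtain ⟨m, -, hm⟩ := Finset.exists_mem_notMem_of_card_lt_card (s := ({i, k} : Finset _)) (t := univ)
        (by rw [Finset.card_univ, Fintype.card_fin]; have := Finset.card_le_two (a := i) (b := k); omega)
      simp only [Finset.mem_insert, Finset.mem_singleton, not_or] at hm
      exact ⟨m, hm.1, hm.2⟩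
    have h' := congrFun e m
    rw [Pi.add_apply, Pi.one_apply, fv_of_ne hm', fv_of_ne hm, add_zero] at h'
    exact absurd h' (by decide)
  rw [map_add, h1, h2] at h3
  exact absurd h3 (by decide)

end Setup

end H37.Kondo
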