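import Cfsg.Agent.H37.Kondo.Count

/-!
The centralizer of `(1 2)(3 4)⋯` in an alternating group as signed permutations.
-/

set_option autoImplicit false

namespace H37.Kondo

open Equiv Finset

variable {n r : ℕ}

instance {N : ℕ} : DecidableEq (SP N) := fun a b =>
  decidable_of_iff (a.v = b.v ∧ a.σ = b.σ) ⟨fun h => SP.ext h.1 h.2, fun h => h ▸ ⟨rfl, rfl⟩⟩

/-- the points -/
abbrev Pts (n r : ℕ) : Type := (Fin (2 * n) × ZMod 2) ⊕ Fin r

/-- the standard involution -/
def flipAll (n r : ℕ) : Perm (Pts n r) :=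
  Equiv.sumCongr (Equiv.prodCongrRight fun _ => Equiv.addRight (1 : ZMod 2)) (Equiv.refl _)

theorem flipAll_inl (p : Fin (2 * n)) (x : ZMod 2) :
    flipAll n r (.inl (p, x)) = .inl (p, x + 1) := rfl

theorem flipAll_inr (i : Fin r) : flipAll n r (.inr i) = .inr i := rfl

theorem flipAll_sq : flipAll n r * flipAll n r = 1 := by
  ext1 z
  rw [Perm.mul_apply, Perm.one_apply]
  rcases z with ⟨p, x⟩ | i
  · rw [flipAll_inl, flipAll_inl, add_assoc, two_eq, add_zero]
  · rfl

theorem support_flipAll : (flipAll n r).support.card = 4 * n := by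
  have e : (flipAll n r).support = (univ : Finset (Fin (2 * n) × ZMod 2)).map Function.Embedding.inl := by
    ext z
    rw [Perm.mem_support]
    rcases z with ⟨p, x⟩ | i
    · simp [flipAll_inl]
    · simp [flipAll_inr]
  rw [e, Finset.card_map, Finset.card_univ, Fintype.card_prod, Fintype.card_fin, ZMod.card]
  omega

/-- signed permutations of the pairs -/
def bigPerm (a : SP (2 * n)) : Perm (Fin (2 * n) × ZMod 2) :=
  (Equiv.prodCongrRight fun p => Equiv.addRight (a.v p)) * Equiv.prodCongrLeft (fun _ : ZMod 2 => a.σ)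

theorem bigPerm_apply (a : SP (2 * n)) (p : Fin (2 * n)) (x : ZMod 2) :
    bigPerm a (p, x) = (a.σ p, x + a.v (a.σ p)) := rfl

theorem sign_addRight : ∀ c : ZMod 2, Perm.sign (Equiv.addRight c) = if c = 0 then 1 else -1 := by decide

theorem sign_bigPerm (a : SP (2 * n)) : Perm.sign (bigPerm a) = if par a.v = 0 then 1 else -1 := by
  rw [bigPerm, map_mul, Perm.sign_prodCongrLeft, Finset.prod_const, Finset.card_univ, ZMod.card,
    Int.units_sq, mul_one, Perm.sign_prodCongrRight]
  simp only [sign_addRight, par_apply]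
  have key : ∀ S : Finset (Fin (2 * n)), (∏ p ∈ S, if a.v p = 0 then (1 : ℤˣ) else -1) =
      if ∑ p ∈ S, a.v p = 0 then 1 else -1 := by
    intro S
    induction S using Finset.induction_on with
    | empty => simp
    | insert p S hp ih =>
      rw [Finset.prod_insert hp, Finset.sum_insert hp, ih]
      rcases zmod2_cases (a.v p) with h | h <;> rcases zmod2_cases (∑ p ∈ S, a.v p) with h' | h' <;>
        simp [h, h', two_eq]
  exact key univ

/-- the action on the points -/
def lift (r : ℕ) (hr : 2 ≤ r) : SP (2 * n) →* Perm (Pts n r) where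
  toFun a := Equiv.sumCongr (bigPerm a)
    (if par a.v = 0 then 1 else Equiv.swap ⟨0, by omega⟩ ⟨1, by omega⟩)
  map_one' := by
    ext1 z
    rcases z with ⟨p, x⟩ | i
    · show Sum.inl ((1 : SP (2 * n)).σ p, x + (1 : SP (2 * n)).v ((1 : SP (2 * n)).σ p)) = _
      rw [SP.one_v, SP.one_σ, Pi.zero_apply, add_zero]; rfl
    · show Sum.inr ((if par (1 : SP (2 * n)).v = 0 then (1 : Perm (Fin r)) else _) i) = _
      rw [SP.one_v, map_zero, if_pos rfl]; rfl
  map_mul' a b := by
    have e : par (a * b).v = par a.v + par b.v := by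
      rw [show (a * b).v = a.v + b.v ∘ a.σ.symm from rfl, map_add, par_comp]
    ext1 z
    rcases z with ⟨p, x⟩ | i
    · show Sum.inl ((a * b).σ p, x + (a * b).v ((a * b).σ p)) =
        Sum.inl (a.σ (b.σ p), x + b.v (b.σ p) + a.v (a.σ (b.σ p)))
      rw [SP.mul_σ, SP.mul_v, Perm.mul_apply, Equiv.symm_apply_apply]
      congr 2
      abel
    · show Sum.inr _ = Sum.inr _
      congr 1
      rw [e]
      rcases zmod2_cases (par a.v) with h | h <;> rcases zmod2_cases (par b.v) with h' | h' <;>
        simp [h, h', two_eq]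

theorem lift_inl (hr : 2 ≤ r) (a : SP (2 * n)) (p : Fin (2 * n)) (x : ZMod 2) :
    lift r hr a (.inl (p, x)) = .inl (a.σ p, x + a.v (a.σ p)) := rfl

theorem lift_inr (hr : 2 ≤ r) (a : SP (2 * n)) (i : Fin r) :
    lift r hr a (.inr i) = .inr ((if par a.v = 0 then 1 else Equiv.swap ⟨0, by omega⟩ ⟨1, by omega⟩ : Perm (Fin r)) i) := rfl

theorem sign_lift (hr : 2 ≤ r) (a : SP (2 * n)) : Perm.sign (lift r hr a) = 1 := by
  show Perm.sign (Equiv.sumCongr (bigPerm a) _) = 1
  rw [Perm.sign_sumCongr, sign_bigPerm]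
  split
  · rw [map_one, one_mul]
  · rw [Perm.sign_swap (by simp)]; decide

theorem lift_comm (hr : 2 ≤ r) (a : SP (2 * n)) : lift r hr a * flipAll n r = flipAll n r * lift r hr a := by
  ext1 z
  rw [Perm.mul_apply, Perm.mul_apply]
  rcases z with ⟨p, x⟩ | i
  · rw [flipAll_inl, lift_inl, lift_inl, flipAll_inl]
    congr 2
    abel
  · rw [flipAll_inr, lift_inr, flipAll_inr]

theorem lift_top (hr : 2 ≤ r) : lift r hr (SP.top : SP (2 * n)) = flipAll n r := by
  ext1 z
  rcases z with ⟨p, x⟩ | i
  · rfl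
  · rw [lift_inr, flipAll_inr]
    rw [show (SP.top : SP (2 * n)).v = 1 from rfl, par_one, if_pos rfl]; rfl

theorem exists_inl {g : Perm (Pts n r)} (hg : g * flipAll n r = flipAll n r * g) (p : Fin (2 * n)) (x : ZMod 2) :
    ∃ q y, g (.inl (p, x)) = .inl (q, y) := by
  rcases h : g (.inl (p, x)) with ⟨q, y⟩ | i
  · exact ⟨q, y, rfl⟩
  · exfalso
    have e := congrArg (fun f : Perm (Pts n r) => f (.inl (p, x))) hg
    simp only [Perm.mul_apply, flipAll_inl, h, flipAll_inr] at e
    have := g.injective (e.trans h.symm)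
    simp at this

/-- the induced signed permutation -/
noncomputable def restr (g : Subgroup.centralizer ({flipAll n r} : Set (Perm (Pts n r)))) : SP (2 * n) :=
  have hg : g.1 * flipAll n r = flipAll n r * g.1 := Subgroup.mem_centralizer_singleton_iff.1 g.2
  let s : Fin (2 * n) → Fin (2 * n) := fun p => (exists_inl hg p 0).choose
  have hs : Function.Injective s := by
    intro p p' h
    obtain ⟨y, hy⟩ := (exists_inl hg p 0).choose_spec
    obtain ⟨y', hy'⟩ := (exists_inl hg p' 0).choose_spec
    by_contra hne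
    rcases eq_or_ne y y' with e | e
    · rw [e, show (exists_inl hg p 0).choose = (exists_inl hg p' 0).choose from h, ← hy'] at hy
      have := g.1.injective hy
      simp only [Sum.inl.injEq, Prod.mk.injEq] at this
      exact hne this.1
    · have e2 : g.1 (.inl (p, 1)) = g.1 (.inl (p', 0)) := by
        have := congrArg (fun f : Perm (Pts n r) => f (.inl (p, 0))) hg
        simp only [Perm.mul_apply, flipAll_inl, zero_add] at this
        rw [hy, flipAll_inl] at this
        rw [this, hy', show (exists_inl hg p 0).choose = (exists_inl hg p' 0).choose from h]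
        congr 2
        exact (show ∀ a c : ZMod 2, a ≠ c → a + 1 = c by decide) y y' e
      have := g.1.injective e2
      simp only [Sum.inl.injEq, Prod.mk.injEq] at this
      exact one_ne_zero this.2
  ⟨fun q => Sum.elim Prod.snd (fun _ => 0) (g.1 (.inl ((Equiv.ofBijective s (Finite.injective_iff_bijective.1 hs)).symm q, 0))),
    Equiv.ofBijective s (Finite.injective_iff_bijective.1 hs)⟩

theorem restr_spec (g : Subgroup.centralizer ({flipAll n r} : Set (Perm (Pts n r)))) (p : Fin (2 * n)) (x : ZMod 2) :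
    g.1 (.inl (p, x)) = .inl ((restr g).σ p, x + (restr g).v ((restr g).σ p)) := by
  have hg : g.1 * flipAll n r = flipAll n r * g.1 := Subgroup.mem_centralizer_singleton_iff.1 g.2
  have key : g.1 (.inl (p, 0)) = .inl ((restr g).σ p, (restr g).v ((restr g).σ p)) := by
    obtain ⟨y, h⟩ := (exists_inl hg p 0).choose_spec
    have hs : (restr g).σ p = (exists_inl hg p 0).choose := rfl
    have hv : (restr g).v ((restr g).σ p) = Sum.elim Prod.snd (fun _ => 0) (g.1 (.inl (p, 0))) := by
      show Sum.elim Prod.snd (fun _ => 0) (g.1 (.inl ((restr g).σ.symm ((restr g).σ p), 0))) = _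
      rw [Equiv.symm_apply_apply]
    rw [hv, hs]
    conv_lhs => rw [h]
    congr 2
    rw [h]; rfl
  rcases zmod2_cases x with rfl | rfl
  · rw [zero_add, key]
  · have := congrArg (fun f : Perm (Pts n r) => f (.inl (p, 0))) hg
    simp only [Perm.mul_apply, flipAll_inl, key] at this
    rw [zero_add] at this
    rw [this, add_comm]

theorem SP_ext_of_apply {a b : SP (2 * n)} (h : ∀ p, a.σ p = b.σ p ∧ a.v (a.σ p) = b.v (b.σ p)) : a = b := by
  have hσ : a.σ = b.σ := Equiv.ext fun p => (h p).1
  refine SP.ext (funext fun q => ?_) hσ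
  have := (h (a.σ.symm q)).2
  rw [Equiv.apply_symm_apply, ← hσ, Equiv.apply_symm_apply] at this
  exact this

/-- restriction as a homomorphism -/
noncomputable def restrHom :
    Subgroup.centralizer ({flipAll n r} : Set (Perm (Pts n r))) →* SP (2 * n) :=
  MonoidHom.mk' restr fun g h => SP_ext_of_apply fun p => by
    have e := restr_spec (g * h) p 0
    rw [Subgroup.coe_mul, Perm.mul_apply, restr_spec h p 0, restr_spec g _ _] at e
    simp only [Sum.inl.injEq, Prod.mk.injEq, zero_add] at e
    refine ⟨?_, ?_⟩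
    · rw [SP.mul_σ, Perm.mul_apply]; exact e.1.symm
    · rw [← e.2, SP.mul_σ, SP.mul_v, Perm.mul_apply, Equiv.symm_apply_apply, add_comm]

theorem restr_lift (hr : 2 ≤ r) (a : SP (2 * n)) (h) : restr ⟨lift r hr a, h⟩ = a := by
  refine SP_ext_of_apply fun p => ?_
  have e := restr_spec ⟨lift r hr a, h⟩ p 0
  rw [lift_inl] at e
  simp only [Sum.inl.injEq, Prod.mk.injEq, zero_add] at e
  exact ⟨e.1.symm, e.2.symm⟩

theorem cube_of_even : ∀ r, r = 2 ∨ r = 3 → ∀ s : Perm (Fin r), Perm.sign s = 1 → s ^ 3 = 1 := by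
  rintro r (rfl | rfl) <;> decide

theorem ker_cube (hr : r = 2 ∨ r = 3) (g : Subgroup.centralizer ({flipAll n r} : Set (Perm (Pts n r))))
    (hg : restrHom g = 1) (hs : Perm.sign g.1 = 1) : g ^ 3 = 1 := by
  have hfix : ∀ p x, g.1 (.inl (p, x)) = .inl (p, x) := fun p x => by
    rw [restr_spec g p x, show restr g = 1 from hg, SP.one_σ, SP.one_v, Perm.one_apply, Pi.zero_apply, add_zero]
  have hin : ∀ i : Fin r, ∃ j, g.1 (.inr i) = .inr j := fun i => by
    rcases h : g.1 (.inr i) with ⟨p, x⟩ | j
    · have := g.1.injective (h.trans (hfix p x).symm); simp at this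
    · exact ⟨j, rfl⟩
  choose s hs' using hin
  have hinj : Function.Injective s := fun i i' h => Sum.inr.inj (g.1.injective (by rw [hs', hs', h]))
  let S : Perm (Fin r) := Equiv.ofBijective s (Finite.injective_iff_bijective.1 hinj)
  have hg' : g.1 = Perm.sumCongr 1 S := by
    ext1 z
    rcases z with ⟨p, x⟩ | i
    · exact hfix p x
    · exact hs' i
  rw [hg'] at hs
  have h1 : Perm.sign S = 1 := by rwa [Perm.sign_sumCongr, map_one, one_mul] at hs
  apply Subtype.ext
  rw [SubmonoidClass.coe_pow, hg', pow_succ, pow_two, Perm.sumCongr_mul, Perm.sumCongr_mul, one_mul, one_mul,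
    ← pow_two, ← pow_succ, cube_of_even r hr S h1, Perm.sumCongr_one]
  rfl

theorem center_SP {N : ℕ} (hN : 2 ≤ N) (a : SP N) (ha : ∀ b, a * b = b * a) : a = 1 ∨ a = SP.top := by
  have hσ : a.σ = 1 := by
    ext1 p
    have h1 : a * SP.embV (fv p) * a⁻¹ = SP.embV (fv p) := by rw [ha, mul_inv_cancel_right]
    rw [SP.conj_embV, fv_comp] at h1
    by_contra hne
    have := congrFun (SP.embV_injective h1) p
    rw [fv_same, fv_of_ne (fun e => hne (by rw [Perm.one_apply]; exact e.symm))] at this
    exact zero_ne_one this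
  let p₀ : Fin N := ⟨0, by omega⟩
  have hconst : ∀ q, a.v q = a.v p₀ := by
    intro q
    have h1 : a * SP.embP (Equiv.swap p₀ q) = SP.embP (Equiv.swap p₀ q) * a := ha _
    have h2 := congrFun (congrArg SP.v h1) q
    have h3 : a.v q + 0 = 0 + a.v ((Equiv.swap p₀ q).symm q) := h2
    rwa [add_zero, zero_add, Equiv.symm_swap, Equiv.swap_apply_right] at h3
  rcases zmod2_cases (a.v p₀) with h | h
  · exact Or.inl (SP.ext (funext fun q => (hconst q).trans h) hσ)
  · exact Or.inr (SP.ext (funext fun q => (hconst q).trans h) hσ)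

theorem exists_points (hr : r = 2 ∨ r = 3) (α : ↥(alternatingGroup (Fin (4 * n + r)))) (hα : orderOf α = 2)
    (hα4 : (α : Perm (Fin (4 * n + r))).support.card = 4 * n) :
    ∃ e : Fin (4 * n + r) ≃ Pts n r, e.permCongr (α : Perm (Fin (4 * n + r))) = flipAll n r := by
  classical
  haveI : Fact (Nat.Prime 2) := ⟨Nat.prime_two⟩
  have e₀ : Fin (4 * n + r) ≃ Pts n r := Fintype.equivOfCardEq (by simp; omega)
  set β := e₀.permCongr (α : Perm (Fin (4 * n + r))) with hβ
  have hα2 : orderOf (α : Perm (Fin (4 * n + r))) = 2 := by rw [Subgroup.orderOf_coe, hα]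
  have hβo : orderOf β = 2 := by
    rw [hβ, show e₀.permCongr (α : Perm (Fin (4 * n + r))) = e₀.permCongrHom.toMonoidHom (α : Perm (Fin (4 * n + r))) from rfl,
      orderOf_injective _ e₀.permCongrHom.injective, hα2]
  have hsupp : β.support.card = 4 * n := by
    rw [← hα4]
    have : β.support = (α : Perm (Fin (4 * n + r))).support.map e₀.toEmbedding := by
      ext z
      rw [Perm.mem_support, Finset.mem_map_equiv, Perm.mem_support, hβ, Equiv.permCongr_apply, ne_eq, ne_eq,
        Equiv.apply_eq_iff_eq_symm_apply]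
    rw [this, Finset.card_map]
  have hfne : flipAll n r ≠ 1 := fun h => by
    have h4 := support_flipAll (n := n) (r := r)
    rw [h, Perm.support_one, Finset.card_empty] at h4
    have : (α : Perm (Fin (4 * n + r))).support.card = 0 := by omega
    rw [Finset.card_eq_zero, Perm.support_eq_empty_iff] at this
    rw [this, orderOf_one] at hα2
    exact absurd hα2 (by norm_num)
  have hfo : orderOf (flipAll n r) = 2 := orderOf_eq_prime (by rw [sq, flipAll_sq]) hfne
  have htype : β.cycleType = (flipAll n r).cycleType := by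
    obtain ⟨k, hk⟩ := Perm.cycleType_prime_order (σ := β) (hβo.symm ▸ Nat.prime_two)
    obtain ⟨l, hl⟩ := Perm.cycleType_prime_order (σ := flipAll n r) (hfo.symm ▸ Nat.prime_two)
    have h1 := Perm.sum_cycleType β
    have h2 := Perm.sum_cycleType (flipAll n r)
    rw [hk, hβo, Multiset.sum_replicate, hsupp, smul_eq_mul] at h1
    rw [hl, hfo, Multiset.sum_replicate, support_flipAll, smul_eq_mul] at h2
    rw [hk, hl, hβo, hfo]
    congr 1
    omega
  obtain ⟨τ, hτ⟩ := isConj_iff.1 (Perm.isConj_iff_cycleType_eq.2 htype)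
  refine ⟨e₀.trans τ, ?_⟩
  rw [← hτ, hβ]
  ext1 z
  simp [Equiv.permCongr_apply]

set_option maxHeartbeats 2000000 in
theorem exists_setup (hn : 1 ≤ n) (hr : r = 2 ∨ r = 3) (α : ↥(alternatingGroup (Fin (4 * n + r))))
    (hα : orderOf α = 2) (hα4 : (α : Perm (Fin (4 * n + r))).support.card = 4 * n)
    {G : Type*} [Group G] [Finite G] (h2 : ∀ H : Subgroup G, H.Normal → H.index ≠ 2)
    (t : G) (ht : orderOf t = 2) (S : Sylow 2 G) (htS : t ∈ (S : Subgroup G))
    (htZ : ∀ s ∈ (S : Subgroup G), s * t = t * s)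
    (hiso : Nonempty (↥(Subgroup.centralizer ({t} : Set G)) ≃*
      ↥(Subgroup.centralizer ({α} : Set ↥(alternatingGroup (Fin (4 * n + r))))))) :
    Nonempty (Setup G n) := by
  classical
  haveI : Fact (Nat.Prime 2) := ⟨Nat.prime_two⟩
  have hr2 : 2 ≤ r := by omega
  obtain ⟨e, he⟩ := exists_points hr α hα hα4
  obtain ⟨φ⟩ := hiso
  let A := alternatingGroup (Fin (4 * n + r))
  let C := Subgroup.centralizer ({α} : Set A)
  -- the centralizer inside the permutations of the points
  let up : C →* Subgroup.centralizer ({flipAll n r} : Set (Perm (Pts n r))) :=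
    (e.permCongrHom.toMonoidHom.comp (A.subtype.comp C.subtype)).codRestrict _ fun g => by
      refine Subgroup.mem_centralizer_singleton_iff.2 ?_
      rw [← he]
      show e.permCongrHom (g.1 : Perm (Fin (4 * n + r))) * e.permCongrHom (α : Perm (Fin (4 * n + r))) =
        e.permCongrHom (α : Perm (Fin (4 * n + r))) * e.permCongrHom (g.1 : Perm (Fin (4 * n + r)))
      rw [← map_mul, ← map_mul]
      congr 1
      exact congrArg Subtype.val (Subgroup.mem_centralizer_singleton_iff.1 g.2)
  have hsign : ∀ s : Perm (Pts n r), Perm.sign (e.symm.permCongr s) = Perm.sign s := fun s => Perm.sign_permCongr _ _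
  have hmem : ∀ a : SP (2 * n), e.symm.permCongr (lift r hr2 a) ∈ A := fun a => by
    rw [Perm.mem_alternatingGroup, hsign, sign_lift]
  let down : SP (2 * n) →* C :=
    (((e.symm.permCongrHom.toMonoidHom.comp (lift r hr2)).codRestrict A hmem).codRestrict C fun a => by
      refine Subgroup.mem_centralizer_singleton_iff.2 (Subtype.ext ?_)
      show e.symm.permCongrHom (lift r hr2 a) * (α : Perm (Fin (4 * n + r))) =
        (α : Perm (Fin (4 * n + r))) * e.symm.permCongrHom (lift r hr2 a)
      have hα' : (α : Perm (Fin (4 * n + r))) = e.symm.permCongrHom (flipAll n r) := by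
        rw [← he]; ext1 z; simp [Equiv.permCongr_apply]
      rw [hα', ← map_mul, ← map_mul, lift_comm])
  let ρC : C →* SP (2 * n) := restrHom.comp up
  have hρd : ∀ a, ρC (down a) = a := fun a => by
    have h : up (down a) = ⟨lift r hr2 a, Subgroup.mem_centralizer_singleton_iff.2 (lift_comm hr2 a)⟩ := by
      apply Subtype.ext
      show e.permCongr (e.symm.permCongr (lift r hr2 a)) = lift r hr2 a
      ext1 z; simp [Equiv.permCongr_apply]
    show restr (up (down a)) = a
    rw [h]; exact restr_lift hr2 a _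
  have hupinj : Function.Injective up := fun g g' h => by
    apply Subtype.ext; apply Subtype.ext
    exact e.permCongrHom.injective (congrArg Subtype.val h)
  have hcube : ∀ g : C, ρC g = 1 → g ^ 3 = 1 := fun g hg => hupinj (by
    rw [map_pow, map_one]
    refine ker_cube hr _ hg ?_
    show Perm.sign (e.permCongr (g.1 : Perm (Fin (4 * n + r)))) = 1
    rw [Perm.sign_permCongr]
    exact Perm.mem_alternatingGroup.1 g.1.2)
  have hodd : Odd (Nat.card ρC.ker) := by
    rw [← Nat.not_even_iff_odd, even_iff_two_dvd]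
    intro h
    obtain ⟨x, hx⟩ := exists_prime_orderOf_dvd_card' 2 h
    have h3 : orderOf x ∣ 3 := orderOf_dvd_of_pow_eq_one (Subtype.ext (by
      rw [SubmonoidClass.coe_pow]; exact hcube x.1 x.2))
    rw [hx] at h3
    norm_num at h3
  let T : Subgroup.centralizer ({t} : Set G) := ⟨t, Subgroup.mem_centralizer_singleton_iff.2 rfl⟩
  have hz : φ T = down SP.top := by
    have hcen : ∀ g : C, φ T * g = g * φ T := fun g => by
      obtain ⟨x, rfl⟩ := φ.surjective g
      rw [← map_mul, ← map_mul]
      congr 1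
      exact Subtype.ext (Subgroup.mem_centralizer_singleton_iff.1 x.2).symm
    have hzo : orderOf (φ T) = 2 := by
      rw [MulEquiv.orderOf_eq, ← Subgroup.orderOf_coe]; exact ht
    have hz2 : φ T * φ T = 1 := by rw [← sq, ← hzo, pow_orderOf_eq_one]
    rcases center_SP (by omega) (ρC (φ T)) (fun b => by
      rw [← hρd b, ← map_mul, ← map_mul, hcen]) with h | h
    · exfalso
      have h3 := hcube _ h
      rw [pow_succ, pow_two, hz2, one_mul] at h3
      rw [h3, orderOf_one] at hzo
      exact absurd hzo (by norm_num)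
    · have h1 : ρC (φ T * down SP.top) = 1 := by
        rw [map_mul, hρd, h]
        show (SP.top : SP (2 * n)) * SP.top = 1
        rw [SP.top, ← SP.embV_add, vec_self]; rfl
      have htop : down SP.top * down SP.top = 1 := by
        rw [← map_mul, SP.top, ← SP.embV_add, vec_self]; exact map_one down
      have h2' : (φ T * down SP.top) * (φ T * down SP.top) = 1 := by
        rw [mul_assoc, ← mul_assoc (down SP.top), ← hcen (down SP.top), mul_assoc (φ T), htop, mul_one, hz2]
      have h3 := hcube _ h1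
      rw [pow_succ, pow_two, h2', one_mul] at h3
      calc φ T = φ T * (down SP.top * down SP.top) := by rw [htop, mul_one]
        _ = down SP.top := by rw [← mul_assoc, h3, one_mul]
  let ι : SP (2 * n) →* G := (Subgroup.centralizer ({t} : Set G)).subtype.comp (φ.symm.toMonoidHom.comp down)
  have hinj : Function.Injective ι := fun a b h => by
    rw [← hρd a, ← hρd b]
    exact congrArg ρC (φ.symm.injective (Subtype.ext h))
  let ρ : Subgroup.centralizer ({t} : Set G) →* SP (2 * n) := ρC.comp φ.toMonoidHom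
  have hρι : ∀ x h, ρ ⟨ι x, h⟩ = x := fun x h => by
    show ρC (φ ⟨(φ.symm (down x) : G), h⟩) = x
    rw [show (⟨(φ.symm (down x) : G), h⟩ : Subgroup.centralizer ({t} : Set G)) = φ.symm (down x) from Subtype.ext rfl,
      φ.apply_symm_apply, hρd]
  have hodd' : Odd (Nat.card ρ.ker) := by
    have e1 : Nat.card ρ.ker = Nat.card ρC.ker := Nat.card_congr
      ⟨fun x => ⟨φ x.1, x.2⟩, fun y => ⟨φ.symm y.1, by
        show ρC (φ (φ.symm y.1)) = 1
        rw [φ.apply_symm_apply]; exact y.2⟩,
        fun x => Subtype.ext (φ.symm_apply_apply x.1), fun y => Subtype.ext (φ.apply_symm_apply y.1)⟩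
    rw [e1]; exact hodd
  refine ⟨⟨t, ι, hinj, ?_, ρ, hρι, hodd', h2, ?_⟩⟩
  · show (φ.symm (down SP.top) : G) = t
    rw [← hz, φ.symm_apply_apply]
  · -- a Sylow subgroup inside the image
    let K := Subgroup.centralizer ({t} : Set G)
    have hSK : (S : Subgroup G) ≤ K := fun s hs => Subgroup.mem_centralizer_singleton_iff.2 (htZ s hs)
    let R : Subgroup K := (φ.symm.toMonoidHom.comp down).range
    have hρR : Function.Bijective (fun x : R => ρ x.1) := by
      refine ⟨?_, fun a => ⟨⟨_, a, rfl⟩, by show ρC (φ (φ.symm (down a))) = a; rw [φ.apply_symm_apply, hρd]⟩⟩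
      rintro ⟨_, a, rfl⟩ ⟨_, b, rfl⟩ h
      have : a = b := by
        rw [← hρd a, ← hρd b]
        have h' : ρC (φ (φ.symm (down a))) = ρC (φ (φ.symm (down b))) := h
        rwa [φ.apply_symm_apply, φ.apply_symm_apply] at h'
      subst this; rfl
    have hRcard : Nat.card R = Nat.card (SP (2 * n)) := Nat.card_eq_of_bijective _ hρR
    have hidx : R.index = Nat.card ρ.ker := by
      have h1 := R.card_mul_index
      have h2 := ρ.ker.card_mul_index
      rw [Subgroup.index_ker] at h2
      have h3 : Nat.card ρ.range = Nat.card (SP (2 * n)) := by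
        rw [MonoidHom.range_eq_top.2 fun a => ⟨_, hρι a (Subgroup.mem_centralizer_singleton_iff.2 (by
          show (φ.symm (down a) : G) * t = t * (φ.symm (down a) : G)
          exact Subgroup.mem_centralizer_singleton_iff.1 (φ.symm (down a)).2))⟩, Subgroup.card_top]
      rw [h3, ← h1, hRcard, mul_comm] at h2
      exact (Nat.eq_of_mul_eq_mul_left Nat.card_pos h2).symm
    let PK : Sylow 2 K := S.subtype hSK
    obtain ⟨PR⟩ : Nonempty (Sylow 2 R) := inferInstance
    have hPR : ¬ 2 ∣ ((PR : Subgroup R).map R.subtype).index := by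
      rw [Subgroup.index_map_subtype, hidx, ← even_iff_two_dvd, Nat.even_mul]
      push Not
      exact ⟨by rw [even_iff_two_dvd]; exact PR.not_dvd_index, Nat.not_even_iff_odd.2 hodd'⟩
    let PR' : Sylow 2 K := (PR.isPGroup'.map R.subtype).toSylow hPR
    obtain ⟨k, hk⟩ := MulAction.exists_smul_eq K PR' PK
    refine ⟨(k : G)⁻¹ • S, fun x hx => ?_⟩
    rw [Sylow.coe_subgroup_smul, Subgroup.mem_pointwise_smul_iff_inv_smul_mem] at hx
    simp only [map_inv, inv_inv, MulAut.smul_def, MulAut.conj_apply] at hx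
    have hxK : x ∈ K := by
      have h1 := hSK hx
      have h2 : x = (k : G)⁻¹ * ((k : G) * x * (k : G)⁻¹) * (k : G) := by group
      rw [h2]; exact mul_mem (mul_mem (inv_mem k.2) h1) k.2
    have h3 : k * ⟨x, hxK⟩ * k⁻¹ ∈ (PK : Subgroup K) := hx
    rw [← hk, Sylow.coe_subgroup_smul] at h3
    obtain ⟨y, hy, hye⟩ := h3
    have hyx : y = ⟨x, hxK⟩ := (MulAut.conj k).injective hye
    subst hyx
    obtain ⟨z, -, hze⟩ := hy
    obtain ⟨a, ha⟩ := z.2
    refine ⟨a, ?_⟩
    have : (z : K) = ⟨x, hxK⟩ := hze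
    rw [← ha] at this
    exact congrArg Subtype.val this

theorem chi_small : ∀ (v : Vec (2 * 1)) (s : Perm (Fin (2 * 1))),
    (⟨v, s⟩ : SP (2 * 1)) * ⟨v, s⟩ = 1 → (if par v = 0 then (1 : ℤˣ) else -1) * Perm.sign s = 1 →
    (v = 0 ∧ s = 1) ∨ (v = 1 ∧ s = 1) := by decide

theorem count_one {G : Type*} [Group G] [Finite G] (D : Setup G 1) :
    Nat.card {c : ConjClasses G // ∃ x ∈ c.carrier, orderOf x = 2} = 1 := by
  classical
  haveI : Fact (Nat.Prime 2) := ⟨Nat.prime_two⟩
  let χ : SP (2 * 1) →* ℤˣ := MonoidHom.mk' (fun a => (if par a.v = 0 then (1 : ℤˣ) else -1) * Perm.sign a.σ)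
    (fun a b => by
      have e : par (a * b).v = par a.v + par b.v := by
        rw [show (a * b).v = a.v + b.v ∘ a.σ.symm from rfl, map_add, par_comp]
      rw [e, SP.mul_σ, map_mul]
      rcases zmod2_cases (par a.v) with h | h <;> rcases zmod2_cases (par b.v) with h' | h' <;>
        simp [h, h', two_eq])
  obtain ⟨S, hMS, hS⟩ := D.exists_sylow (D.elSub_isPGroup (Setup.one_invol (n := 1))) (D.elSub_le_range _)
  obtain ⟨Q, hQS, hQi, hQχ⟩ := D.exists_index_two S hS χ (a₀ := phi Setup.one_invol (fv ⟨0, by norm_num⟩))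
    (hMS ⟨_, rfl⟩) (by
      rw [phi_eq_embV Setup.one_invol fun _ => rfl]
      show (if par (fv (⟨0, by norm_num⟩ : Fin (2 * 1))) = 0 then (1 : ℤˣ) else -1) * Perm.sign (1 : Perm (Fin (2 * 1))) = -1
      rw [par_fv, if_neg one_ne_zero, map_one, mul_one])
  have hall : ∀ x : G, orderOf x = 2 → IsConj x D.t := by
    intro x hx
    have hxx : x * x = 1 := by rw [← sq, ← hx, pow_orderOf_eq_one]
    obtain ⟨w, hw, hT⟩ := H68.PF.extremal_transfer D.noTwo S hQS hQi hxx
    obtain ⟨g, hg, -⟩ := hT ⊥ IsPGroup.of_bot bot_le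
    obtain ⟨⟨v, s⟩, ha⟩ := hS (hQS hw)
    have hww : w * w = 1 := by
      rw [← hg]; calc g * x * g⁻¹ * (g * x * g⁻¹) = g * (x * x) * g⁻¹ := by group
        _ = 1 := by rw [hxx]; group
    have ha2 : (⟨v, s⟩ : SP (2 * 1)) * ⟨v, s⟩ = 1 := D.inj (by rw [map_mul, map_one, ha, hww])
    have hχ : χ ⟨v, s⟩ = 1 := hQχ _ (ha.symm ▸ hw)
    rcases chi_small v s ha2 hχ with ⟨rfl, rfl⟩ | ⟨rfl, rfl⟩
    · exfalso
      have e0 : D.ι (1 : SP (2 * 1)) = w := ha
      rw [map_one] at e0
      rw [← e0, conj_eq_one_iff] at hg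
      rw [hg, orderOf_one] at hx
      exact absurd hx (by norm_num)
    · exact isConj_iff.2 ⟨g, by rw [hg, ← ha]; exact D.ι_top⟩
  have ht : orderOf D.t = 2 := by
    rw [← D.el_one Setup.one_invol]
    refine orderOf_eq_prime (by rw [sq]; exact D.el_sq _ _) fun h => ?_
    have := congrFun (D.el_injective _ (h.trans (D.el_zero _).symm)) ⟨0, by norm_num⟩
    exact one_ne_zero this
  refine Nat.card_eq_one_iff_unique.2 ⟨⟨fun c c' => ?_⟩, ⟨⟨ConjClasses.mk D.t, D.t, ConjClasses.mem_carrier_mk, ht⟩⟩⟩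
  obtain ⟨c, x, hx, hx2⟩ := c
  obtain ⟨c', x', hx', hx2'⟩ := c'
  apply Subtype.ext
  show c = c'
  rw [← ConjClasses.mem_carrier_iff_mk_eq.1 hx, ← ConjClasses.mem_carrier_iff_mk_eq.1 hx']
  exact ConjClasses.mk_eq_mk_iff_isConj.2 ((hall x hx2).trans (hall x' hx2').symm)

end H37.Kondo
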