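import Cfsg.Agent.H37.Kondo.Psi

/-!
Every involution meets the base group; the number of classes.
-/

set_option autoImplicit false

namespace H37.Kondo

open Equiv Finset Pair

variable {G : Type*} [Group G] {n : ℕ} {D : Setup G n}

theorem hom_ext_fv {N : ℕ} {f f' : Vec N →+ Vec N} (h : ∀ p, f (fv p) = f' (fv p)) (w : Vec N) : f w = f' w := by
  rw [vec_eq_sum w, map_sum, map_sum]
  exact Finset.sum_congr rfl fun p _ => h p

theorem invol_data (a : SP (2 * n)) (h : a * a = 1) : a.σ * a.σ = 1 ∧ ∀ p, a.v (a.σ p) = a.v p := by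
  refine ⟨congrArg SP.σ h, fun p => ?_⟩
  have h1 := congrFun (congrArg SP.v h) (a.σ p)
  rw [SP.mul_v, Equiv.symm_apply_apply] at h1
  exact add_eq_zero_iff_eq'.1 h1

theorem centralizer_pair {P : Pair n} {h : SP (2 * n)} (hc : ∀ w, h * phi P.hπ w * h⁻¹ = phi P.hπ w) :
    MemE P.π h := by
  have hfix : ∀ p, p ≠ P.a → p ≠ P.b → h.σ p = p := by
    intro p h1 h2
    have e := hc (fv p)
    rw [phi_eq_embV P.hπ (P.inU_iff.1 (P.fv_inU h1 h2)), SP.conj_embV, fv_comp] at e
    by_contra hne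
    have e' := congrFun (SP.embV_injective e) p
    rw [fv_same, fv_of_ne (Ne.symm hne)] at e'
    exact zero_ne_one e'
  obtain ⟨w, hw⟩ := phi_surj P.hπ (e := SP.embP P.π) ⟨fun _ => rfl, fun p => Or.inr rfl, rfl⟩
  have e := hc w
  rw [hw] at e
  have e1 : h.σ * P.π * h.σ⁻¹ = P.π := congrArg SP.σ e
  have hcomm : h.σ * P.π = P.π * h.σ := by
    calc h.σ * P.π = h.σ * P.π * h.σ⁻¹ * h.σ := by group
      _ = _ := by rw [e1]
  refine ⟨fun p => ?_, fun p => ?_, hcomm⟩
  · have e2 := congrFun (congrArg SP.v e) p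
    have e3 : h.v p + 0 + h.v (h.σ ((h.σ * P.π : Perm (Fin (2 * n))).symm p)) = 0 := e2
    have e4 : h.σ ((h.σ * P.π : Perm (Fin (2 * n))).symm p) = P.π p := by
      show h.σ (P.π.symm (h.σ.symm p)) = P.π p
      rw [show P.π.symm = P.π from Equiv.symm_swap _ _, ← Perm.mul_apply, hcomm, Perm.mul_apply,
        Equiv.apply_symm_apply]
    rw [e4, add_zero] at e3
    exact (add_eq_zero_iff_eq'.1 e3).symm
  · by_cases h1 : p = P.a
    · by_contra hne
      rw [not_or, h1, P.π_a] at hne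
      exact hne.1 (h.σ.injective (hfix _ hne.1 hne.2))
    by_cases h2 : p = P.b
    · by_contra hne
      rw [not_or, h2, P.π_b] at hne
      exact hne.1 (h.σ.injective (hfix _ hne.2 hne.1))
    exact Or.inl (hfix p h1 h2)

theorem exists_less [Finite G] (hn : 2 ≤ n) (hN : D.Normed) (a : SP (2 * n)) (ha : a * a = 1) (hσ : a.σ ≠ 1) :
    ∃ a' : SP (2 * n), a' * a' = 1 ∧ a'.σ.support.card < a.σ.support.card ∧ IsConj (D.ι a) (D.ι a') := by
  classical
  obtain ⟨p, hp⟩ : ∃ p, a.σ p ≠ p := by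
    by_contra h; push Not at h; exact hσ (Equiv.ext h)
  let P : Pair n := ⟨p, a.σ p, Ne.symm hp⟩
  obtain ⟨hs2, hv⟩ := invol_data a ha
  -- normalise the signs on the pair
  obtain ⟨e, he⟩ : ∃ e : SP (2 * n), (e * a * e⁻¹).σ = a.σ ∧ (e * a * e⁻¹).v p = 0 ∧ (e * a * e⁻¹).v (a.σ p) = 0 := by
    rcases zmod2_cases (a.v p) with h | h
    · refine ⟨1, ?_⟩
      rw [one_mul, inv_one, mul_one]
      exact ⟨rfl, h, by rw [hv, h]⟩
    · refine ⟨SP.embV (fv p), ?_⟩
      have hσe : (SP.embV (fv p) * a * (SP.embV (fv p))⁻¹).σ = a.σ := by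
        show 1 * a.σ * (1 : Perm (Fin (2 * n)))⁻¹ = a.σ
        rw [one_mul, inv_one, mul_one]
      have hve : ∀ i, (SP.embV (fv p) * a * (SP.embV (fv p))⁻¹).v i = fv p i + a.v i + fv p (a.σ.symm i) := by
        intro i
        show fv p i + a.v i + fv p ((1 : Perm (Fin (2 * n))) ((1 * a.σ : Perm (Fin (2 * n))).symm i)) = _
        rw [one_mul]; rfl
      have hsymm : a.σ.symm p = a.σ p := by
        rw [Equiv.symm_apply_eq, ← Perm.mul_apply, hs2, Perm.one_apply]
      refine ⟨hσe, ?_, ?_⟩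
      · rw [hve, hsymm, fv_same, fv_of_ne hp, h]; rfl
      · rw [hve, Equiv.symm_apply_apply, fv_same, fv_of_ne hp, hv, h]; rfl
  obtain ⟨hbσ, hb1, hb2⟩ := he
  set c := e * a * e⁻¹ with hc
  have hcc : c * c = 1 := by
    rw [hc]
    calc e * a * e⁻¹ * (e * a * e⁻¹) = e * (a * a) * e⁻¹ := by group
      _ = 1 := by rw [ha]; group
  obtain ⟨hc2, hcv⟩ := invol_data c hcc
  let σ' : Perm (Fin (2 * n)) := P.π * a.σ
  have hσ'a : σ' P.a = P.a := by
    show P.π (a.σ p) = p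
    exact P.π_b
  have hσ'b : σ' P.b = P.b := by
    show P.π (a.σ (a.σ p)) = a.σ p
    rw [← Perm.mul_apply a.σ, hs2, Perm.one_apply]
    exact P.π_a
  have hσ'fix : ∀ x, P.π x ≠ x → σ' x = x := fun x hx => by
    rcases P.moved hx with rfl | rfl <;> assumption
  let y : SP (2 * n) := ⟨c.v, σ'⟩
  have hcvπ : ∀ q, c.v (P.π q) = c.v q := by
    intro q
    by_cases h1 : q = P.a
    · rw [h1, P.π_a]; exact hb2.trans hb1.symm
    by_cases h2 : q = P.b
    · rw [h2, P.π_b]; exact hb1.trans hb2.symm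
    rw [P.π_of_ne h1 h2]
  have hcy : c = SP.embP P.π * y := by
    apply SP.ext
    · funext i
      show c.v i = 0 + c.v (P.π.symm i)
      rw [zero_add, show P.π.symm = P.π from Equiv.symm_swap _ _, hcvπ]
    · show c.σ = P.π * (P.π * a.σ)
      rw [← mul_assoc, P.hπ, one_mul, hbσ]
  have hyact : ∀ w, y * phi P.hπ w * y⁻¹ = phi P.hπ (w ∘ σ'.symm) := by
    intro w
    have e1 : y = SP.embV c.v * SP.embP σ' := SP.ext (funext fun i => by
      show c.v i = c.v i + 0
      rw [add_zero]) (one_mul σ').symm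
    have e2 : SP.embV c.v = phi P.hπ c.v := (phi_eq_embV P.hπ hcvπ).symm
    rw [e1, e2, mul_inv_rev, show phi P.hπ c.v * SP.embP σ' * phi P.hπ w * ((SP.embP σ')⁻¹ * (phi P.hπ c.v)⁻¹) =
      phi P.hπ c.v * (SP.embP σ' * phi P.hπ w * (SP.embP σ')⁻¹) * (phi P.hπ c.v)⁻¹ from by group,
      phi_perm P.hπ hσ'fix, ← phi_add, add_comm, phi_add, mul_inv_cancel_right]
  obtain ⟨u₀, g, T, hT, hu₀, hTu, hTd, hTf⟩ := exists_psi (P := P) hn hN
  have hTc : T P.crest = P.crest := by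
    show hT.hom (chi _) = _
    rw [Pair.crest, chi, map_sum]
    refine Finset.sum_congr rfl fun z hz => ?_
    obtain ⟨h1, h2⟩ := Finset.mem_erase.1 hz
    match z with
    | none => exact absurd rfl h1
    | some q =>
      rw [P.mem_J] at h2
      exact hTf q (by simpa using h2.1) (by simpa using h2.2)
  -- `g` commutes with the action of `y`
  have hS := D.maps_perm P.hπ hσ'fix
  have hcomm : ∀ w, T (w ∘ σ'.symm) = T w ∘ σ'.symm := by
    let S : Vec (2 * n) →+ Vec (2 * n) :=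
      { toFun := fun w => w ∘ σ'.symm, map_zero' := rfl, map_add' := fun _ _ => rfl }
    refine fun w => hom_ext_fv (f := hT.hom.comp S) (f' := S.comp hT.hom) (fun q => ?_) w
    show T (fv q ∘ σ'.symm) = T (fv q) ∘ σ'.symm
    have hinv : ∀ v : Vec (2 * n), (v = P.d ∨ v = P.crest ∨ v = u₀) → v ∘ σ'.symm = v := by
      have hd : P.d ∘ σ'.symm = P.d := by
        show (fv P.a + fv P.b) ∘ σ'.symm = _
        rw [show (fv P.a + fv P.b) ∘ σ'.symm = fv P.a ∘ σ'.symm + fv P.b ∘ σ'.symm from rfl, fv_comp, fv_comp,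
          hσ'a, hσ'b]
        rfl
      have hcr : P.crest ∘ σ'.symm = P.crest := by
        rw [crest_eq, show (1 + P.d) ∘ σ'.symm = 1 + P.d ∘ σ'.symm from rfl, hd]
      rintro v (rfl | rfl | rfl)
      · exact hd
      · exact hcr
      · rcases hu₀ with rfl | rfl
        · rw [fv_comp, hσ'a]
        · rw [show (fv P.a + P.crest) ∘ σ'.symm = fv P.a ∘ σ'.symm + P.crest ∘ σ'.symm from rfl, fv_comp, hσ'a, hcr]
    have ha' : T (fv P.a) ∘ σ'.symm = T (fv P.a) := by
      rcases hu₀ with rfl | rfl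
      · rw [hTu]; exact hinv _ (Or.inl rfl)
      · have : T (fv P.a) = P.d + P.crest := by
          rw [← hTu, hT.add, hTc, add_assoc, vec_self, add_zero]
        rw [this, show (P.d + P.crest) ∘ σ'.symm = P.d ∘ σ'.symm + P.crest ∘ σ'.symm from rfl,
          hinv _ (Or.inl rfl), hinv _ (Or.inr (Or.inl rfl))]
    by_cases h1 : q = P.a
    · rw [h1, fv_comp, hσ'a, ha']
    by_cases h2 : q = P.b
    · rw [h2, fv_comp, hσ'b]
      have hb : fv P.b = fv P.a + P.d := by
        show _ = fv P.a + (fv P.a + fv P.b)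
        rw [← add_assoc, vec_self, zero_add]
      rw [hb, hT.add, show (T (fv P.a) + T P.d) ∘ σ'.symm = T (fv P.a) ∘ σ'.symm + T P.d ∘ σ'.symm from rfl,
        ha', hTd, hinv _ (Or.inr (Or.inr rfl))]
    have h1' : σ' q ≠ P.a := fun e => h1 (σ'.injective (e.trans hσ'a.symm))
    have h2' : σ' q ≠ P.b := fun e => h2 (σ'.injective (e.trans hσ'b.symm))
    rw [fv_comp, hTf _ h1' h2', hTf _ h1 h2, fv_comp]
  let Y : G := D.ι y
  let γ : G := g * Y * g⁻¹ * Y⁻¹
  have hY : D.Maps Y P.hπ P.hπ fun w => w ∘ σ'.symm := fun w => by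
    show D.ι y * D.ι _ * (D.ι y)⁻¹ = D.ι _
    rw [← map_inv, ← map_mul, ← map_mul, hyact]
  have hγ : ∀ w, γ * D.el P.hπ w * γ⁻¹ = D.el P.hπ w := by
    intro w
    obtain ⟨Y', hY', hl, hr⟩ := hY.inv
    obtain ⟨T', hT', hl', hr'⟩ := hT.inv
    have := hT.comp (hY.comp (hT'.comp hY')) w
    simp only [Function.comp_apply] at this
    rw [hcomm, hr', show Y' w ∘ ⇑σ'.symm = w from hr w] at this
    show g * Y * g⁻¹ * Y⁻¹ * D.el P.hπ w * (g * Y * g⁻¹ * Y⁻¹)⁻¹ = _
    refine Eq.trans ?_ this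
    group
  have hγt : γ * D.t = D.t * γ := by
    have := hγ 1
    rw [D.el_one] at this
    exact mul_inv_eq_iff_eq_mul.1 this
  obtain ⟨w₀, hw₀⟩ := phi_surj P.hπ (centralizer_pair (P := P) (h := D.rho γ) fun w => by
    rw [← D.rho_el P.hπ w, ← D.rho_conj hγt (D.el_comm _ w), hγ])
  obtain ⟨ws, hws⟩ := phi_surj P.hπ (e := SP.embP P.π) ⟨fun _ => rfl, fun q => Or.inr rfl, rfl⟩
  have hTsum : T (ws + P.d) = T ws + u₀ := by rw [hT.add, hTd]
  have hu₀U : ¬ P.InU u₀ := by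
    rcases hu₀ with rfl | rfl
    · exact not_inU_fv_a
    · intro h
      have := P.inU_add h P.crest_inU
      rw [add_assoc, vec_self, add_zero] at this
      exact not_inU_fv_a this
  -- the two candidates
  obtain ⟨w₁, hw₁, hin⟩ : ∃ w₁, (w₁ = ws ∨ w₁ = ws + P.d) ∧ P.InU (T w₁ + w₀) := by
    by_cases h : P.InU (T ws + w₀)
    · exact ⟨ws, Or.inl rfl, h⟩
    · refine ⟨ws + P.d, Or.inr rfl, ?_⟩
      rw [hTsum]
      revert h hu₀U
      unfold Pair.InU
      simp only [Pi.add_apply]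
      generalize T ws P.a = A; generalize T ws P.b = B
      generalize w₀ P.a = C; generalize w₀ P.b = E
      generalize u₀ P.a = F; generalize u₀ P.b = H
      revert A B C E F H; decide
  have hc1 : IsConj (D.ι a) (D.el P.hπ w₁ * Y) := by
    have h0 : IsConj (D.ι a) (D.el P.hπ ws * Y) := by
      refine isConj_iff.2 ⟨D.ι e, ?_⟩
      show _ = D.ι (phi P.hπ ws) * D.ι y
      rw [hws, ← map_mul (D.ι) (SP.embP P.π) y, ← hcy, hc, map_mul, map_mul, map_inv]
    rcases hw₁ with rfl | rfl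
    · exact h0
    · refine h0.trans (isConj_iff.2 ⟨D.ι (SP.embV (fv P.a)), ?_⟩)
      have hflip := D.maps_flip P.hπ P.a ws
      have hcommY : D.ι (SP.embV (fv P.a)) * Y * (D.ι (SP.embV (fv P.a)))⁻¹ = Y := by
        show D.ι _ * D.ι y * (D.ι _)⁻¹ = D.ι y
        rw [← map_inv, ← map_mul, ← map_mul]
        congr 1
        have h' : y * SP.embV (fv P.a) * y⁻¹ = SP.embV (fv P.a) := by
          rw [SP.conj_embV, fv_comp]; show SP.embV (fv (σ' P.a)) = _; rw [hσ'a]
        calc SP.embV (fv P.a) * y * (SP.embV (fv P.a))⁻¹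
            = y * SP.embV (fv P.a) * y⁻¹ * y * (SP.embV (fv P.a))⁻¹ := by rw [h']
          _ = y := by group
      have hflip' : ws ∘ Equiv.swap P.a (P.π P.a) = ws + P.d := by
        rw [flip_ab, if_neg]
        intro hh
        have h2 := congrArg (fun z : SP (2 * n) => z.σ P.a) hws
        simp only [phi_σ, SP.embP, flip_apply, P.π_a] at h2
        rw [if_neg (by rw [hh, two_eq]; exact zero_ne_one)] at h2
        exact P.hab h2
      rw [← hflip', ← hflip]
      calc D.ι (SP.embV (fv P.a)) * (D.el P.hπ ws * Y) * (D.ι (SP.embV (fv P.a)))⁻¹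
          = D.ι (SP.embV (fv P.a)) * D.el P.hπ ws * (D.ι (SP.embV (fv P.a)))⁻¹ *
            (D.ι (SP.embV (fv P.a)) * Y * (D.ι (SP.embV (fv P.a)))⁻¹) := by group
        _ = _ := by rw [hcommY]
  let x' : G := g * (D.el P.hπ w₁ * Y) * g⁻¹
  have hx'eq : x' = D.el P.hπ (T w₁) * γ * Y := by
    show g * (D.el P.hπ w₁ * Y) * g⁻¹ = D.el P.hπ (T w₁) * (g * Y * g⁻¹ * Y⁻¹) * Y
    rw [← hT w₁]
    group
  have hYt : Y * D.t = D.t * Y := D.ι_comm y
  have hel := D.el_comm P.hπ (T w₁)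
  have helγ : D.el P.hπ (T w₁) * γ * D.t = D.t * (D.el P.hπ (T w₁) * γ) := by
    rw [mul_assoc, hγt, ← mul_assoc, hel, mul_assoc]
  have hx't : x' * D.t = D.t * x' := by
    rw [hx'eq, mul_assoc, hYt, ← mul_assoc, helγ, mul_assoc]
  have hrho : D.rho x' = phi P.hπ (T w₁ + w₀) * y := by
    rw [hx'eq, D.rho_mul helγ hYt, D.rho_mul hel hγt, D.rho_el, ← hw₀, D.rho_ι, ← phi_add]
  have hconj : IsConj (D.ι a) x' := hc1.trans (isConj_iff.2 ⟨g, rfl⟩)
  have hx'2 : x' * x' = 1 := by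
    obtain ⟨k, hk⟩ := isConj_iff.1 hconj
    rw [← hk]
    calc k * D.ι a * k⁻¹ * (k * D.ι a * k⁻¹) = k * (D.ι a * D.ι a) * k⁻¹ := by group
      _ = 1 := by rw [← map_mul, ha, map_one]; group
  obtain ⟨k, hk⟩ := D.conj_retract hx't hx'2
  have hconj' : IsConj (D.ι a) (D.ι (D.rho x')) := hconj.trans (isConj_iff.2 ⟨k, hk⟩)
  refine ⟨D.rho x', ?_, ?_, hconj'⟩
  · obtain ⟨k', hk'⟩ := isConj_iff.1 hconj'
    apply D.inj
    rw [map_mul, map_one, ← hk']
    calc k' * D.ι a * k'⁻¹ * (k' * D.ι a * k'⁻¹) = k' * (D.ι a * D.ι a) * k'⁻¹ := by group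
      _ = 1 := by rw [← map_mul, ha, map_one]; group
  · have hσ'' : (D.rho x').σ = σ' := by
      rw [hrho, SP.mul_σ, phi_eq_embV P.hπ (P.inU_iff.1 hin)]
      exact one_mul σ'
    rw [hσ'']
    refine Finset.card_lt_card ⟨fun x hx => ?_, fun hsub => ?_⟩
    · rw [Perm.mem_support] at hx ⊢
      intro h
      apply hx
      show P.π (a.σ x) = x
      rw [h]
      refine P.π_of_ne (fun e' => hp ?_) (fun e' => hp ?_)
      · rw [e'] at h; exact h
      · rw [e'] at h
        exact a.σ.injective h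
    · have := hsub (Perm.mem_support.2 hp)
      rw [Perm.mem_support] at this
      exact this hσ'a

theorem exists_base_conj [Finite G] (hn : 2 ≤ n) (hN : D.Normed) :
    ∀ k (a : SP (2 * n)), a.σ.support.card = k → a * a = 1 → ∃ w, IsConj (D.ι a) (D.b w) := by
  intro k
  induction k using Nat.strong_induction_on with
  | _ k ih =>
    intro a hk ha
    by_cases hσ : a.σ = 1
    · exact ⟨a.v, by rw [D.b_eq, show SP.embV a.v = a from SP.ext rfl hσ.symm]⟩
    · obtain ⟨a', ha', hlt, hc⟩ := exists_less hn hN a ha hσ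
      obtain ⟨w, hw⟩ := ih _ (hk ▸ hlt) a' rfl ha'
      exact ⟨w, hc.trans hw⟩

theorem Setup.exists_conj_range [Finite G] (D : Setup G n) {x : G} (hx : x * x = 1) :
    ∃ a : SP (2 * n), a * a = 1 ∧ IsConj x (D.ι a) := by
  haveI : Fact (Nat.Prime 2) := ⟨Nat.prime_two⟩
  obtain ⟨S, hS⟩ := D.sylow
  have hp : IsPGroup 2 (Subgroup.zpowers x) := by
    rintro ⟨_, z, rfl⟩
    refine ⟨1, Subtype.ext ?_⟩
    show (x ^ z) ^ (2 ^ 1) = 1
    rw [pow_one, sq, ← (Commute.refl x).mul_zpow, hx, one_zpow]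
  obtain ⟨S', hS'⟩ := hp.exists_le_sylow
  obtain ⟨k, hk⟩ := MulAction.exists_smul_eq G S' S
  have hmem : k * x * k⁻¹ ∈ (S : Subgroup G) := by
    rw [← hk, Sylow.coe_subgroup_smul]
    exact Subgroup.smul_mem_pointwise_smul _ (MulAut.conj k) _ (hS' (Subgroup.mem_zpowers x))
  obtain ⟨a, ha⟩ := hS hmem
  refine ⟨a, D.inj ?_, isConj_iff.2 ⟨k, ha.symm⟩⟩
  rw [map_mul, map_one, ha]
  calc k * x * k⁻¹ * (k * x * k⁻¹) = k * (x * x) * k⁻¹ := by group
    _ = 1 := by rw [hx]; group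

theorem level_mem (w : Vec (2 * n)) (hw : w ≠ 0) : 1 ≤ Setup.level w ∧ Setup.level w ≤ n := by
  obtain ⟨k, hk⟩ := even_evenSet w
  have h1 : (evenSet w).card ≠ 0 := fun h => hw (by rw [← sum_evenSet w, Finset.card_eq_zero.1 h]; rfl)
  have h2 := Finset.card_le_univ (evenSet w)
  rw [Fintype.card_option, Fintype.card_fin] at h2
  rw [Setup.level]
  omega

theorem exists_level {j : ℕ} (h1 : 1 ≤ j) (h2 : j ≤ n) :
    ∃ w : Vec (2 * n), w ≠ 0 ∧ Setup.level w = j := by
  obtain ⟨Q, -, hQ⟩ := Finset.exists_subset_card_eq (s := (univ : Finset (Option (Fin (2 * n))))) (n := 2 * j)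
    (by rw [Finset.card_univ, Fintype.card_option, Fintype.card_fin]; omega)
  have hev : Even Q.card := hQ ▸ even_two_mul j
  refine ⟨∑ a ∈ Q, tv a, fun h0 => ?_, by rw [Setup.level, eq_evenSet hev, hQ]; omega⟩
  have := eq_evenSet (Q := (∅ : Finset (Option (Fin (2 * n))))) (by simp)
  rw [Finset.sum_empty, ← h0, eq_evenSet hev] at this
  rw [this, Finset.card_empty] at hQ
  omega

theorem count_classes [Finite G] (hn : 2 ≤ n) (hN : D.Normed) :
    Nat.card {c : ConjClasses G // ∃ x ∈ c.carrier, orderOf x = 2} = n := by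
  classical
  haveI : Fact (Nat.Prime 2) := ⟨Nat.prime_two⟩
  have hw : ∀ j : Fin n, ∃ w : Vec (2 * n), w ≠ 0 ∧ Setup.level w = j + 1 := fun j =>
    exists_level (by omega) (by omega)
  choose w hw0 hwl using hw
  have hord : ∀ v : Vec (2 * n), v ≠ 0 → orderOf (D.b v) = 2 := fun v hv =>
    orderOf_eq_prime (by rw [sq]; exact D.el_sq _ v) fun h => hv (D.el_injective _ (h.trans (D.el_zero _).symm))
  let f : Fin n → {c : ConjClasses G // ∃ x ∈ c.carrier, orderOf x = 2} := fun j =>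
    ⟨ConjClasses.mk (D.b (w j)), D.b (w j), ConjClasses.mem_carrier_mk, hord _ (hw0 j)⟩
  have hf : Function.Bijective f := by
    refine ⟨fun i j h => ?_, fun c => ?_⟩
    · have h1 := ConjClasses.mk_eq_mk_iff_isConj.1 (congrArg Subtype.val h)
      rw [Setup.conj_iff_level hn hN, hwl, hwl] at h1
      exact Fin.ext (by omega)
    · obtain ⟨c, x, hx, hx2⟩ := c
      have hxx : x * x = 1 := by rw [← sq, ← hx2, pow_orderOf_eq_one]
      obtain ⟨a, ha, hxa⟩ := D.exists_conj_range hxx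
      obtain ⟨v, hv⟩ := exists_base_conj hn hN _ a rfl ha
      have hxv : IsConj x (D.b v) := hxa.trans hv
      have hv0 : v ≠ 0 := by
        rintro rfl
        obtain ⟨k, hk⟩ := isConj_iff.1 hxv
        rw [Setup.b, D.el_zero, conj_eq_one_iff] at hk
        rw [hk, orderOf_one] at hx2
        exact absurd hx2 (by norm_num)
      obtain ⟨l1, l2⟩ := level_mem v hv0
      refine ⟨⟨Setup.level v - 1, by omega⟩, Subtype.ext ?_⟩
      show ConjClasses.mk _ = c
      rw [← ConjClasses.mem_carrier_iff_mk_eq.1 hx]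
      refine ConjClasses.mk_eq_mk_iff_isConj.2 ((Setup.conj_iff_level hn hN _ v).2 ?_ |>.trans hxv.symm)
      rw [hwl]
      show Setup.level v - 1 + 1 = _
      omega
  rw [← Nat.card_congr (Equiv.ofBijective f hf), Nat.card_fin]

theorem count [Finite G] (D : Setup G n) (hn : 2 ≤ n) :
    Nat.card {c : ConjClasses G // ∃ x ∈ c.carrier, orderOf x = 2} = n := by
  rcases D.exists_normed hn with h | h
  · exact count_classes (D := D) hn h
  · exact count_classes (D := D.twist) hn h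

end H37.Kondo
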