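import Cfsg.Agent.H37.Kondo.Swap

/-!
The transposition is fused into the base group.
-/

set_option autoImplicit false

namespace H37.Kondo

open Equiv Finset Pair

variable {G : Type*} [Group G] {n : ℕ} {D : Setup G n} {P : Pair n} {u₀ : Vec (2 * n)}

theorem Pair.chi_map_swap {A : Finset (Option (Fin (2 * n)))} {z z' : Option (Fin (2 * n))} (hz : z ≠ z') :
    chi (A.map (Equiv.swap z z').toEmbedding) + chi A = if (z ∈ A ↔ z' ∈ A) then 0 else rv z + rv z' := by
  classical
  funext p
  have hmem : some p ∈ A.map (Equiv.swap z z').toEmbedding ↔ Equiv.swap z z' (some p) ∈ A := by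
    rw [Finset.mem_map_equiv, Equiv.symm_swap]
  rw [Pi.add_apply, chi_apply, chi_apply]
  have hr : ∀ x : Option (Fin (2 * n)), rv x p = if some p = x then 1 else 0 := by
    intro x
    match x with
    | none => simp
    | some y => simp [fv_apply]
  by_cases h1 : some p = z
  · rw [hmem] at *
    simp only [hmem, h1, Equiv.swap_apply_left]
    by_cases a : z ∈ A <;> by_cases c : z' ∈ A <;> simp [a, c, two_eq, hr, h1, hz]
  by_cases h2 : some p = z'
  · simp only [hmem, h2, Equiv.swap_apply_right]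
    by_cases a : z ∈ A <;> by_cases c : z' ∈ A <;> simp [a, c, two_eq, hr, h2, hz.symm]
  · simp only [hmem, Equiv.swap_apply_of_ne_of_ne h1 h2]
    rw [two_eq]
    split <;> simp [hr, h1, h2]

theorem Swaps.exists_map (hS : Swaps D P u₀) {z z' : Option (Fin (2 * n))} (hz : z ∈ P.J) (hz' : z' ∈ P.J) :
    ∃ g T, D.Maps g P.hπ P.hπ T ∧ T u₀ = u₀ ∧ T P.d = P.d ∧
      ∀ A ⊆ P.J, Even A.card → T (chi A) = chi (A.map (Equiv.swap z z').toEmbedding) := by
  obtain ⟨g, T, h, h1, h2, h3⟩ := hS z hz z' hz'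
  refine ⟨g, T, h, h1, h2, fun A hA hev => ?_⟩
  rw [chi_eq_tv hev, chi_eq_tv (by rwa [Finset.card_map]), Finset.sum_map]
  show h.hom _ = _
  rw [map_sum]
  exact Finset.sum_congr rfl fun x hx => h3 x (hA hx)

theorem map_swap_J {A : Finset (Option (Fin (2 * n)))} {z z' : Option (Fin (2 * n))} (hz : z ∈ P.J)
    (hz' : z' ∈ P.J) (hA : A ⊆ P.J) : A.map (Equiv.swap z z').toEmbedding ⊆ P.J := by
  intro x hx
  rw [Finset.mem_map_equiv, Equiv.symm_swap] at hx
  by_contra h
  have h1 : x ≠ z := fun e => h (e ▸ hz)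
  have h2 : x ≠ z' := fun e => h (e ▸ hz')
  rw [Equiv.swap_apply_of_ne_of_ne h1 h2] at hx
  exact h (hA hx)

theorem map_swap_fix {A : Finset (Option (Fin (2 * n)))} {z z' : Option (Fin (2 * n))}
    (h : z ∈ A ↔ z' ∈ A) : A.map (Equiv.swap z z').toEmbedding = A := by
  ext x
  rw [Finset.mem_map_equiv, Equiv.symm_swap]
  rcases eq_or_ne x z with rfl | h1
  · rw [Equiv.swap_apply_left]; exact h.symm
  rcases eq_or_ne x z' with rfl | h2
  · rw [Equiv.swap_apply_right]; exact h
  · rw [Equiv.swap_apply_of_ne_of_ne h1 h2]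

theorem exists_coords (hu₀ : ¬ P.InU u₀) (w : Vec (2 * n)) :
    ∃ e A, (e = 0 ∨ e = P.d ∨ e = u₀ ∨ e = u₀ + P.d) ∧ A ⊆ P.J ∧ Even A.card ∧ w = e + chi A := by
  by_cases hw : P.InU w
  · obtain ⟨e, A, he, hA, hev, rfl⟩ := P.exists_decomp' hw
    exact ⟨e, A, he.elim Or.inl (fun h => Or.inr (Or.inl h)), hA, hev, rfl⟩
  · have hU : P.InU (w + u₀) := by
      unfold Pair.InU at hu₀ hw ⊢
      rw [Pi.add_apply, Pi.add_apply]
      revert hu₀ hw
      generalize w P.a = A; generalize w P.b = B; generalize u₀ P.a = C; generalize u₀ P.b = E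
      revert A B C E; decide
    obtain ⟨e, A, he, hA, hev, h⟩ := P.exists_decomp' hU
    refine ⟨u₀ + e, A, ?_, hA, hev, ?_⟩
    · rcases he with rfl | rfl
      · exact Or.inr (Or.inr (Or.inl (add_zero _)))
      · exact Or.inr (Or.inr (Or.inr rfl))
    · rw [add_assoc, ← h, add_comm w u₀, ← add_assoc, vec_self, zero_add]

theorem exists_coords_out (hu₀ : ¬ P.InU u₀) {w : Vec (2 * n)} (hw : ¬ P.InU w) :
    ∃ u A, (u = u₀ ∨ u = u₀ + P.d) ∧ A ⊆ P.J ∧ Even A.card ∧ w = u + chi A := by
  obtain ⟨e, A, he, hA, hev, rfl⟩ := exists_coords hu₀ w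
  rcases he with rfl | rfl | h
  · exact absurd (by rw [zero_add]; exact P.chi_inU hA) hw
  · exact absurd (P.inU_add P.d_inU (P.chi_inU hA)) hw
  · exact ⟨e, A, h, hA, hev, rfl⟩

theorem out_ne (hu₀ : ¬ P.InU u₀) {u : Vec (2 * n)} (hu : u = u₀ ∨ u = u₀ + P.d) : ¬ P.InU u := by
  rcases hu with rfl | rfl
  · exact hu₀
  · intro h
    have := P.inU_add h P.d_inU
    rw [add_assoc, vec_self, add_zero] at this
    exact hu₀ this

theorem coords_inj (hu₀ : ¬ P.InU u₀) {u u' : Vec (2 * n)} {A A' : Finset (Option (Fin (2 * n)))}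
    (hu : u = u₀ ∨ u = u₀ + P.d) (hu' : u' = u₀ ∨ u' = u₀ + P.d) (hA : A ⊆ P.J) (hA' : A' ⊆ P.J)
    (hev : Even A.card) (hev' : Even A'.card) (h : u + chi A = u' + chi A') : u = u' ∧ A = A' := by
  have hval : ∀ B ⊆ P.J, chi B P.a = 0 := fun B hB => by
    rw [chi_apply, if_neg fun hh => (P.mem_J.1 (hB hh)).1 rfl]
  have e := congrFun h P.a
  rw [Pi.add_apply, Pi.add_apply, hval A hA, hval A' hA', add_zero, add_zero] at e
  have huu : u = u' := by
    have hd : P.d P.a = 1 := by rw [P.d_apply, if_pos (Or.inl rfl)]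
    rcases hu with rfl | rfl <;> rcases hu' with rfl | rfl
    · rfl
    · rw [Pi.add_apply, hd] at e; simp at e
    · rw [Pi.add_apply, hd] at e; simp at e
    · rfl
  subst huu
  exact ⟨rfl, chi_inj hev hev' (add_left_cancel h)⟩

/-- the image of the transpositions fixing an outside point -/
theorem good_pairs (hu₀ : ¬ P.InU u₀) (hS : Swaps D P u₀) {π' : Perm (Fin (2 * n))} {hπ' : π' * π' = 1}
    {g : G} {K : Vec (2 * n) → Vec (2 * n)} (hK : D.Maps g P.hπ hπ' K) {u : Vec (2 * n)}
    {A : Finset (Option (Fin (2 * n)))} (hu : u = u₀ ∨ u = u₀ + P.d) (hA : A ⊆ P.J) (hev : Even A.card)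
    (hx : K (u + chi A) = 1) (hJ3 : 3 ≤ P.J.card) {z z' : Option (Fin (2 * n))} (hz : z ∈ P.J) (hz' : z' ∈ P.J)
    (hne : z ≠ z') (hside : z ∈ A ↔ z' ∈ A) :
    ∃ v v', v ≠ v' ∧ Equiv.swap v v' * π' = π' * Equiv.swap v v' ∧ K (rv z + rv z') = fv v + fv v' ∧
      ∀ C ⊆ P.J, Even C.card → (z ∈ C ↔ z' ∈ C) → K (chi C) ∘ Equiv.swap v v' = K (chi C) := by
  classical
  obtain ⟨g', T, hT, hT1, hT2, hT3⟩ := hS.exists_map hz hz'
  have hTu : T u = u := by
    rcases hu with rfl | rfl
    · exact hT1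
    · rw [hT.add, hT1, hT2]
  have hTx : T (u + chi A) = u + chi A := by rw [hT.add, hTu, hT3 A hA hev, map_swap_fix hside]
  obtain ⟨K', hK', hl, hr⟩ := hK.inv
  obtain ⟨s, hs, hs'⟩ := (hK.comp (hT.comp hK')).perm (by
    show K (T (K' 1)) = 1
    rw [← hx, hl, hTx])
  have hsK : ∀ w, K (T w) = K w ∘ s.symm := fun w => by
    rw [← hs' (K w)]
    show _ = K (T (K' (K w)))
    rw [hl]
  have hdis : ∀ w, T w + w = 0 ∨ T w + w = rv z + rv z' := by
    intro w
    obtain ⟨e, C, he, hC, hevC, rfl⟩ := exists_coords hu₀ w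
    have hTe : T e = e := by
      rcases he with rfl | rfl | rfl | rfl
      · exact hT.zero
      · exact hT2
      · exact hT1
      · rw [hT.add, hT1, hT2]
    rw [hT.add, hTe, hT3 C hC hevC, add_add_add_comm, vec_self, zero_add, Pair.chi_map_swap hne]
    split
    · exact Or.inl rfl
    · exact Or.inr rfl
  obtain ⟨x, hxJ, hxne⟩ : ∃ x ∈ P.J, x ≠ z ∧ x ≠ z' := by
    obtain ⟨x, hx, hx'⟩ := Finset.exists_mem_notMem_of_card_lt_card (s := ({z, z'} : Finset _)) (t := P.J)
      (by have := Finset.card_le_two (a := z) (b := z'); omega)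
    simp only [Finset.mem_insert, Finset.mem_singleton, not_or] at hx'
    exact ⟨x, hx, hx'⟩
  have hsne : s ≠ 1 := by
    rintro rfl
    have h0 : T (chi {x, z}) = chi {x, z} := hK.injective (hsK _)
    have hC : ({x, z} : Finset _) ⊆ P.J := by
      intro y hy
      simp only [Finset.mem_insert, Finset.mem_singleton] at hy
      rcases hy with rfl | rfl <;> assumption
    have hevC : Even ({x, z} : Finset (Option (Fin (2 * n)))).card := by
      rw [Finset.card_pair hxne.1]; exact ⟨1, rfl⟩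
    rw [hT3 _ hC hevC] at h0
    have h1 := chi_inj (by rwa [Finset.card_map]) hevC h0
    have : z' ∈ ({x, z} : Finset (Option (Fin (2 * n)))) := by
      rw [← h1, Finset.mem_map_equiv, Equiv.symm_swap, Equiv.swap_apply_right]; simp
    simp only [Finset.mem_insert, Finset.mem_singleton] at this
    exact this.elim (fun e => hxne.2 e.symm) (fun e => hne e.symm)
  obtain ⟨v, v', hvv, hsvv, hc⟩ := exists_swap_of_displacement (c := K (rv z + rv z')) hsne (fun y => by
    rw [← hr y, ← hsK, ← hK.add]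
    rcases hdis (K' y) with h | h
    · exact Or.inl (by rw [h]; exact hK.zero)
    · exact Or.inr (by rw [h]))
  refine ⟨v, v', hvv, hsvv ▸ hs, hc, fun C hC hevC hsd => ?_⟩
  have := hsK (chi C)
  rw [hT3 C hC hevC, map_swap_fix hsd, hsvv, Equiv.symm_swap] at this
  exact this.symm

/-- the possible shapes of an outside point -/
structure Shape (P : Pair n) (π' : Perm (Fin (2 * n))) (K : Vec (2 * n) → Vec (2 * n))
    (A : Finset (Option (Fin (2 * n)))) : Prop where
  big : 3 ≤ A.card → (P.J \ A).card = 1 ∧ ∃ S : Finset (Fin (2 * n)), S.card = A.card ∧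
    (∀ x ∈ S, π' x = x) ∧ K (chi A) = ∑ x ∈ S, fv x
  small : A.card ≤ 2 → A.card = 2 ∧ ∃ v v', v ≠ v' ∧ Equiv.swap v v' * π' = π' * Equiv.swap v v' ∧
    K (chi A) = fv v + fv v' ∧ (3 ≤ (P.J \ A).card → ∃ S : Finset (Fin (2 * n)),
      S.card = (P.J \ A).card ∧ (∀ x ∈ S, π' x = x) ∧ v ∉ S ∧ v' ∉ S)

theorem fixed_card {π' : Perm (Fin (2 * n))} {S : Finset (Fin (2 * n))} (hS : ∀ x ∈ S, π' x = x) :
    S.card + π'.support.card ≤ 2 * n := by
  have hsub : S ⊆ π'.supportᶜ := fun x hx => by
    rw [Finset.mem_compl, Perm.mem_support, not_not]; exact hS x hx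
  have h3 := Finset.card_le_card hsub
  rw [Finset.card_compl, Fintype.card_fin] at h3
  have h4 := Finset.card_le_univ π'.support
  rw [Fintype.card_fin] at h4
  omega

theorem shape (hn : 2 ≤ n) (hu₀ : ¬ P.InU u₀) (hS : Swaps D P u₀) {π' : Perm (Fin (2 * n))}
    {hπ' : π' * π' = 1} (hπne : π' ≠ 1) {g : G} {K : Vec (2 * n) → Vec (2 * n)}
    (hK : D.Maps g P.hπ hπ' K) {u : Vec (2 * n)} {A : Finset (Option (Fin (2 * n)))}
    (hu : u = u₀ ∨ u = u₀ + P.d) (hA : A ⊆ P.J) (hev : Even A.card) (hx : K (u + chi A) = 1) :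
    Shape P π' K A := by
  classical
  have hJ := P.card_J
  have hJ3 : 3 ≤ P.J.card := by omega
  have hgp := fun {z z' : Option (Fin (2 * n))} => good_pairs hu₀ hS hK hu hA hev hx hJ3 (z := z) (z' := z')
  have hcard : A.card + (P.J \ A).card = P.J.card := by
    rw [add_comm, Finset.card_sdiff_add_card_eq_card hA]
  have h2supp := Perm.two_le_card_support_of_ne_one hπne
  have htheta : ∀ B ⊆ P.J, (∀ z ∈ B, ∀ z' ∈ B, z ∈ A ↔ z' ∈ A) → 2 ≤ B.card →
      ∃ θ : Option (Fin (2 * n)) → Fin (2 * n), Set.InjOn θ B ∧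
        (∀ p ∈ B, ∀ q ∈ B, hK.hom (rv p + rv q) = fv (θ p) + fv (θ q)) ∧
        (3 ≤ B.card → ∀ p ∈ B, π' (θ p) = θ p) := by
    intro B hB hside hB2
    refine exists_theta (K := hK.hom) (r := rv) (π := π') hB2 (fun p hp q hq hpq => ?_) ?_
    · obtain ⟨v, v', h1, h2, h3, -⟩ := hgp (hB hp) (hB hq) hpq (hside p hp q hq)
      exact ⟨v, v', h1, h2, h3⟩
    · intro a ha b hb c hc e he hab hac hae hbc hbe hce h0
      have e1 : chi ({a, b, c, e} : Finset _) = rv a + rv b + (rv c + rv e) := by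
        rw [chi, Finset.sum_insert (by simp [hab, hac, hae]), Finset.sum_insert (by simp [hbc, hbe]),
          Finset.sum_pair hce]
        abel
      have h1 : rv a + rv b + (rv c + rv e) = 0 := hK.injective (h0.trans hK.zero.symm)
      have h2 : ({a, b, c, e} : Finset (Option (Fin (2 * n)))).card = 4 := by
        rw [Finset.card_insert_of_notMem (by simp [hab, hac, hae]), Finset.card_insert_of_notMem (by simp [hbc, hbe]),
          Finset.card_pair hce]
      have := chi_inj (A := ({a, b, c, e} : Finset _)) (B := ∅) (by rw [h2]; exact ⟨2, rfl⟩) (by simp)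
        (e1.trans (h1.trans (by simp [chi])))
      exact absurd (this ▸ Finset.mem_insert_self a _) (Finset.notMem_empty a)
  have hBside : ∀ z ∈ P.J \ A, ∀ z' ∈ P.J \ A, z ∈ A ↔ z' ∈ A := fun z hz z' hz' =>
    iff_of_false (Finset.mem_sdiff.1 hz).2 (Finset.mem_sdiff.1 hz').2
  have hAside : ∀ z ∈ A, ∀ z' ∈ A, z ∈ A ↔ z' ∈ A := fun z hz z' hz' => iff_of_true hz hz'
  have hdisj : ∀ {θ θ' : Option (Fin (2 * n)) → Fin (2 * n)}, 2 ≤ A.card → 2 ≤ (P.J \ A).card →
      Set.InjOn θ A → Set.InjOn θ' ↑(P.J \ A) →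
      (∀ p ∈ A, ∀ q ∈ A, hK.hom (rv p + rv q) = fv (θ p) + fv (θ q)) →
      (∀ p ∈ P.J \ A, ∀ q ∈ P.J \ A, hK.hom (rv p + rv q) = fv (θ' p) + fv (θ' q)) →
      Disjoint (A.image θ) ((P.J \ A).image θ') := by
    intro θ θ' hA2 hB2 hi hi' h1 h2
    refine theta_disjoint (K := hK.hom) (r := rv) hA2 hB2 hi hi' h1 h2 ?_ ?_
    · intro p hp q hq p' hp' q' hq' hpq hpq' h
      have h' : rv p + rv q = rv p' + rv q' := hK.injective h
      rw [← Finset.sum_pair hpq, ← Finset.sum_pair hpq'] at h'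
      have := chi_inj (by rw [Finset.card_pair hpq]; exact ⟨1, rfl⟩)
        (by rw [Finset.card_pair hpq']; exact ⟨1, rfl⟩) h'
      have hp'' : p ∈ ({p', q'} : Finset _) := this ▸ Finset.mem_insert_self _ _
      simp only [Finset.mem_insert, Finset.mem_singleton] at hp''
      rcases hp'' with e | e <;> subst e
      · exact (Finset.mem_sdiff.1 hp').2 hp
      · exact (Finset.mem_sdiff.1 hq').2 hp
    · intro p hp q hq p' hp' q' hq' hpq hpq' v v' he hvv
      obtain ⟨w, w', hww, -, h3, h4⟩ := hgp (hA hp) (hA hq) hpq (hAside p hp q hq)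
      have hsw : Equiv.swap v v' = Equiv.swap w w' := by
        rcases pair_inj hvv (he.symm.trans h3) with ⟨r1, r2⟩ | ⟨r1, r2⟩
        · rw [r1, r2]
        · rw [r1, r2, Equiv.swap_comm]
      rw [hsw]
      have hp'' := Finset.mem_sdiff.1 hp'
      have hq'' := Finset.mem_sdiff.1 hq'
      have := h4 {p', q'} (by
        intro y hy; simp only [Finset.mem_insert, Finset.mem_singleton] at hy
        rcases hy with rfl | rfl
        · exact hp''.1
        · exact hq''.1) (by rw [Finset.card_pair hpq']; exact ⟨1, rfl⟩) (by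
        refine iff_of_false ?_ ?_ <;> simp only [Finset.mem_insert, Finset.mem_singleton, not_or]
        · exact ⟨fun e => hp''.2 (e ▸ hp), fun e => hq''.2 (e ▸ hp)⟩
        · exact ⟨fun e => hp''.2 (e ▸ hq), fun e => hq''.2 (e ▸ hq)⟩)
      rwa [show chi ({p', q'} : Finset _) = rv p' + rv q' from Finset.sum_pair hpq'] at this
  constructor
  · intro h3
    obtain ⟨θ, hi, hθ, hf⟩ := htheta A hA hAside (by omega)
    refine ⟨?_, A.image θ, Finset.card_image_of_injOn hi, fun x hx => ?_, ?_⟩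
    · by_contra hB
      have hB3 : 3 ≤ (P.J \ A).card := by
        obtain ⟨k, hk⟩ := hev; omega
      obtain ⟨θ', hi', hθ', hf'⟩ := htheta _ Finset.sdiff_subset hBside (by omega)
      have hd := hdisj (by omega) (by omega) hi hi' hθ hθ'
      have := fixed_card (π' := π') (S := A.image θ ∪ (P.J \ A).image θ') fun x hx => by
        rcases Finset.mem_union.1 hx with hx | hx <;> obtain ⟨p, hp, rfl⟩ := Finset.mem_image.1 hx
        · exact hf h3 p hp
        · exact hf' hB3 p hp
      rw [Finset.card_union_of_disjoint hd, Finset.card_image_of_injOn hi, Finset.card_image_of_injOn hi'] at this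
      omega
    · obtain ⟨p, hp, rfl⟩ := Finset.mem_image.1 hx
      exact hf h3 p hp
    · rw [Finset.sum_image hi]
      exact map_sum_even (K := hK.hom) (r := rv) hev hθ
  · intro h2
    have hA2 : A.card = 2 := by
      by_contra hne
      have h0 : A.card = 0 := by obtain ⟨k, hk⟩ := hev; omega
      obtain ⟨θ', hi', hθ', hf'⟩ := htheta _ Finset.sdiff_subset hBside (by omega)
      have := fixed_card (π' := π') (S := (P.J \ A).image θ') fun x hx => by
        obtain ⟨p, hp, rfl⟩ := Finset.mem_image.1 hx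
        exact hf' (by omega) p hp
      rw [Finset.card_image_of_injOn hi'] at this
      omega
    obtain ⟨θ, hi, hθ, -⟩ := htheta A hA hAside (by omega)
    obtain ⟨p, q, hpq, rfl⟩ := Finset.card_eq_two.1 hA2
    have hp : p ∈ ({p, q} : Finset _) := Finset.mem_insert_self _ _
    have hq : q ∈ ({p, q} : Finset _) := Finset.mem_insert_of_mem (Finset.mem_singleton_self _)
    obtain ⟨v, v', hvv, hc, he, -⟩ := hgp (hA hp) (hA hq) hpq (hAside p hp q hq)
    refine ⟨hA2, v, v', hvv, hc, by rw [← he]; exact congrArg K (Finset.sum_pair hpq), fun hB3 => ?_⟩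
    obtain ⟨θ', hi', hθ', hf'⟩ := htheta _ Finset.sdiff_subset hBside (by omega)
    have hd := hdisj (by omega) (by omega) hi hi' hθ hθ'
    have hθv : ∀ x, x = v ∨ x = v' → x ∈ ({p, q} : Finset _).image θ := by
      intro x hx
      rcases pair_inj hvv (he.symm.trans (hθ p hp q hq)) with ⟨r1, r2⟩ | ⟨r1, r2⟩ <;> rcases hx with rfl | rfl
      · rw [r1]; exact Finset.mem_image_of_mem θ hp
      · rw [r2]; exact Finset.mem_image_of_mem θ hq
      · rw [r1]; exact Finset.mem_image_of_mem θ hq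
      · rw [r2]; exact Finset.mem_image_of_mem θ hp
    refine ⟨_, Finset.card_image_of_injOn hi', fun x hx => ?_,
      Finset.disjoint_left.1 hd (hθv v (Or.inl rfl)), Finset.disjoint_left.1 hd (hθv v' (Or.inr rfl))⟩
    obtain ⟨r, hr, rfl⟩ := Finset.mem_image.1 hx
    exact hf' hB3 r hr

/-- an element fixing an orbit point of the hyperplane preserves it -/
theorem stab_inU [Finite G] (hn : 2 ≤ n) (hN : D.Normed) {g : G} {T : Vec (2 * n) → Vec (2 * n)}
    (h : D.Maps g P.hπ P.hπ T) {z : Option (Fin (2 * n))} (hz : z ∈ P.J) (hTz : T (tv z) = tv z)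
    {w : Vec (2 * n)} (hw : P.InU w) : P.InU (T w) := by
  rw [P.mem_J] at hz
  obtain ⟨g', R, hR, hR1, -, hRU⟩ := exists_lift (P := P) hn hN (Equiv.swap none z)
    (Equiv.swap_apply_of_ne_of_ne (by simp) hz.1.symm) (Equiv.swap_apply_of_ne_of_ne (by simp) hz.2.symm)
  obtain ⟨R', hR', hl, hr⟩ := hR.inv
  have hR0 : R 1 = tv z := by
    have := hR1 none P.none_mem_J
    rwa [Equiv.swap_apply_left] at this
  obtain ⟨s, hs, hs'⟩ := (hR'.comp (h.comp hR)).perm (by
    show R' (T (R 1)) = 1
    rw [hR0, hTz, ← hR0, hl])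
  obtain ⟨v, hv, rfl⟩ := Pair.surjOn hR.injective hRU hw
  have e := hs' v
  have e' : T (R v) = R (v ∘ s.symm) := by
    rw [← e]; exact (hr _).symm
  rw [e']
  exact hRU _ (perm_fix_pair hs hv)

/-- the subgroup of a transposition is not conjugate to one with more transpositions -/
theorem not_big [Finite G] (hn : 2 ≤ n) (hN : D.Normed) (hu₀ : ¬ P.InU u₀) (hS : Swaps D P u₀)
    {π' : Perm (Fin (2 * n))} {hπ' : π' * π' = 1} (hbig : 4 ≤ π'.support.card) {g : G}
    {K : Vec (2 * n) → Vec (2 * n)} (hK : D.Maps g P.hπ hπ' K) : False := by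
  classical
  obtain ⟨x, hx⟩ := hK.bijective.2 1
  have hcard := P.card_support
  have hno : ∀ {g' : G} {L : Vec (2 * n) → Vec (2 * n)}, D.Maps g' P.hπ hπ' L → L 1 = 1 → False := by
    intro g' L hL h1
    have hg : g' * D.t = D.t * g' := by
      have := hL 1
      rw [h1, D.el_one, D.el_one] at this
      exact mul_inv_eq_iff_eq_mul.1 this
    have := Setup.Maps.support_le D hL hg
    omega
  by_cases hxU : P.InU x
  · have horb : D.Orb x := by
      obtain ⟨g', T, h, hT⟩ := D.burnside hn (g := g⁻¹) (w := 1) (w' := x) (by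
        rw [← D.el_eq_b P.hπ (w := x) (P.inU_iff.1 hxU)]
        show g⁻¹ * D.el Setup.one_invol 1 * (g⁻¹)⁻¹ = _
        rw [D.el_one, ← D.el_one hπ', ← hx, ← hK x]
        group)
      exact ⟨g', T, h, hT⟩
    obtain ⟨z, rfl⟩ := (Setup.orb_iff hn hN).1 horb
    have hz := P.inU_tv.1 hxU
    rw [P.mem_J] at hz
    obtain ⟨g', R, hR, hR1, -, -⟩ := exists_lift (P := P) hn hN (Equiv.swap none z)
      (Equiv.swap_apply_of_ne_of_ne (by simp) hz.1.symm) (Equiv.swap_apply_of_ne_of_ne (by simp) hz.2.symm)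
    refine hno (hK.comp hR) ?_
    show K (R 1) = 1
    have := hR1 none P.none_mem_J
    rw [Equiv.swap_apply_left] at this
    rw [show R 1 = tv z from this, hx]
  obtain ⟨u, A, hu, hA, hev, rfl⟩ := exists_coords_out hu₀ hxU
  have hπne : π' ≠ 1 := fun h => by rw [h, Perm.support_one, Finset.card_empty] at hbig; omega
  obtain ⟨hb, hsm⟩ := shape hn hu₀ hS hπne hK hu hA hev hx
  have hJ := P.card_J
  have hcard' : A.card + (P.J \ A).card = P.J.card := by
    rw [add_comm, Finset.card_sdiff_add_card_eq_card hA]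
  rcases Nat.lt_or_ge 2 A.card with hA3 | hA3
  · obtain ⟨hB1, S, hSc, hSf, -⟩ := hb hA3
    have := fixed_card hSf
    omega
  obtain ⟨hA2, v, v', hvv, hc, he, hB⟩ := hsm hA3
  rcases Nat.lt_or_ge 2 (P.J \ A).card with hB3 | hB3
  · obtain ⟨S, hSc, hSf, -, -⟩ := hB hB3
    have := fixed_card hSf
    omega
  -- four points, two cycles
  have hn2 : n = 2 := by omega
  subst hn2
  have hmoved : ∀ y, π' y ≠ y := by
    intro y
    have : π'.support = univ := Finset.eq_univ_of_card _ (by
      have := Finset.card_le_univ π'.support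
      rw [Fintype.card_fin] at this ⊢
      omega)
    exact Perm.mem_support.1 (this ▸ mem_univ y)
  have hvπ : π' v = v' := by
    rcases pair_commute hvv hc with ⟨h, -⟩ | ⟨h, -⟩
    · exact absurd h (hmoved v)
    · exact h
  obtain ⟨r, hr⟩ : ∃ r, r ≠ v ∧ r ≠ v' := by
    obtain ⟨r, -, hr⟩ := Finset.exists_mem_notMem_of_card_lt_card (s := ({v, v'} : Finset _)) (t := univ)
      (by rw [Finset.card_univ, Fintype.card_fin]; have := Finset.card_le_two (a := v) (b := v'); omega)
    simp only [Finset.mem_insert, Finset.mem_singleton, not_or] at hr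
    exact ⟨r, hr⟩
  have hr1 : π' r ≠ v := fun e => hr.2 (by rw [← invol_apply hπ' r, e, hvπ])
  have hr2 : π' r ≠ v' := fun e => hr.1 (π'.injective (by rw [e, hvπ]))
  have hall : ({v, v', r, π' r} : Finset (Fin (2 * 2))) = univ := Finset.eq_univ_of_card _ (by
    rw [Finset.card_insert_of_notMem (by simp [hvv, hr.1.symm, hr1.symm]),
      Finset.card_insert_of_notMem (by simp [hr.2.symm, hr2.symm]), Finset.card_pair (hmoved r).symm,
      Fintype.card_fin])
  have hKu : K u = fv r + fv (π' r) := by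
    have h1 : (1 : Vec (2 * 2)) = fv v + fv v' + (fv r + fv (π' r)) := by
      rw [← sum_fv_univ, ← hall, Finset.sum_insert (by simp [hvv, hr.1.symm, hr1.symm]),
        Finset.sum_insert (by simp [hr.2.symm, hr2.symm]), Finset.sum_pair (hmoved r).symm]
      abel
    have h2 := hx
    rw [hK.add, he, h1, add_comm] at h2
    exact add_left_cancel h2
  obtain ⟨K', hK', hl, hr'⟩ := hK.inv
  have hTB := hK'.comp ((D.maps_flip hπ' r).comp hK)
  set TB : Vec (2 * 2) → Vec (2 * 2) := K' ∘ (fun w => w ∘ Equiv.swap r (π' r)) ∘ K with hTBdef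
  have hKT : ∀ w, K (TB w) = K w ∘ Equiv.swap r (π' r) := fun w => hr' _
  have hdisp : ∀ w, TB w = w ∨ TB w = w + u := by
    intro w
    by_cases h : K w r = K w (π' r)
    · refine Or.inl (hK.injective ((hKT w).trans (funext fun y => ?_)))
      rw [Function.comp_apply]
      rcases eq_or_ne y r with rfl | h1
      · rw [Equiv.swap_apply_left, h]
      rcases eq_or_ne y (π' r) with rfl | h2
      · rw [Equiv.swap_apply_right, h]
      · rw [Equiv.swap_apply_of_ne_of_ne h1 h2]
    · refine Or.inr (hK.injective ((hKT w).trans ?_))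
      rw [hK.add, hKu]
      funext y
      have e1 := add_eq_one_iff_ne.2 h
      rw [Function.comp_apply, Pi.add_apply]
      rcases eq_or_ne y r with rfl | h1
      · rw [Equiv.swap_apply_left, pair_left (hmoved y).symm]
        revert e1; generalize K w y = a; generalize K w (π' y) = c; revert a c; decide
      rcases eq_or_ne y (π' r) with rfl | h2
      · rw [Equiv.swap_apply_right, pair_right (hmoved r).symm]
        revert e1; generalize K w r = a; generalize K w (π' r) = c; revert a c; decide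
      · rw [Equiv.swap_apply_of_ne_of_ne h1 h2, Pi.add_apply, fv_of_ne h1, fv_of_ne h2, add_zero, add_zero]
  obtain ⟨i, hi⟩ := Finset.card_eq_one.1 (show (P.J \ A).card = 1 by omega)
  have hiJ : i ∈ P.J ∧ i ∉ A := Finset.mem_sdiff.1 (hi ▸ Finset.mem_singleton_self i)
  have hAJ : A = P.J.erase i := by
    refine Finset.eq_of_subset_of_card_le (fun y hy => Finset.mem_erase.2 ⟨fun e => hiJ.2 (e ▸ hy), hA hy⟩) ?_
    rw [Finset.card_erase_of_mem hiJ.1]; omega
  have htvi : tv i = P.d + chi A := by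
    rw [hAJ, tv_eq, P.one_eq, add_assoc]
    congr 1
    have e1 : P.crest = chi P.J := by
      rw [Pair.crest, chi, chi, ← Finset.add_sum_erase P.J _ P.none_mem_J, rv_none, zero_add]
    have e2 : chi P.J = rv i + chi (P.J.erase i) := by
      rw [chi, chi, Finset.add_sum_erase P.J _ hiJ.1]
    rw [e1, e2, add_comm (rv i), add_assoc, vec_self, add_zero]
  have hTu : TB u = u := by
    rcases hdisp u with h | h
    · exact h
    · rw [vec_self] at h
      exact absurd (hTB.injective (h.trans hTB.zero.symm)) fun e => out_ne hu₀ hu (e ▸ rfl)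
  rcases hdisp (tv i) with h | h
  · have hU : ∀ w, P.InU w → TB w = w := by
      intro w hw
      rcases hdisp w with h' | h'
      · exact h'
      · have := stab_inU hn hN hTB hiJ.1 h hw
        rw [h'] at this
        exfalso
        refine out_ne hu₀ hu ?_
        have := P.inU_add this hw
        rwa [add_comm w u, add_assoc, vec_self, add_zero] at this
    have hid : ∀ w, TB w = w := by
      intro w
      by_cases hw : P.InU w
      · exact hU w hw
      · have : P.InU (w + u) := by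
          have h1 := out_ne hu₀ hu
          unfold Pair.InU at h1 hw ⊢
          rw [Pi.add_apply, Pi.add_apply]
          revert h1 hw
          generalize w P.a = a; generalize w P.b = b; generalize u P.a = c; generalize u P.b = e
          revert a b c e; decide
        have h1 := hU _ this
        rw [hTB.add, hTu] at h1
        exact add_right_cancel h1
    obtain ⟨w, hw⟩ := hK.bijective.2 (fv r)
    have := hKT w
    rw [hid, hw] at this
    have := congrFun this r
    rw [Function.comp_apply, Equiv.swap_apply_left, fv_same, fv_of_ne (hmoved r)] at this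
    exact one_ne_zero this
  · obtain ⟨gτ, τ, hτ, hτ1, hτ2⟩ := exists_tau (D := D) (P := P)
    have hiJ' := P.mem_J.1 hiJ.1
    obtain ⟨g', R, hR, hR1, -, -⟩ := exists_lift (P := P) hn hN (Equiv.swap none i)
      (Equiv.swap_apply_of_ne_of_ne (by simp) hiJ'.1.symm) (Equiv.swap_apply_of_ne_of_ne (by simp) hiJ'.2.symm)
    refine hno (hK.comp (hτ.comp (hTB.comp hR))) ?_
    show K (τ (TB (R 1))) = 1
    have e : R 1 = tv i := by
      have := hR1 none P.none_mem_J
      rwa [Equiv.swap_apply_left] at this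
    rw [e, h, htvi, hτ.add, hτ1 _ (P.inU_add P.d_inU (P.chi_inU hA)), hτ2 u (out_ne hu₀ hu),
      show P.d + chi A + (u + P.d) = u + chi A + (P.d + P.d) from by abel, vec_self, add_zero, hx]

end H37.Kondo
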