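import Cfsg.Agent.H37.Kondo.Model

/-!
Linear maps carrying transpositions to transpositions (S3191).
-/

set_option autoImplicit false

namespace H37.Kondo

open Equiv Finset

variable {N : ℕ}

/-- the basis vector at `p` -/
def fv (p : Fin N) : Vec N := Pi.single p 1

theorem fv_apply (p x : Fin N) : fv p x = if x = p then 1 else 0 := Pi.single_apply p (1 : ZMod 2) x

theorem fv_same (p : Fin N) : fv p p = 1 := by rw [fv_apply, if_pos rfl]

theorem fv_of_ne {p x : Fin N} (h : x ≠ p) : fv p x = 0 := by rw [fv_apply, if_neg h]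

theorem fv_comp (p : Fin N) (g : Perm (Fin N)) : fv p ∘ g.symm = fv (g p) := by
  funext x
  rw [Function.comp_apply, fv_apply, fv_apply]
  exact if_congr (Equiv.symm_apply_eq g) rfl rfl

theorem pair_apply {u v x : Fin N} (h : (fv u + fv v) x = 1) : x = u ∨ x = v := by
  by_contra hx
  rw [not_or] at hx
  rw [Pi.add_apply, fv_of_ne hx.1, fv_of_ne hx.2] at h
  exact absurd h (by decide)

theorem pair_left {u v : Fin N} (h : u ≠ v) : (fv u + fv v) u = 1 := by
  rw [Pi.add_apply, fv_same, fv_of_ne h, add_zero]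

theorem pair_right {u v : Fin N} (h : u ≠ v) : (fv u + fv v) v = 1 := by
  rw [add_comm]; exact pair_left h.symm

theorem pair_ne_zero {u v : Fin N} (h : u ≠ v) : fv u + fv v ≠ 0 := fun h0 => by
  have := pair_left h
  rw [h0] at this
  simp at this

theorem pair_inj {u v u' v' : Fin N} (h : u ≠ v) (he : fv u + fv v = fv u' + fv v') :
    (u = u' ∧ v = v') ∨ (u = v' ∧ v = u') := by
  have h1 := pair_apply (he ▸ pair_left h : (fv u' + fv v') u = 1)
  have h2 := pair_apply (he ▸ pair_right h : (fv u' + fv v') v = 1)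
  rcases h1 with a | a <;> rcases h2 with b | b
  · exact absurd (a.trans b.symm) h
  · exact Or.inl ⟨a, b⟩
  · exact Or.inr ⟨a, b⟩
  · exact absurd (a.trans b.symm) h

/-- a pair whose transposition commutes with `π` -/
theorem pair_commute {π : Perm (Fin N)} {u v : Fin N} (h : u ≠ v)
    (hc : Equiv.swap u v * π = π * Equiv.swap u v) : (π u = u ∧ π v = v) ∨ (π u = v ∧ π v = u) := by
  have h1 : π v = Equiv.swap u v (π u) := by
    rw [← Perm.mul_apply, hc, Perm.mul_apply, Equiv.swap_apply_left]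
  rcases em (π u = u) with a | a
  · exact Or.inl ⟨a, by rw [h1, a, Equiv.swap_apply_left]⟩
  rcases em (π u = v) with b | b
  · exact Or.inr ⟨b, by rw [h1, b, Equiv.swap_apply_right]⟩
  · rw [Equiv.swap_apply_of_ne_of_ne a b] at h1
    exact absurd (π.injective h1) h.symm

/-- two pairs, one fixed by the transposition of the other, are equal or disjoint -/
theorem pair_disjoint {u v u' v' : Fin N} (h : u ≠ v) (h' : u' ≠ v')
    (hfix : (fv u' + fv v') ∘ Equiv.swap u v = fv u' + fv v') (hne : fv u + fv v ≠ fv u' + fv v') :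
    u ≠ u' ∧ u ≠ v' ∧ v ≠ u' ∧ v ≠ v' := by
  have huv : (fv u' + fv v') u = (fv u' + fv v') v := by
    have := congrFun hfix u
    rw [Function.comp_apply, Equiv.swap_apply_left] at this
    exact this.symm
  rcases zmod2_cases ((fv u' + fv v') u) with a | a
  · have b := huv.symm.trans a
    refine ⟨?_, ?_, ?_, ?_⟩ <;> rintro rfl
    · exact absurd ((pair_left h').symm.trans a) (by decide)
    · exact absurd ((pair_right h').symm.trans a) (by decide)
    · exact absurd ((pair_left h').symm.trans b) (by decide)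
    · exact absurd ((pair_right h').symm.trans b) (by decide)
  · have b := huv.symm.trans a
    refine absurd ?_ hne
    rcases pair_apply a with a1 | a1 <;> rcases pair_apply b with b1 | b1
    · exact absurd (a1.trans b1.symm) h
    · rw [a1, b1]
    · rw [a1, b1, add_comm]
    · exact absurd (a1.trans b1.symm) h

/-- a permutation all whose displacements are `0` or `c` is a transposition -/
theorem exists_swap_of_displacement {g : Perm (Fin N)} {c : Vec N} (hg : g ≠ 1)
    (hd : ∀ w : Vec N, w ∘ g.symm + w = 0 ∨ w ∘ g.symm + w = c) :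
    ∃ u v, u ≠ v ∧ g = Equiv.swap u v ∧ c = fv u + fv v := by
  have key : ∀ x, g x ≠ x → fv (g x) + fv x = c := fun x hx => by
    have h := hd (fv x)
    rw [fv_comp] at h
    exact h.resolve_left (pair_ne_zero hx)
  obtain ⟨u, hu⟩ : ∃ u, g u ≠ u := by
    by_contra h; push Not at h; exact hg (Equiv.ext h)
  refine ⟨u, g u, hu.symm, ?_, by rw [add_comm, key u hu]⟩
  have hmoved : ∀ x, g x ≠ x → x = u ∨ x = g u := fun x hx => by
    rcases pair_inj hx ((key x hx).trans (key u hu).symm) with ⟨_, b⟩ | ⟨_, b⟩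
    · exact Or.inl b
    · exact Or.inr b
  have h2 : g (g u) = u := by
    have hm : g (g u) ≠ g u := fun h => hu (g.injective h)
    rcases pair_inj hm ((key _ hm).trans (key u hu).symm) with ⟨_, b⟩ | ⟨a, _⟩
    · exact absurd b hu
    · exact a
  ext1 x
  by_cases hx : g x = x
  · have h1 : x ≠ u := fun h => by subst h; exact hu hx
    have h3 : x ≠ g u := fun h => by subst h; exact hu (g.injective hx)
    rw [hx, Equiv.swap_apply_of_ne_of_ne h1 h3]
  · rcases hmoved x hx with rfl | rfl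
    · rw [Equiv.swap_apply_left]
    · rw [h2, Equiv.swap_apply_right]

section Clique

variable {κ : Type*} [DecidableEq κ] {V : Type*} [AddCommGroup V] (K : V →+ Vec N) (r : κ → V)
  (π : Perm (Fin N))

/-- the pair `p, q` goes to a transposition commuting with `π` -/
def GoodPair (p q : κ) : Prop :=
  ∃ u v, u ≠ v ∧ Equiv.swap u v * π = π * Equiv.swap u v ∧ K (r p + r q) = fv u + fv v

variable {K r π}

theorem exists_theta {A : Finset κ} (h2 : 2 ≤ A.card)
    (hpair : ∀ p ∈ A, ∀ q ∈ A, p ≠ q → GoodPair K r π p q)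
    (hind : ∀ a ∈ A, ∀ b ∈ A, ∀ c ∈ A, ∀ d ∈ A, a ≠ b → a ≠ c → a ≠ d → b ≠ c → b ≠ d → c ≠ d →
      K (r a + r b + (r c + r d)) ≠ 0) :
    ∃ θ : κ → Fin N, Set.InjOn θ A ∧ (∀ p ∈ A, ∀ q ∈ A, K (r p + r q) = fv (θ p) + fv (θ q)) ∧
      (3 ≤ A.card → ∀ p ∈ A, π (θ p) = θ p) := by
  classical
  obtain ⟨p₀, hp₀, q₀, hq₀, hpq⟩ := Finset.one_lt_card.1 (by omega : 1 < A.card)
  obtain ⟨u₀, v₀, huv, hc₀, hK₀⟩ := hpair p₀ hp₀ q₀ hq₀ hpq
  have hneg : ∀ x : Vec N, -x = x := vec_neg
  have hsum : ∀ p q s : κ, K (r p + r q) + K (r p + r s) = K (r q + r s) + K (r p + r p) := fun p q s => by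
    rw [← map_add, ← map_add]; congr 1; abel
  have hpp : ∀ p : κ, K (r p + r p) = 0 := fun p => by rw [map_add]; exact vec_self _
  have hK : ∀ p q s : κ, K (r q + r s) = K (r p + r q) + K (r p + r s) := fun p q s => by
    rw [hsum, hpp, add_zero]
  -- a point common to all pairs at `p₀`
  have hmeet : ∀ q ∈ A, q ≠ p₀ → q ≠ q₀ → K (r p₀ + r q) u₀ = 1 ∨ K (r p₀ + r q) v₀ = 1 := by
    intro q hq h1 h2
    obtain ⟨a, b, hab, -, e1⟩ := hpair p₀ hp₀ q hq h1.symm
    obtain ⟨c, d, hcd, -, e2⟩ := hpair q₀ hq₀ q hq h2.symm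
    rw [hK p₀, hK₀, e1] at e2
    by_contra hno
    rw [not_or, e1] at hno
    have hu := (zmod2_cases _).resolve_right hno.1
    have hv := (zmod2_cases _).resolve_right hno.2
    have hu' : (fv c + fv d) u₀ = 1 := by rw [← e2, Pi.add_apply, pair_left huv, hu, add_zero]
    have hv' : (fv c + fv d) v₀ = 1 := by rw [← e2, Pi.add_apply, pair_right huv, hv, add_zero]
    have : fv c + fv d = fv u₀ + fv v₀ := by
      rcases pair_apply hu' with e | e <;> rcases pair_apply hv' with e' | e'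
      · exact absurd (e.trans e'.symm) huv
      · rw [e, e']
      · rw [e, e', add_comm]
      · exact absurd (e.trans e'.symm) huv
    rw [this] at e2
    exact pair_ne_zero hab (by rwa [add_eq_left] at e2)
  obtain ⟨u, v, huv', hK', hu⟩ : ∃ u v, u ≠ v ∧ K (r p₀ + r q₀) = fv u + fv v ∧
      ∀ q ∈ A, q ≠ p₀ → K (r p₀ + r q) u = 1 := by
    by_cases hall : ∀ q ∈ A, q ≠ p₀ → K (r p₀ + r q) u₀ = 1
    · exact ⟨u₀, v₀, huv, hK₀, hall⟩
    refine ⟨v₀, u₀, huv.symm, by rw [hK₀, add_comm], fun q hq hq0 => ?_⟩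
    push Not at hall
    obtain ⟨q', hq', hq'0, hq'u⟩ := hall
    have hq'q₀ : q' ≠ q₀ := fun e => hq'u (by rw [e, hK₀, pair_left huv])
    have hq'v : K (r p₀ + r q') v₀ = 1 := (hmeet q' hq' hq'0 hq'q₀).resolve_left hq'u
    by_contra hqv
    have hqq₀ : q ≠ q₀ := fun e => hqv (by rw [e, hK₀, pair_right huv])
    have hqu : K (r p₀ + r q) u₀ = 1 := (hmeet q hq hq0 hqq₀).resolve_right hqv
    have hqq' : q ≠ q' := fun e => hq'u (e ▸ hqu)
    obtain ⟨a, b, hab, -, e1⟩ := hpair q hq q' hq' hqq'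
    obtain ⟨c, d, hcd, -, e2⟩ := hpair p₀ hp₀ q hq hq0.symm
    obtain ⟨c', d', hcd', -, e3⟩ := hpair p₀ hp₀ q' hq' hq'0.symm
    rw [hK p₀, e2, e3] at e1
    rw [e2] at hqu hqv
    rw [e3] at hq'u hq'v
    have h1 : (fv a + fv b) u₀ = 1 := by
      rw [← e1, Pi.add_apply, hqu, (zmod2_cases _).resolve_right hq'u, add_zero]
    have h2 : (fv a + fv b) v₀ = 1 := by
      rw [← e1, Pi.add_apply, hq'v, (zmod2_cases _).resolve_right hqv, zero_add]
    have : fv a + fv b = fv u₀ + fv v₀ := by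
      rcases pair_apply h1 with e | e <;> rcases pair_apply h2 with e' | e'
      · exact absurd (e.trans e'.symm) huv
      · rw [e, e']
      · rw [e, e', add_comm]
      · exact absurd (e.trans e'.symm) huv
    refine hind p₀ hp₀ q₀ hq₀ q hq q' hq' hpq hq0.symm hq'0.symm hqq₀.symm hq'q₀.symm hqq' ?_
    rw [map_add, hK₀, hK p₀ q q', e2, e3, e1, this]
    exact vec_self _
  have hex : ∀ q : κ, ∃ z : Fin N, q ∈ A → K (r p₀ + r q) = fv u + fv z := by
    intro q
    by_cases hq : q ∈ A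
    · by_cases h : q = p₀
      · exact ⟨u, fun _ => by rw [h, hpp, vec_self]⟩
      · obtain ⟨a, b, hab, -, e⟩ := hpair p₀ hp₀ q hq (Ne.symm h)
        have := hu q hq h
        rw [e] at this
        rcases pair_apply this with a' | a'
        · exact ⟨b, fun _ => by rw [e, a']⟩
        · exact ⟨a, fun _ => by rw [e, a', add_comm]⟩
    · exact ⟨u, fun h => absurd h hq⟩
  choose θ hθ using hex
  have hθK : ∀ p ∈ A, ∀ q ∈ A, K (r p + r q) = fv (θ p) + fv (θ q) := fun p hp q hq => by
    rw [hK p₀, hθ p hp, hθ q hq, add_add_add_comm, vec_self, zero_add]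
  have hinj : Set.InjOn θ A := by
    intro p hp q hq h
    by_contra hne
    obtain ⟨a, b, hab, -, e⟩ := hpair p hp q hq hne
    rw [hθK p hp q hq, h, vec_self] at e
    exact pair_ne_zero hab e.symm
  refine ⟨θ, hinj, hθK, fun h3 p hp => ?_⟩
  obtain ⟨q, hq, q', hq', hqq'⟩ := Finset.one_lt_card.1
    (by rw [Finset.card_erase_of_mem hp]; omega : 1 < (A.erase p).card)
  rw [Finset.mem_erase] at hq hq'
  have key : ∀ s ∈ A, s ≠ p → π (θ p) = θ p ∨ π (θ p) = θ s := fun s hs hsp => by
    obtain ⟨a, b, hab, hc, e⟩ := hpair p hp s hs hsp.symm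
    rw [hθK p hp s hs] at e
    rcases pair_inj (fun h => hsp (hinj hs hp h.symm)) e with ⟨r1, r2⟩ | ⟨r1, r2⟩ <;>
      rcases pair_commute hab hc with ⟨c1, c2⟩ | ⟨c1, c2⟩
    · exact Or.inl (by rw [r1, c1])
    · exact Or.inr (by rw [r1, r2, c1])
    · exact Or.inl (by rw [r1, c2])
    · exact Or.inr (by rw [r1, r2, c2])
  rcases key q hq.2 hq.1 with h | h
  · exact h
  rcases key q' hq'.2 hq'.1 with h' | h'
  · exact h'
  · exact absurd (hinj hq.2 hq'.2 (h.symm.trans h')) hqq'

/-- two cliques whose transpositions fix each other's pairs have disjoint images -/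
theorem theta_disjoint {A B : Finset κ} (hA2 : 2 ≤ A.card) (hB2 : 2 ≤ B.card) {θ θ' : κ → Fin N}
    (hθi : Set.InjOn θ A) (hθi' : Set.InjOn θ' B)
    (hθ : ∀ p ∈ A, ∀ q ∈ A, K (r p + r q) = fv (θ p) + fv (θ q))
    (hθ' : ∀ p ∈ B, ∀ q ∈ B, K (r p + r q) = fv (θ' p) + fv (θ' q))
    (hne : ∀ p ∈ A, ∀ q ∈ A, ∀ p' ∈ B, ∀ q' ∈ B, p ≠ q → p' ≠ q' → K (r p + r q) ≠ K (r p' + r q'))
    (hfix : ∀ p ∈ A, ∀ q ∈ A, ∀ p' ∈ B, ∀ q' ∈ B, p ≠ q → p' ≠ q' → ∀ u v,
      K (r p + r q) = fv u + fv v → u ≠ v → K (r p' + r q') ∘ Equiv.swap u v = K (r p' + r q')) :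
    Disjoint (A.image θ) (B.image θ') := by
  rw [Finset.disjoint_left]
  rintro x hx hx'
  obtain ⟨p, hp, rfl⟩ := Finset.mem_image.1 hx
  obtain ⟨p', hp', e⟩ := Finset.mem_image.1 hx'
  obtain ⟨q, hq, hqp⟩ := Finset.exists_mem_ne (by omega : 1 < A.card) p
  obtain ⟨q', hq', hqp'⟩ := Finset.exists_mem_ne (by omega : 1 < B.card) p'
  have h1 : θ p ≠ θ q := fun h => hqp (hθi hq hp h.symm)
  have h2 : θ' p' ≠ θ' q' := fun h => hqp' (hθi' hq' hp' h.symm)
  have h3 := hfix p hp q hq p' hp' q' hq' hqp.symm hqp'.symm _ _ (hθ p hp q hq) h1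
  rw [hθ' p' hp' q' hq'] at h3
  have h4 := hne p hp q hq p' hp' q' hq' hqp.symm hqp'.symm
  rw [hθ p hp q hq, hθ' p' hp' q' hq'] at h4
  exact (pair_disjoint h1 h2 h3 h4).1 e.symm

theorem map_sum_even {A : Finset κ} (hev : Even A.card) {θ : κ → Fin N}
    (hθ : ∀ p ∈ A, ∀ q ∈ A, K (r p + r q) = fv (θ p) + fv (θ q)) :
    K (∑ p ∈ A, r p) = ∑ p ∈ A, fv (θ p) := by
  rcases A.eq_empty_or_nonempty with rfl | ⟨p₀, hp₀⟩
  · simp
  · have hz : ∀ x : Vec N, A.card • x = 0 := fun x => by
      obtain ⟨k, hk⟩ := hev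
      rw [hk, add_nsmul]; exact vec_self _
    calc K (∑ p ∈ A, r p) = K (∑ p ∈ A, r p) + A.card • K (r p₀) := by rw [hz, add_zero]
      _ = ∑ p ∈ A, K (r p + r p₀) := by
          simp only [map_add, Finset.sum_add_distrib, Finset.sum_const, map_sum]
      _ = ∑ p ∈ A, (fv (θ p) + fv (θ p₀)) := Finset.sum_congr rfl fun p hp => hθ p hp p₀ hp₀
      _ = ∑ p ∈ A, fv (θ p) := by rw [Finset.sum_add_distrib, Finset.sum_const, hz, add_zero]

end Clique

theorem sum_fv_apply (S : Finset (Fin N)) (x : Fin N) :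
    (∑ p ∈ S, fv p) x = if x ∈ S then 1 else 0 := by
  rw [Finset.sum_apply]
  simp only [fv_apply]
  rw [Finset.sum_ite_eq]

theorem sum_fv_univ : (∑ p : Fin N, fv p) = 1 := by
  funext x; rw [sum_fv_apply, if_pos (Finset.mem_univ x)]; rfl

theorem vec_eq_sum (w : Vec N) : w = ∑ p ∈ univ.filter (fun p => w p = 1), fv p := by
  funext x
  rw [sum_fv_apply]
  rcases zmod2_cases (w x) with h | h
  · rw [if_neg (by simp [h]), h]
  · rw [if_pos (by simp [h]), h]

/-- parity -/
def par : Vec N →+ ZMod 2 where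
  toFun w := ∑ p, w p
  map_zero' := Finset.sum_const_zero
  map_add' w w' := Finset.sum_add_distrib

theorem par_apply (w : Vec N) : par w = ∑ p, w p := rfl

theorem par_fv (p : Fin N) : par (fv p) = 1 := by
  rw [par_apply, Finset.sum_eq_single p (fun q _ h => fv_of_ne h) (by simp), fv_same]

theorem par_sum (S : Finset (Fin N)) : par (∑ p ∈ S, fv p) = (S.card : ZMod 2) := by
  rw [map_sum]; simp [par_fv]

/-- Lemma F. A frame through a point of the orbit: the involution is trivial and the weight is odd. -/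
theorem frame_rigid {n : ℕ} (hn : 2 ≤ n) {π : Perm (Fin (2 * n))} (hπ : π * π = 1)
    (K : Vec (2 * n) →+ Vec (2 * n)) (hK : Function.Injective K)
    (y : Vec (2 * n)) (hy0 : y ≠ 0) (hy1 : y ≠ 1) (hKy : K y = 1)
    (hsw : ∀ p q, y p = y q → ∃ g : Perm (Fin (2 * n)), g * π = π * g ∧
      ∀ w, K (w ∘ Equiv.swap p q) = K w ∘ g.symm) :
    π = 1 ∧ par y = 1 := by
  classical
  let A : Finset (Fin (2 * n)) := univ.filter fun p => y p = 1
  let B : Finset (Fin (2 * n)) := univ.filter fun p => y p = 0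
  have hAy : y = ∑ p ∈ A, fv p := vec_eq_sum y
  have hAB : A.card + B.card = 2 * n := by
    have h := Finset.card_filter_add_card_filter_not (s := (univ : Finset (Fin (2 * n)))) (fun p => y p = 1)
    rw [Finset.card_univ, Fintype.card_fin] at h
    convert h using 3
    ext p
    simp only [B, Finset.mem_filter]
    rcases zmod2_cases (y p) with e | e <;> simp [e]
  have hA1 : 1 ≤ A.card := by
    by_contra h
    apply hy0
    rw [hAy, Finset.card_eq_zero.1 (by omega : A.card = 0), Finset.sum_empty]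
  have hB1 : 1 ≤ B.card := by
    by_contra h
    apply hy1
    funext p
    have := Finset.card_eq_zero.1 (by omega : B.card = 0)
    rcases zmod2_cases (y p) with e | e
    · exact absurd (this ▸ (by simp [B, e] : p ∈ B)) (Finset.notMem_empty p)
    · exact e
  have hpair : ∀ p q, p ≠ q → y p = y q → ∃ u v, u ≠ v ∧
      Equiv.swap u v * π = π * Equiv.swap u v ∧ K (fv p + fv q) = fv u + fv v ∧
      ∀ w, K (w ∘ Equiv.swap p q) = K w ∘ Equiv.swap u v := by
    intro p q hpq hy
    obtain ⟨g, hg, hgK⟩ := hsw p q hy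
    have hd : ∀ w : Vec (2 * n), w ∘ Equiv.swap p q + w = 0 ∨ w ∘ Equiv.swap p q + w = fv p + fv q := by
      intro w
      by_cases e : w p = w q
      · refine Or.inl (funext fun x => ?_)
        rw [Pi.add_apply, Function.comp_apply]
        rcases eq_or_ne x p with rfl | hxp
        · rw [Equiv.swap_apply_left, ← e]; exact two_eq _
        rcases eq_or_ne x q with rfl | hxq
        · rw [Equiv.swap_apply_right, e]; exact two_eq _
        · rw [Equiv.swap_apply_of_ne_of_ne hxp hxq]; exact two_eq _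
      · refine Or.inr (funext fun x => ?_)
        rw [Pi.add_apply, Function.comp_apply]
        have e1 := add_eq_one_iff_ne.2 e
        rcases eq_or_ne x p with rfl | hxp
        · rw [Equiv.swap_apply_left, pair_left hpq, add_comm, e1]
        rcases eq_or_ne x q with rfl | hxq
        · rw [Equiv.swap_apply_right, pair_right hpq, e1]
        · rw [Equiv.swap_apply_of_ne_of_ne hxp hxq, two_eq, Pi.add_apply, fv_of_ne hxp, fv_of_ne hxq, add_zero]
    have hsurj : Function.Surjective K := (Finite.injective_iff_surjective.1 hK)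
    have hne : g ≠ 1 := by
      rintro rfl
      have h1 : fv p ∘ Equiv.swap p q = fv p := hK (hgK _)
      have := congrFun h1 q
      rw [Function.comp_apply, Equiv.swap_apply_right, fv_same, fv_of_ne hpq.symm] at this
      exact absurd this (by decide)
    obtain ⟨u, v, huv, hguv, hc⟩ := exists_swap_of_displacement (c := K (fv p + fv q)) hne (fun z => by
      obtain ⟨w, rfl⟩ := hsurj z
      rw [← hgK, ← map_add]
      rcases hd w with h | h
      · exact Or.inl (by rw [h, map_zero])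
      · exact Or.inr (by rw [h]))
    refine ⟨u, v, huv, hguv ▸ hg, hc, fun w => ?_⟩
    rw [hgK, hguv, Equiv.symm_swap]
  have hgp : ∀ S : Finset (Fin (2 * n)), (∀ p ∈ S, ∀ q ∈ S, y p = y q) →
      ∀ p ∈ S, ∀ q ∈ S, p ≠ q → GoodPair K fv π p q := fun S hS p hp q hq h => by
    obtain ⟨u, v, huv, hc, he, -⟩ := hpair p q h (hS p hp q hq)
    exact ⟨u, v, huv, hc, he⟩
  have hAc : ∀ p ∈ A, ∀ q ∈ A, y p = y q := fun p hp q hq => by
    rw [(Finset.mem_filter.1 hp).2, (Finset.mem_filter.1 hq).2]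
  have hBc : ∀ p ∈ B, ∀ q ∈ B, y p = y q := fun p hp q hq => by
    rw [(Finset.mem_filter.1 hp).2, (Finset.mem_filter.1 hq).2]
  have hind : ∀ a b c d : Fin (2 * n), a ≠ b → a ≠ c → a ≠ d →
      K (fv a + fv b + (fv c + fv d)) ≠ 0 := fun a b c d hab hac had h => by
    have h' := congrFun (hK (h.trans (map_zero K).symm)) a
    rw [Pi.add_apply, pair_left hab, Pi.add_apply, fv_of_ne hac, fv_of_ne had] at h'
    simp at h'
  have hθ := fun (S : Finset (Fin (2 * n))) hS (h : 2 ≤ S.card) => exists_theta (K := K) (r := fv) (π := π) h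
    (hgp S hS) (fun a _ b _ c _ d _ hab hac had _ _ _ => hind a b c d hab hac had)
  have hmoved : π ≠ 1 → ∀ (S : Finset (Fin (2 * n))), (∀ x ∈ S, π x = x) → S.card + 2 ≤ 2 * n := by
    intro hπ1 S hS
    have hsub : S ⊆ π.supportᶜ := fun x hx => by
      rw [Finset.mem_compl, Perm.mem_support, not_not]; exact hS x hx
    have h2 := Perm.two_le_card_support_of_ne_one hπ1
    have h3 := Finset.card_le_card hsub
    rw [Finset.card_compl, Fintype.card_fin] at h3
    have h4 := Finset.card_le_univ π.support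
    rw [Fintype.card_fin] at h4
    omega
  -- both parts with at least two points
  have hboth : 2 ≤ A.card → 2 ≤ B.card → ∃ SA SB : Finset (Fin (2 * n)), SA.card = A.card ∧
      SB.card = B.card ∧ Disjoint SA SB ∧ (Even A.card → K y = ∑ x ∈ SA, fv x) ∧
      (Even B.card → K (∑ p ∈ B, fv p) = ∑ x ∈ SB, fv x) ∧
      (3 ≤ A.card → ∀ x ∈ SA, π x = x) ∧ (3 ≤ B.card → ∀ x ∈ SB, π x = x) := by
    intro hA2 hB2
    obtain ⟨θ, hi, hθ1, hf⟩ := hθ A hAc hA2
    obtain ⟨θ', hi', hθ2, hf'⟩ := hθ B hBc hB2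
    have hAB' : ∀ p ∈ A, ∀ p' ∈ B, p ≠ p' := fun p hp p' hp' h => by
      have a := (Finset.mem_filter.1 hp).2
      rw [h, (Finset.mem_filter.1 hp').2] at a
      exact absurd a (by decide)
    refine ⟨A.image θ, B.image θ', Finset.card_image_of_injOn hi, Finset.card_image_of_injOn hi',
      theta_disjoint (K := K) (r := fv) hA2 hB2 hi hi' hθ1 hθ2 ?_ ?_, fun he => ?_, fun he => ?_, ?_, ?_⟩
    · intro p hp q hq p' hp' q' hq' hpq hpq' h
      have h' := congrFun (hK h) p
      rw [pair_left hpq, Pi.add_apply, fv_of_ne (hAB' p hp p' hp'), fv_of_ne (hAB' p hp q' hq')] at h'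
      simp at h'
    · intro p hp q hq p' hp' q' hq' hpq hpq' u v he huv
      obtain ⟨a, b, hab, -, hc, hw⟩ := hpair p q hpq (hAc p hp q hq)
      rw [hc] at he
      have hsw' : Equiv.swap a b = Equiv.swap u v := by
        rcases pair_inj hab he with ⟨r1, r2⟩ | ⟨r1, r2⟩
        · rw [r1, r2]
        · rw [r1, r2, Equiv.swap_comm]
      rw [← hsw', ← hw]
      congr 1
      funext x
      rw [Function.comp_apply]
      rcases eq_or_ne x p with rfl | hxp
      · rw [Equiv.swap_apply_left, Pi.add_apply, Pi.add_apply, fv_of_ne (hAB' q hq p' hp'),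
          fv_of_ne (hAB' q hq q' hq'), fv_of_ne (hAB' _ hp p' hp'), fv_of_ne (hAB' _ hp q' hq')]
      rcases eq_or_ne x q with rfl | hxq
      · rw [Equiv.swap_apply_right, Pi.add_apply, Pi.add_apply, fv_of_ne (hAB' p hp p' hp'),
          fv_of_ne (hAB' p hp q' hq'), fv_of_ne (hAB' _ hq p' hp'), fv_of_ne (hAB' _ hq q' hq')]
      · rw [Equiv.swap_apply_of_ne_of_ne hxp hxq]
    · rw [Finset.sum_image hi, ← map_sum_even (K := K) (r := fv) he hθ1, ← hAy]
    · rw [Finset.sum_image hi', map_sum_even (K := K) (r := fv) he hθ2]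
    · intro h x hx
      obtain ⟨p, hp, rfl⟩ := Finset.mem_image.1 hx
      exact hf h p hp
    · intro h x hx
      obtain ⟨p, hp, rfl⟩ := Finset.mem_image.1 hx
      exact hf' h p hp
  -- the weight is odd
  have hodd : Odd A.card := by
    by_contra hev
    rw [Nat.not_odd_iff_even] at hev
    have hA2 : 2 ≤ A.card := by obtain ⟨k, hk⟩ := hev; omega
    have hevB : Even B.card := by obtain ⟨k, hk⟩ := hev; exact ⟨n - k, by omega⟩
    have hB2 : 2 ≤ B.card := by obtain ⟨k, hk⟩ := hevB; omega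
    obtain ⟨SA, SB, hSA, hSB, hdis, eA, eB, -, -⟩ := hboth hA2 hB2
    have huniv : SA ∪ SB = univ :=
      Finset.eq_univ_of_card _ (by rw [Finset.card_union_of_disjoint hdis, Fintype.card_fin]; omega)
    have h1 : K (∑ p : Fin (2 * n), fv p) = K y := by
      rw [hKy, ← Finset.sum_filter_add_sum_filter_not (univ : Finset (Fin (2 * n)))
        (fun p => y p = 1), map_add]
      have hB' : univ.filter (fun p => ¬ y p = 1) = B := by
        ext p; rcases zmod2_cases (y p) with e | e <;> simp [B, e]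
      rw [hB', eB hevB]
      change K (∑ p ∈ A, fv p) + _ = _
      rw [← hAy, eA hev, ← Finset.sum_union hdis, huniv, sum_fv_univ]
    exact hy1 ((hK h1).symm.trans sum_fv_univ)
  refine ⟨?_, ?_⟩
  · by_contra hπ1
    rcases Nat.lt_or_ge A.card 3 with hA | hA
    · have ha : A.card = 1 := by obtain ⟨k, hk⟩ := hodd; omega
      obtain ⟨θ', hi', -, hf'⟩ := hθ B hBc (by omega)
      have := hmoved hπ1 (B.image θ') (fun x hx => by
        obtain ⟨p, hp, rfl⟩ := Finset.mem_image.1 hx
        exact hf' (by omega) p hp)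
      rw [Finset.card_image_of_injOn hi'] at this
      omega
    · rcases Nat.lt_or_ge B.card 3 with hB | hB
      · have hb : B.card = 1 := by obtain ⟨k, hk⟩ := hodd; omega
        obtain ⟨θ, hi, -, hf⟩ := hθ A hAc (by omega)
        have := hmoved hπ1 (A.image θ) (fun x hx => by
          obtain ⟨p, hp, rfl⟩ := Finset.mem_image.1 hx
          exact hf hA p hp)
        rw [Finset.card_image_of_injOn hi] at this
        omega
      · obtain ⟨SA, SB, hSA, hSB, hdis, -, -, fA, fB⟩ := hboth (by omega) (by omega)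
        have := hmoved hπ1 (SA ∪ SB) (fun x hx => (Finset.mem_union.1 hx).elim (fA hA x) (fB hB x))
        rw [Finset.card_union_of_disjoint hdis] at this
        omega
  · rw [hAy, par_sum]
    obtain ⟨k, hk⟩ := hodd
    rw [hk, Nat.cast_add, Nat.cast_mul, show ((2 : ℕ) : ZMod 2) = 0 from rfl, zero_mul, zero_add, Nat.cast_one]

end H37.Kondo
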