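import Mathlib

/-!
Signed permutations `F₂^N ⋊ S_N` and their elementary abelian subgroups of rank `N` (S3191).
-/

set_option autoImplicit false

namespace H37.Kondo

open Equiv

/-- the coordinate space -/
abbrev Vec (N : ℕ) : Type := Fin N → ZMod 2

/-- signed permutations -/
@[ext] structure SP (N : ℕ) where
  v : Vec N
  σ : Perm (Fin N)

variable {N : ℕ}

theorem two_eq (a : ZMod 2) : a + a = 0 := CharTwo.add_self_eq_zero a

theorem zmod2_cases (a : ZMod 2) : a = 0 ∨ a = 1 := by revert a; decide

theorem add_eq_zero_iff_eq' {a b : ZMod 2} : a + b = 0 ↔ a = b := by revert a b; decide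

theorem add_eq_one_iff_ne {a b : ZMod 2} : a + b = 1 ↔ a ≠ b := by revert a b; decide

theorem vec_self (w : Vec N) : w + w = 0 := funext fun i => two_eq (w i)

theorem vec_neg (w : Vec N) : -w = w := funext fun i => CharTwo.neg_eq (w i)

namespace SP

instance : Mul (SP N) := ⟨fun a b => ⟨fun i => a.v i + b.v (a.σ.symm i), a.σ * b.σ⟩⟩
instance : One (SP N) := ⟨⟨0, 1⟩⟩
instance : Inv (SP N) := ⟨fun a => ⟨fun i => a.v (a.σ i), a.σ⁻¹⟩⟩

@[simp] theorem mul_v (a b : SP N) (i : Fin N) : (a * b).v i = a.v i + b.v (a.σ.symm i) := rfl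
@[simp] theorem mul_σ (a b : SP N) : (a * b).σ = a.σ * b.σ := rfl
@[simp] theorem one_v : (1 : SP N).v = 0 := rfl
@[simp] theorem one_σ : (1 : SP N).σ = 1 := rfl
@[simp] theorem inv_v (a : SP N) (i : Fin N) : a⁻¹.v i = a.v (a.σ i) := rfl
@[simp] theorem inv_σ (a : SP N) : a⁻¹.σ = a.σ⁻¹ := rfl

instance : Group (SP N) := Group.ofLeftAxioms
  (fun a b c => by
    apply SP.ext
    · funext i
      show a.v i + b.v (a.σ.symm i) + c.v ((a.σ * b.σ).symm i) = a.v i + (b.v (a.σ.symm i) + c.v (b.σ.symm (a.σ.symm i)))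
      rw [add_assoc]; rfl
    · exact mul_assoc _ _ _)
  (fun a => by
    apply SP.ext
    · funext i
      show (0 : ZMod 2) + a.v ((1 : Perm (Fin N)).symm i) = a.v i
      rw [zero_add]; rfl
    · exact one_mul _)
  (fun a => by
    apply SP.ext
    · funext i
      show a.v (a.σ i) + a.v ((a.σ⁻¹).symm i) = 0
      exact two_eq _
    · exact inv_mul_cancel _)

/-- the permutation part -/
def proj : SP N →* Perm (Fin N) where
  toFun a := a.σ
  map_one' := rfl
  map_mul' _ _ := rfl

@[simp] theorem proj_apply (a : SP N) : proj a = a.σ := rfl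

def equivProd : SP N ≃ Vec N × Perm (Fin N) where
  toFun a := (a.v, a.σ)
  invFun p := ⟨p.1, p.2⟩
  left_inv _ := rfl
  right_inv _ := rfl

instance : Finite (SP N) := Finite.of_equiv _ equivProd.symm

/-- a vector as a signed permutation -/
def embV (w : Vec N) : SP N := ⟨w, 1⟩

/-- a permutation as a signed permutation -/
def embP (g : Perm (Fin N)) : SP N := ⟨0, g⟩

theorem embV_add (w w' : Vec N) : embV (w + w') = embV w * embV w' := by
  apply SP.ext
  · rfl
  · exact (one_mul _).symm

theorem embV_injective : Function.Injective (embV : Vec N → SP N) := fun _ _ h => congrArg SP.v h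

theorem conj_embV (h : SP N) (w : Vec N) : h * embV w * h⁻¹ = embV (w ∘ h.σ.symm) := by
  apply SP.ext
  · funext i
    show h.v i + w (h.σ.symm i) + h.v (h.σ ((h.σ * 1 : Perm (Fin N)).symm i)) = w (h.σ.symm i)
    rw [mul_one, Equiv.apply_symm_apply, add_right_comm, two_eq, zero_add]
  · show h.σ * 1 * h.σ⁻¹ = 1
    rw [mul_one, mul_inv_cancel]

theorem conj_embP (h g : Perm (Fin N)) : embP h * embP g * (embP h)⁻¹ = (embP (h * g * h⁻¹) : SP N) := by
  apply SP.ext
  · funext i
    show (0 : ZMod 2) + 0 + 0 = 0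
    simp
  · rfl

/-- the central involution -/
def top : SP N := embV 1

theorem top_comm (a : SP N) : a * top = top * a := by
  apply SP.ext
  · funext i
    show a.v i + 1 = 1 + a.v ((1 : Perm (Fin N)).symm i)
    rw [add_comm]; rfl
  · show a.σ * 1 = 1 * a.σ
    rw [mul_one, one_mul]

end SP

open SP

/-! ### the subgroups attached to an involution -/

/-- `g` is a product of some of the transpositions of `π` -/
def InP (π g : Perm (Fin N)) : Prop := (∀ p, g p = p ∨ g p = π p) ∧ g * π = π * g

/-- membership in the elementary abelian subgroup attached to `π` -/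
def MemE (π : Perm (Fin N)) (e : SP N) : Prop := (∀ p, e.v (π p) = e.v p) ∧ InP π e.σ

variable {π : Perm (Fin N)}

theorem invol_apply (hπ : π * π = 1) (p : Fin N) : π (π p) = p := by
  rw [← Perm.mul_apply, hπ, Perm.one_apply]

theorem invol_lt (hπ : π * π = 1) {p : Fin N} (h : π p ≠ p) : π p < π (π p) ↔ ¬ p < π p := by
  rw [invol_apply hπ]
  exact ⟨fun h1 h2 => lt_asymm h1 h2, fun h1 => lt_of_le_of_ne (not_lt.1 h1) h⟩

/-- which transpositions of `π` a vector switches on -/
def flip (hπ : π * π = 1) (w : Vec N) : Perm (Fin N) where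
  toFun p := if w p + w (π p) = 1 then π p else p
  invFun p := if w p + w (π p) = 1 then π p else p
  left_inv p := by
    dsimp only
    by_cases h : w p + w (π p) = 1
    · rw [if_pos h, invol_apply hπ, if_pos (by rw [add_comm]; exact h)]
    · rw [if_neg h, if_neg h]
  right_inv p := by
    dsimp only
    by_cases h : w p + w (π p) = 1
    · rw [if_pos h, invol_apply hπ, if_pos (by rw [add_comm]; exact h)]
    · rw [if_neg h, if_neg h]

theorem flip_apply (hπ : π * π = 1) (w : Vec N) (p : Fin N) :
    flip hπ w p = if w p + w (π p) = 1 then π p else p := rfl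

theorem flip_symm (hπ : π * π = 1) (w : Vec N) : (flip hπ w).symm = flip hπ w := rfl

theorem inP_flip (hπ : π * π = 1) (w : Vec N) : InP π (flip hπ w) := by
  refine ⟨fun p => ?_, ?_⟩
  · rw [flip_apply]; split
    · exact Or.inr rfl
    · exact Or.inl rfl
  · ext1 p
    rw [Perm.mul_apply, Perm.mul_apply, flip_apply, flip_apply, invol_apply hπ, add_comm]
    by_cases h : w p + w (π p) = 1
    · rw [if_pos h, if_pos h, invol_apply hπ]
    · rw [if_neg h, if_neg h]

/-- coordinates on the elementary abelian subgroup attached to `π` -/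
def phi (hπ : π * π = 1) (w : Vec N) : SP N :=
  ⟨fun p => if p < π p then w (π p) else w p, flip hπ w⟩

theorem phi_v (hπ : π * π = 1) (w : Vec N) (p : Fin N) :
    (phi hπ w).v p = if p < π p then w (π p) else w p := rfl

theorem phi_σ (hπ : π * π = 1) (w : Vec N) : (phi hπ w).σ = flip hπ w := rfl

theorem phi_v_inv (hπ : π * π = 1) (w : Vec N) (p : Fin N) :
    (phi hπ w).v (π p) = (phi hπ w).v p := by
  rw [phi_v, phi_v, invol_apply hπ]
  rcases lt_trichotomy p (π p) with h | h | h
  · rw [if_pos h, if_neg (not_lt.2 h.le)]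
  · rw [← h]
  · rw [if_pos h, if_neg (not_lt.2 h.le)]

theorem phi_mem (hπ : π * π = 1) (w : Vec N) : MemE π (phi hπ w) := ⟨phi_v_inv hπ w, inP_flip hπ w⟩

theorem flip_add (hπ : π * π = 1) (w w' : Vec N) : flip hπ (w + w') = flip hπ w * flip hπ w' := by
  ext1 p
  rw [Perm.mul_apply, flip_apply hπ w' p]
  have e : (w + w') p + (w + w') (π p) = (w p + w (π p)) + (w' p + w' (π p)) := by
    simp only [Pi.add_apply]; abel
  rcases zmod2_cases (w' p + w' (π p)) with h' | h' <;>
    rcases zmod2_cases (w p + w (π p)) with h | h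
  all_goals (rw [flip_apply, e, h, h'])
  · rw [if_neg (by decide : ¬ ((0 : ZMod 2) = 1)), flip_apply, h,
      if_neg (by decide : ¬ ((0 : ZMod 2) + 0 = 1)), if_neg (by decide : ¬ ((0 : ZMod 2) = 1))]
  · rw [if_neg (by decide : ¬ ((0 : ZMod 2) = 1)), flip_apply, h, if_pos rfl, if_pos (by decide)]
  · rw [if_pos (by decide : ((0 : ZMod 2) + 1 = 1)), if_pos rfl, flip_apply, invol_apply hπ,
      add_comm (w (π p)), h, if_neg (by decide : ¬ ((0 : ZMod 2) = 1))]
  · rw [if_neg (by decide : ¬ ((1 : ZMod 2) + 1 = 1)), if_pos rfl, flip_apply, invol_apply hπ,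
      add_comm (w (π p)), h, if_pos rfl]

theorem phi_add (hπ : π * π = 1) (w w' : Vec N) : phi hπ (w + w') = phi hπ w * phi hπ w' := by
  apply SP.ext
  · funext p
    rw [mul_v, phi_σ, flip_symm]
    have e : (phi hπ w').v (flip hπ w p) = (phi hπ w').v p := by
      rw [flip_apply]; split
      · exact phi_v_inv hπ w' p
      · rfl
    rw [e, phi_v, phi_v, phi_v]
    split <;> rfl
  · exact flip_add hπ w w'

theorem phi_injective (hπ : π * π = 1) : Function.Injective (phi hπ) := by
  intro w w' h
  funext p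
  have hv : ∀ q, (phi hπ w).v q = (phi hπ w').v q := fun q => by rw [h]
  have hf : ∀ q, flip hπ w q = flip hπ w' q := fun q => by rw [← phi_σ, ← phi_σ, h]
  by_cases hp : p < π p
  · have h1 := hv p
    rw [phi_v, phi_v, if_pos hp, if_pos hp] at h1
    have h2 := hf p
    rw [flip_apply, flip_apply, h1] at h2
    rcases zmod2_cases (w p + w' (π p)) with a | a <;> rcases zmod2_cases (w' p + w' (π p)) with b | b
    · exact add_right_cancel (a.trans b.symm)
    · rw [if_neg (by rw [a]; decide), if_pos b] at h2; exact absurd h2 hp.ne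
    · rw [if_pos a, if_neg (by rw [b]; decide)] at h2; exact absurd h2.symm hp.ne
    · exact add_right_cancel (a.trans b.symm)
  · have h1 := hv p
    rwa [phi_v, phi_v, if_neg hp, if_neg hp] at h1

theorem phi_eq_embV (hπ : π * π = 1) {w : Vec N} (hw : ∀ p, w (π p) = w p) : phi hπ w = embV w := by
  apply SP.ext
  · funext p
    rw [phi_v, hw]
    exact ite_self _
  · ext1 p
    rw [phi_σ, flip_apply, hw, two_eq, if_neg (by decide : ¬ ((0 : ZMod 2) = 1))]
    rfl

theorem phi_zero (hπ : π * π = 1) : phi hπ 0 = 1 := phi_eq_embV hπ fun _ => rfl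

theorem phi_surj (hπ : π * π = 1) {e : SP N} (he : MemE π e) : ∃ w, phi hπ w = e := by
  obtain ⟨hv, hg, hc⟩ := he
  refine ⟨fun p => if p < π p then (e.v p + if e.σ p = p then 0 else 1) else e.v p, ?_⟩
  apply SP.ext
  · funext p
    rw [phi_v]
    by_cases h : p < π p
    · rw [if_pos h, invol_apply hπ, if_neg (not_lt.2 h.le), hv]
    · rw [if_neg h, if_neg h]
  · ext1 p
    rw [phi_σ, flip_apply, invol_apply hπ]
    rcases lt_trichotomy p (π p) with h | h | h
    · rw [if_pos h, if_neg (not_lt.2 h.le), hv p]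
      by_cases h1 : e.σ p = p
      · rw [if_pos h1, add_zero, two_eq, if_neg (by decide : ¬ ((0 : ZMod 2) = 1))]
        exact h1.symm
      · rw [if_neg h1, add_right_comm, two_eq, zero_add, if_pos rfl]
        exact ((hg p).resolve_left h1).symm
    · have h' : e.σ p = p := (hg p).elim id fun h1 => h1.trans h.symm
      rw [← h, ite_self, h']
    · rw [if_neg (not_lt.2 h.le), if_pos h, hv p]
      have hq : e.σ (π p) = π (e.σ p) := by rw [← Perm.mul_apply, hc, Perm.mul_apply]
      by_cases h1 : e.σ p = p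
      · have h2 : e.σ (π p) = π p := by rw [hq, h1]
        simp only [h2, if_true, add_zero, two_eq, zero_ne_one, if_false, h1]
      · have h1' := (hg p).resolve_left h1
        have h2 : e.σ (π p) ≠ π p := by rw [hq, h1', invol_apply hπ]; exact h.ne'
        simp only [if_neg h2, ← add_assoc, two_eq, zero_add, if_true, h1']

theorem phi_sum (hπ : π * π = 1) (w : Vec N) : phi hπ w * phi hπ w = 1 := by
  rw [← phi_add, vec_self, phi_zero]

/-- an element normalising the subgroup attached to `π` permutes its coordinates -/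
theorem exists_perm_of_normalize (hπ : π * π = 1) {h : SP N}
    (hn : ∀ w, ∃ w', h * phi hπ w * h⁻¹ = phi hπ w') :
    ∃ g : Perm (Fin N), g * π = π * g ∧ ∀ w, h * phi hπ w * h⁻¹ = phi hπ (w ∘ g.symm) := by
  classical
  -- the permutation part commutes with `π`
  have hconj : h.σ * π * h.σ⁻¹ = π := by
    let w1 : Vec N := fun p => if p < π p then 1 else 0
    have hf : flip hπ w1 = π := by
      ext1 p
      rw [flip_apply]
      by_cases hp : π p = p
      · rw [hp]; exact ite_self _
      · rw [if_pos]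
        show (if p < π p then (1 : ZMod 2) else 0) + (if π p < π (π p) then 1 else 0) = 1
        by_cases h1 : p < π p
        · rw [if_pos h1, if_neg (fun h2 => (invol_lt hπ hp).1 h2 h1), add_zero]
        · rw [if_neg h1, if_pos ((invol_lt hπ hp).2 h1), zero_add]
    obtain ⟨w', hw'⟩ := hn w1
    have h1 : h.σ * π * h.σ⁻¹ = flip hπ w' := by
      have := congrArg SP.σ hw'
      rwa [mul_σ, mul_σ, phi_σ, hf, inv_σ, phi_σ] at this
    have hsub : (h.σ * π * h.σ⁻¹).support ⊆ π.support := by
      intro p hp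
      rw [Perm.mem_support, h1, flip_apply] at hp
      rw [Perm.mem_support]
      intro h2
      exact hp (by rw [h2]; exact ite_self _)
    have heq : (h.σ * π * h.σ⁻¹).support = π.support :=
      Finset.eq_of_subset_of_card_le hsub (le_of_eq (Perm.card_support_conj (σ := h.σ) (τ := π)).symm)
    ext1 p
    by_cases hp : π p = p
    · rw [hp]
      by_contra h2
      exact Perm.mem_support.1 (hsub (Perm.mem_support.2 h2)) hp
    · have h2 : (h.σ * π * h.σ⁻¹) p ≠ p := Perm.mem_support.1 (heq ▸ Perm.mem_support.2 hp)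
      rw [h1, flip_apply] at h2 ⊢
      by_cases h3 : w' p + w' (π p) = 1
      · rw [if_pos h3]
      · rw [if_neg h3] at h2; exact absurd rfl h2
  have hcomm : ∀ p, h.σ.symm (π p) = π (h.σ.symm p) := by
    intro p
    apply h.σ.injective
    rw [Equiv.apply_symm_apply]
    conv_lhs => rw [← hconj]
    rfl
  let δ : Fin N → ZMod 2 := fun i => h.v i + h.v (π i)
  have hδ : ∀ i, δ (π i) = δ i := fun i => by
    show h.v (π i) + h.v (π (π i)) = h.v i + h.v (π i)
    rw [invol_apply hπ, add_comm]
  let nr : Fin N → Fin N := fun j => if j < π j then π j else j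
  have hnr : ∀ j, nr (π j) = nr j := fun j => by
    show (if π j < π (π j) then π (π j) else π j) = if j < π j then π j else j
    rw [invol_apply hπ]
    rcases lt_trichotomy j (π j) with h' | h' | h'
    · rw [if_neg (not_lt.2 h'.le), if_pos h']
    · rw [← h']
    · rw [if_pos h', if_neg (not_lt.2 h'.le)]
  have hnr' : ∀ j, nr j = j ∨ nr j = π j := fun j => by
    show (if j < π j then π j else j) = j ∨ (if j < π j then π j else j) = π j
    split
    · exact Or.inr rfl
    · exact Or.inl rfl
  let nb : Fin N → Fin N := fun i => if δ i = 0 then nr (h.σ.symm i) else π (nr (h.σ.symm i))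
  let s : Fin N → Fin N := fun i => if i < π i then π (nb i) else nb i
  have hnb : ∀ i, nb (π i) = nb i := fun i => by
    show (if δ (π i) = 0 then nr (h.σ.symm (π i)) else π (nr (h.σ.symm (π i)))) = _
    rw [hδ, hcomm, hnr]
  have hfix : ∀ i, π i = i → π (nb i) = nb i := by
    intro i hi
    have hj : π (h.σ.symm i) = h.σ.symm i := by rw [← hcomm, hi]
    have : nr (h.σ.symm i) = h.σ.symm i := by
      rcases hnr' (h.σ.symm i) with h' | h'
      · exact h'
      · rw [h', hj]
    show π (if δ i = 0 then _ else _) = if δ i = 0 then _ else _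
    rw [this, hj, ite_self, hj]
  have hsπ : ∀ i, s (π i) = π (s i) := by
    intro i
    show (if π i < π (π i) then π (nb (π i)) else nb (π i)) = π (if i < π i then π (nb i) else nb i)
    rw [hnb, invol_apply hπ]
    rcases lt_trichotomy i (π i) with h' | h' | h'
    · rw [if_neg (not_lt.2 h'.le), if_pos h', invol_apply hπ]
    · rw [← h', if_neg (lt_irrefl _), hfix i h'.symm]
    · rw [if_pos h', if_neg (not_lt.2 h'.le)]
  have hs' : ∀ i, s i = h.σ.symm i ∨ s i = π (h.σ.symm i) := by
    intro i
    have h2 : nb i = h.σ.symm i ∨ nb i = π (h.σ.symm i) := by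
      show (if δ i = 0 then _ else _) = _ ∨ (if δ i = 0 then _ else _) = _
      split
      · exact hnr' _
      · rcases hnr' (h.σ.symm i) with h3 | h3
        · exact Or.inr (by rw [h3])
        · exact Or.inl (by rw [h3, invol_apply hπ])
    show (if i < π i then π (nb i) else nb i) = _ ∨ (if i < π i then π (nb i) else nb i) = _
    split
    · rcases h2 with h3 | h3
      · exact Or.inr (by rw [h3])
      · exact Or.inl (by rw [h3, invol_apply hπ])
    · exact h2
  have hinj : Function.Injective s := by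
    intro i i' he
    have h1 : i' = i ∨ i' = π i := by
      rcases hs' i with a | a <;> rcases hs' i' with b | b
      · exact Or.inl (h.σ.symm.injective (a.symm.trans (he.trans b))).symm
      · refine Or.inr (h.σ.symm.injective ?_)
        rw [hcomm, ← a, he, b, invol_apply hπ]
      · refine Or.inr (h.σ.symm.injective ?_)
        rw [hcomm, ← a, he, b]
      · refine Or.inl (h.σ.symm.injective (π.injective ?_))
        exact b.symm.trans (he.symm.trans a)
    rcases h1 with rfl | rfl
    · rfl
    · rw [hsπ] at he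
      rcases hs' i with a | a
      · rw [a, ← hcomm] at he
        exact h.σ.symm.injective he
      · rw [a, invol_apply hπ, ← hcomm] at he
        exact (h.σ.symm.injective he).symm
  let S : Perm (Fin N) := Equiv.ofBijective s (Finite.injective_iff_bijective.1 hinj)
  refine ⟨S.symm, ?_, fun w => ?_⟩
  · ext1 p
    apply S.injective
    rw [Perm.mul_apply, Perm.mul_apply, Equiv.apply_symm_apply]
    show π p = s (π (S.symm p))
    rw [hsπ]
    exact congrArg π (Equiv.apply_symm_apply S p).symm
  · show h * phi hπ w * h⁻¹ = phi hπ (w ∘ s)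
    obtain ⟨w', hw'⟩ := hn w
    rw [hw']
    have hflip : ∀ i, flip hπ w' i = h.σ (flip hπ w (h.σ.symm i)) := fun i => by
      rw [← phi_σ, ← hw']; rfl
    have hcyc : ∀ i, w (s i) + w (s (π i)) = w (h.σ.symm i) + w (π (h.σ.symm i)) := by
      intro i
      rw [hsπ]
      rcases hs' i with a | a
      · rw [a]
      · rw [a, invol_apply hπ, add_comm]
    apply SP.ext
    · funext i
      rw [← hw']
      show h.v i + (phi hπ w).v (h.σ.symm i) + h.v (h.σ ((h.σ * flip hπ w).symm i)) = _
      have e : h.σ ((h.σ * flip hπ w).symm i) =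
          if w (h.σ.symm i) + w (π (h.σ.symm i)) = 1 then π i else i := by
        show h.σ ((flip hπ w).symm (h.σ.symm i)) = _
        rw [flip_symm, flip_apply]
        split
        · rw [← hcomm, Equiv.apply_symm_apply]
        · rw [Equiv.apply_symm_apply]
      rw [e]
      have e2 : (phi hπ w).v (h.σ.symm i) = w (nr (h.σ.symm i)) := by
        rw [phi_v]
        show _ = w (if _ then _ else _)
        split <;> rfl
      have e3 : (phi hπ (w ∘ s)).v i = w (nb i) := by
        rw [phi_v]
        show (if i < π i then w (s (π i)) else w (s i)) = _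
        rw [hsπ]
        show (if i < π i then w (π (if i < π i then π (nb i) else nb i))
          else w (if i < π i then π (nb i) else nb i)) = _
        by_cases hi : i < π i
        · rw [if_pos hi, if_pos hi, invol_apply hπ]
        · rw [if_neg hi, if_neg hi]
      rw [e2, e3]
      show _ = w (if δ i = 0 then nr (h.σ.symm i) else π (nr (h.σ.symm i)))
      have ew : w (h.σ.symm i) + w (π (h.σ.symm i)) =
          w (nr (h.σ.symm i)) + w (π (nr (h.σ.symm i))) := by
        rcases hnr' (h.σ.symm i) with a | a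
        · rw [a]
        · rw [a, invol_apply hπ, add_comm]
      rw [ew]
      by_cases hd : δ i = 0
      · rw [if_pos hd]
        generalize w (nr (h.σ.symm i)) = A
        have hd' : h.v (π i) = h.v i := (add_eq_zero_iff_eq'.1 hd).symm
        have key : ∀ c : ZMod 2, c + A + c = A := fun c => by rw [add_right_comm, two_eq, zero_add]
        split
        · rw [hd']; exact key _
        · exact key _
      · rw [if_neg hd]
        generalize w (nr (h.σ.symm i)) = A
        have hd' : h.v i + h.v (π i) = 1 := (zmod2_cases (δ i)).resolve_left hd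
        generalize w (π (nr (h.σ.symm i))) = B
        split
        · rename_i hAB
          rw [add_right_comm, hd']
          revert hAB; revert A B; decide
        · rename_i hAB
          rw [add_right_comm, two_eq, zero_add]
          revert hAB; revert A B; decide
    · ext1 i
      show flip hπ w' i = flip hπ (w ∘ s) i
      rw [hflip, flip_apply, flip_apply, Function.comp_apply, Function.comp_apply, hcyc]
      split
      · rw [← hcomm, Equiv.apply_symm_apply]
      · rw [Equiv.apply_symm_apply]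

/-! ### elementary abelian subgroups of rank `N` -/

theorem two_mul_le_two_pow : ∀ k : ℕ, 1 ≤ k → 2 * k ≤ 2 ^ k
  | 0, h => absurd h (by norm_num)
  | 1, _ => le_rfl
  | k + 2, _ => by
    have := two_mul_le_two_pow (k + 1) (by omega)
    rw [pow_succ]
    omega

theorem two_mul_lt_two_pow {k : ℕ} (hk : 3 ≤ k) : 2 * k < 2 ^ k := by
  induction k, hk using Nat.le_induction with
  | base => norm_num
  | succ k hk ih => rw [pow_succ]; omega

theorem exists_of_elementary (E : Subgroup (SP N)) (hE : ∀ e ∈ E, e * e = 1)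
    (hcard : 2 ^ N ≤ Nat.card E) : ∃ π : Perm (Fin N), π * π = 1 ∧ ∀ e, e ∈ E ↔ MemE π e := by
  classical
  have hcomm : ∀ a ∈ E, ∀ b ∈ E, a * b = b * a := fun a ha b hb => by
    have h1 := hE _ (mul_mem ha hb)
    rw [eq_inv_of_mul_eq_one_left h1, mul_inv_rev, ← eq_inv_of_mul_eq_one_left (hE a ha),
      ← eq_inv_of_mul_eq_one_left (hE b hb)]
  let P : Subgroup (Perm (Fin N)) := E.map SP.proj
  have hPc : ∀ a ∈ P, ∀ b ∈ P, a * b = b * a := by
    rintro _ ⟨a, ha, rfl⟩ _ ⟨b, hb, rfl⟩
    rw [← map_mul, hcomm a ha b hb, map_mul]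
  let r : Setoid (Fin N) := MulAction.orbitRel P (Fin N)
  let Q := Quotient r
  letI : Fintype Q := Fintype.ofFinite Q
  have hrel : ∀ x y : Fin N, (Quotient.mk r x : Q) = Quotient.mk r y ↔ ∃ g ∈ P, g y = x := by
    intro x y
    rw [Quotient.eq]
    constructor
    · rintro ⟨⟨g, hg⟩, h⟩; exact ⟨g, hg, h⟩
    · rintro ⟨g, hg, h⟩; exact ⟨⟨g, hg⟩, h⟩
  let fib : Q → Type := fun q => {x : Fin N // (Quotient.mk r x : Q) = q}
  let f : Q → ℕ := fun q => Fintype.card (fib q)
  have hfpos : ∀ q, 1 ≤ f q := fun q => Fintype.card_pos_iff.2 ⟨⟨q.out, Quotient.out_eq q⟩⟩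
  have hsum : ∑ q, f q = N := by
    rw [← Fintype.card_sigma, Fintype.card_congr (Equiv.sigmaFiberEquiv (Quotient.mk r)), Fintype.card_fin]
  let ev : P → (∀ q, fib q) := fun g q =>
    ⟨(g : Perm (Fin N)) q.out, ((hrel _ _).2 ⟨g, g.2, rfl⟩).trans (Quotient.out_eq q)⟩
  have hev : Function.Injective ev := by
    intro g g' h
    apply Subtype.ext
    ext1 x
    obtain ⟨k, hk, hkx⟩ := (hrel x (Quotient.mk r x : Q).out).1 (Quotient.out_eq _).symm
    have h1 : (g : Perm (Fin N)) (Quotient.mk r x : Q).out = (g' : Perm (Fin N)) (Quotient.mk r x : Q).out :=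
      congrArg Subtype.val (congrFun h _)
    rw [← hkx, ← Perm.mul_apply, ← Perm.mul_apply, hPc _ g.2 _ hk, hPc _ g'.2 _ hk, Perm.mul_apply,
      Perm.mul_apply, h1]
  let K : Set (Vec N) := {v | embV v ∈ E}
  have hKinv : ∀ v ∈ K, ∀ g ∈ P, ∀ x, v (g x) = v x := by
    rintro v hv _ ⟨e, he, rfl⟩ x
    have h1 : e * embV v * e⁻¹ = embV v := by rw [hcomm e he _ hv, mul_inv_cancel_right]
    rw [conj_embV] at h1
    have := congrFun (embV_injective h1) (e.σ x)
    rw [Function.comp_apply, Equiv.symm_apply_apply] at this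
    exact this.symm
  let res : K → (Q → ZMod 2) := fun v q => v.1 q.out
  have hres : Function.Injective res := by
    intro v v' h
    apply Subtype.ext
    funext x
    obtain ⟨k, hk, hkx⟩ := (hrel x (Quotient.mk r x : Q).out).1 (Quotient.out_eq _).symm
    rw [← hkx, hKinv _ v.2 _ hk, hKinv _ v'.2 _ hk]
    exact congrFun h _
  let π₀ : E →* Perm (Fin N) := SP.proj.comp E.subtype
  have hcardE : Nat.card E = Nat.card K * Nat.card P := by
    have hr : π₀.range = P := by rw [MonoidHom.range_comp, Subgroup.range_subtype]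
    rw [← hr, ← π₀.ker.card_mul_index, Subgroup.index_ker]
    congr 1
    refine Nat.card_congr ⟨fun e => ⟨e.1.1.v, ?_⟩, fun v => ⟨⟨embV v.1, v.2⟩, rfl⟩, fun e => ?_, fun v => rfl⟩
    · have h : (e.1 : SP N).σ = 1 := e.2
      show embV (e.1 : SP N).v ∈ E
      have : embV (e.1 : SP N).v = (e.1 : SP N) := SP.ext rfl h.symm
      rw [this]; exact e.1.2
    · exact Subtype.ext (Subtype.ext (SP.ext rfl (show (1 : Perm (Fin N)) = _ from e.2.symm)))
  have hK : Nat.card K ≤ 2 ^ Fintype.card Q := by
    refine (Nat.card_le_card_of_injective res hres).trans_eq ?_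
    rw [Nat.card_eq_fintype_card, Fintype.card_fun, ZMod.card]
  have hP : Nat.card P ≤ ∏ q, f q := by
    refine (Nat.card_le_card_of_injective ev hev).trans_eq ?_
    rw [Nat.card_eq_fintype_card, Fintype.card_pi]
  have hprod : 2 ^ Fintype.card Q * ∏ q, f q = ∏ q, 2 * f q := by
    rw [Finset.prod_mul_distrib, Finset.prod_const, Finset.card_univ]
  have hle : ∏ q, 2 * f q ≤ 2 ^ N := by
    calc ∏ q, 2 * f q ≤ ∏ q, 2 ^ f q := Finset.prod_le_prod' fun q _ => two_mul_le_two_pow _ (hfpos q)
      _ = 2 ^ N := by rw [Finset.prod_pow_eq_pow_sum, hsum]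
  have hsmall : ∀ q, f q ≤ 2 := by
    intro q
    by_contra hq
    have : ∏ q, 2 * f q < ∏ q, 2 ^ f q :=
      Finset.prod_lt_prod (fun i _ => by have := hfpos i; omega) (fun i _ => two_mul_le_two_pow _ (hfpos i))
        ⟨q, Finset.mem_univ _, two_mul_lt_two_pow (by omega)⟩
    rw [Finset.prod_pow_eq_pow_sum, hsum, ← hprod] at this
    have := Nat.mul_le_mul hK hP
    rw [← hcardE] at this
    omega
  have hmax : 2 ^ Fintype.card Q * ∏ q, f q ≤ Nat.card K * Nat.card P := by
    rw [← hcardE, hprod]; exact hle.trans hcard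
  have hPpos : 0 < Nat.card P := Nat.card_pos
  have hfp : 0 < ∏ q, f q := Finset.prod_pos fun q _ => hfpos q
  have hKeq : 2 ^ Fintype.card Q ≤ Nat.card K := by
    by_contra hlt
    have := Nat.mul_lt_mul_of_lt_of_le (not_le.1 hlt) hP hfp
    omega
  have hPeq : ∏ q, f q ≤ Nat.card P := by
    by_contra hlt
    have := Nat.mul_lt_mul_of_le_of_lt hK (not_le.1 hlt) (pow_pos (by norm_num) _)
    omega
  have hevs : Function.Surjective ev := (hev.bijective_of_nat_card_le
    (by rw [Nat.card_eq_fintype_card, Fintype.card_pi]; exact hPeq)).2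
  have hress : Function.Surjective res := (hres.bijective_of_nat_card_le
    (by rw [Nat.card_eq_fintype_card, Fintype.card_fun, ZMod.card]; exact hKeq)).2
  -- the product of all the transpositions
  let oth : ∀ q, fib q := fun q =>
    if h : ∃ x : fib q, x.1 ≠ q.out then h.choose else ⟨q.out, Quotient.out_eq q⟩
  obtain ⟨⟨π, hπP⟩, hπ⟩ := hevs oth
  have hπout : ∀ q, ∀ x : fib q, x.1 = q.out ∨ x.1 = π q.out := by
    intro q x
    by_contra hx
    rw [not_or] at hx
    have e : π q.out = (oth q).1 := congrArg Subtype.val (congrFun hπ q)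
    have hex : ∃ x : fib q, x.1 ≠ q.out := ⟨x, hx.1⟩
    have hne : (oth q).1 ≠ q.out := by
      show (dite _ _ _ : fib q).1 ≠ _
      rw [dif_pos hex]; exact hex.choose_spec
    have h3 : 2 < f q := Fintype.two_lt_card_iff.2 ⟨⟨q.out, Quotient.out_eq q⟩, oth q, x,
      fun h => hne (congrArg Subtype.val h).symm, fun h => hx.1 (congrArg Subtype.val h).symm,
      fun h => hx.2 (e.trans (congrArg Subtype.val h)).symm⟩
    have := hsmall q
    omega
  have hinvol : π * π = 1 := by
    obtain ⟨e, he, hpe⟩ := hπP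
    rw [← hpe, ← map_mul, hE e he, map_one]
  have htwo : ∀ g ∈ P, ∀ x, g x = x ∨ g x = π x := by
    intro g hg x
    obtain ⟨k, hk, hkx⟩ := (hrel x (Quotient.mk r x : Q).out).1 (Quotient.out_eq _).symm
    rcases hπout _ (ev ⟨g, hg⟩ (Quotient.mk r x)) with h1 | h1
    · exact Or.inl (by rw [← hkx, ← Perm.mul_apply, hPc _ hg _ hk, Perm.mul_apply]; exact congrArg k h1)
    · refine Or.inr ?_
      rw [← hkx, ← Perm.mul_apply, hPc _ hg _ hk, Perm.mul_apply, ← Perm.mul_apply π, hPc _ hπP _ hk,
        Perm.mul_apply]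
      exact congrArg k h1
  have hKmem : ∀ v : Vec N, (∀ x, v (π x) = v x) → v ∈ K := by
    intro v hv
    obtain ⟨k, hk⟩ := hress fun q => v q.out
    have : k.1 = v := by
      funext x
      obtain ⟨c, hc, hcx⟩ := (hrel x (Quotient.mk r x : Q).out).1 (Quotient.out_eq _).symm
      have e1 : k.1 (Quotient.mk r x : Q).out = v (Quotient.mk r x : Q).out := congrFun hk _
      rw [← hcx, hKinv _ k.2 _ hc, e1]
      rcases htwo c hc (Quotient.mk r x : Q).out with h | h
      · rw [h]
      · rw [h, hv]
    exact this ▸ k.2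
  obtain ⟨e₀, he₀, hpe₀⟩ := hπP
  rw [proj_apply] at hpe₀
  have hvinv : ∀ e ∈ E, ∀ x, e.v (π x) = e.v x := by
    intro e he x
    rcases htwo e.σ ⟨e, he, rfl⟩ x with h1 | h1
    · have h2 := congrFun (congrArg SP.v (hcomm e he e₀ he₀)) x
      rw [mul_v, mul_v, (Equiv.symm_apply_eq _).2 h1.symm, hpe₀] at h2
      rw [add_comm] at h2
      have h4 := add_left_cancel h2
      rw [(Equiv.symm_apply_eq π).2 (invol_apply hinvol x).symm] at h4
      exact h4.symm
    · have h2 := congrFun (congrArg SP.v (hE e he)) (π x)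
      rw [mul_v, (Equiv.symm_apply_eq _).2 h1.symm] at h2
      exact add_eq_zero_iff_eq'.1 h2
  refine ⟨π, hinvol, fun e => ⟨fun he => ⟨hvinv e he, htwo _ ⟨e, he, rfl⟩,
    hPc _ ⟨e, he, rfl⟩ _ ⟨e₀, he₀, hpe₀⟩⟩, fun hm => ?_⟩⟩
  obtain ⟨hv, hg, hgc⟩ := hm
  obtain ⟨⟨g, hgP⟩, hgq⟩ := hevs fun q =>
    (⟨e.σ q.out, (by
      rcases hg q.out with h | h
      · rw [h]; exact Quotient.out_eq q
      · rw [h]; exact ((hrel _ _).2 ⟨π, ⟨e₀, he₀, hpe₀⟩, rfl⟩).trans (Quotient.out_eq q))⟩ : fib q)
  have hge : g = e.σ := by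
    ext1 x
    obtain ⟨c, hc, hcx⟩ := (hrel x (Quotient.mk r x : Q).out).1 (Quotient.out_eq _).symm
    have e1 : g (Quotient.mk r x : Q).out = e.σ (Quotient.mk r x : Q).out :=
      congrArg Subtype.val (congrFun hgq _)
    rw [← hcx, ← Perm.mul_apply, hPc _ hgP _ hc, Perm.mul_apply, e1]
    rcases htwo c hc (Quotient.mk r x : Q).out with h | h
    · rw [h]
      rcases htwo c hc (e.σ (Quotient.mk r x : Q).out) with h' | h'
      · exact h'
      · rcases hg (Quotient.mk r x : Q).out with h2 | h2
        · rw [h2, h]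
        · rw [h2, ← Perm.mul_apply, hPc _ hc _ ⟨e₀, he₀, hpe₀⟩, Perm.mul_apply, h]
    · rw [h, ← Perm.mul_apply e.σ, hgc, Perm.mul_apply]
      rcases hg (Quotient.mk r x : Q).out with h2 | h2
      · rw [h2, h]
      · rw [h2, ← Perm.mul_apply c, hPc _ hc _ ⟨e₀, he₀, hpe₀⟩, Perm.mul_apply, h]
  obtain ⟨f', hf', hfg⟩ := hgP
  rw [proj_apply, hge] at hfg
  have : embV (e.v + f'.v) * f' = e := SP.ext (funext fun i => by
    show e.v i + f'.v i + f'.v i = e.v i
    rw [add_assoc, two_eq, add_zero]) (by rw [mul_σ]; exact (one_mul _).trans hfg)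
  rw [← this]
  exact mul_mem (hKmem _ fun x => by rw [Pi.add_apply, Pi.add_apply, hv, hvinv f' hf']) hf'

end H37.Kondo
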