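import Cfsg.Agent.H37.Kondo.Base

/-!
Normalisation of the coordinates; the automiser of the base is `S_{2n+1}`; classes inside the base.
-/

set_option autoImplicit false

namespace H37.Kondo

open Equiv Finset

variable {n : ℕ}

theorem par_one : par (1 : Vec (2 * n)) = 0 := by
  rw [← sum_fv_univ, par_sum, Finset.card_univ, Fintype.card_fin, Nat.cast_mul]
  exact zero_mul _

theorem par_comp (w : Vec (2 * n)) (s : Perm (Fin (2 * n))) : par (w ∘ s) = par w := Equiv.sum_comp s w

/-- the outer automorphism `v ↦ v + par(v)·1` -/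
def alpha : SP (2 * n) →* SP (2 * n) where
  toFun a := ⟨a.v + fun _ => par a.v, a.σ⟩
  map_one' := SP.ext (by
    show (0 : Vec (2 * n)) + (fun _ => par (0 : Vec (2 * n))) = 0
    rw [map_zero, zero_add]; rfl) rfl
  map_mul' a b := by
    have e : par (a * b).v = par a.v + par b.v := by
      rw [show (a * b).v = a.v + b.v ∘ a.σ.symm from rfl, map_add, par_comp]
    apply SP.ext
    · funext i
      show (a * b).v i + par (a * b).v = (a.v i + par a.v) + (b.v (a.σ.symm i) + par b.v)
      rw [e, SP.mul_v]
      abel
    · rfl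

theorem alpha_alpha (a : SP (2 * n)) : alpha (alpha a) = a := by
  have e : par (a.v + fun _ => par a.v) = par a.v := by
    rw [map_add]
    rcases zmod2_cases (par a.v) with h | h <;> rw [h]
    · rw [show (fun _ : Fin (2 * n) => (0 : ZMod 2)) = 0 from rfl, map_zero, add_zero]
    · rw [show (fun _ : Fin (2 * n) => (1 : ZMod 2)) = 1 from rfl, par_one, add_zero]
  apply SP.ext
  · funext i
    show a.v i + par a.v + par (a.v + fun _ => par a.v) = a.v i
    rw [e, add_assoc, two_eq, add_zero]
  · rfl

theorem alpha_top : alpha (SP.top : SP (2 * n)) = SP.top := by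
  apply SP.ext
  · funext i
    show (1 : ZMod 2) + par (1 : Vec (2 * n)) = 1
    rw [par_one, add_zero]
  · rfl

theorem alpha_injective : Function.Injective (alpha : SP (2 * n) → SP (2 * n)) :=
  Function.LeftInverse.injective alpha_alpha

variable {G : Type*} [Group G] (D : Setup G n)

namespace Setup

/-- the same setting in twisted coordinates -/
noncomputable def twist : Setup G n where
  t := D.t
  ι := D.ι.comp alpha
  inj := D.inj.comp alpha_injective
  ι_top := by rw [MonoidHom.comp_apply, alpha_top]; exact D.ι_top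
  ρ := alpha.comp D.ρ
  ρ_ι x h := by
    show alpha (D.ρ ⟨D.ι (alpha x), h⟩) = x
    rw [D.ρ_ι, alpha_alpha]
  odd := by
    have : (alpha.comp D.ρ).ker = D.ρ.ker := by
      ext x
      rw [MonoidHom.mem_ker, MonoidHom.mem_ker, MonoidHom.comp_apply]
      exact ⟨fun h => alpha_injective (h.trans (map_one alpha).symm), fun h => by rw [h, map_one]⟩
    rw [this]; exact D.odd
  noTwo := D.noTwo
  sylow := by
    obtain ⟨S, hS⟩ := D.sylow
    refine ⟨S, fun x hx => ?_⟩
    obtain ⟨a, rfl⟩ := hS hx
    exact ⟨alpha a, by rw [MonoidHom.comp_apply, alpha_alpha]⟩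

theorem twist_b (w : Vec (2 * n)) : (twist D).b w = D.b (w + fun _ => par w) := by
  rw [b_eq, b_eq]; rfl

/-- normalised coordinates -/
def Normed : Prop := ∀ p, D.Orb (1 + fv p)

theorem exists_normed [Finite G] (hn : 2 ≤ n) : D.Normed ∨ (twist D).Normed := by
  obtain ⟨y, hy, hy1⟩ := D.exists_orb_ne hn
  obtain ⟨p, h | h⟩ := D.orb_shape hn hy hy1
  · subst h
    right
    intro q
    have h2 : D.Orb (fv q) := by
      have := hy.perm (Equiv.swap p q)
      rwa [fv_comp, Equiv.swap_apply_left] at this
    obtain ⟨g, T, h, hT⟩ := h2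
    have hinv : ∀ w : Vec (2 * n), (w + fun _ => par w) + (fun _ => par (w + fun _ => par w)) = w :=
      fun w => congrArg SP.v (alpha_alpha (SP.embV w))
    refine ⟨g, fun w => T (w + fun _ => par w) + fun _ => par (T (w + fun _ => par w)), fun w => ?_, ?_⟩
    · show g * (twist D).b w * g⁻¹ = (twist D).b _
      rw [twist_b, twist_b, hinv]
      exact h _
    · show T (1 + fun _ => par (1 : Vec (2 * n))) + _ = _
      rw [par_one, show (fun _ : Fin (2 * n) => (0 : ZMod 2)) = 0 from rfl, add_zero, hT, par_fv]
      funext x; exact add_comm (fv q x) 1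
  · subst h
    left
    intro q
    have := hy.perm (Equiv.swap p q)
    rwa [show (1 + fv p) ∘ (Equiv.swap p q).symm = 1 + fv p ∘ (Equiv.swap p q).symm from rfl, fv_comp,
      Equiv.swap_apply_left] at this

end Setup

/-- the `2n+1` orbit points -/
def tv (a : Option (Fin (2 * n))) : Vec (2 * n) := a.elim 1 fun p => 1 + fv p

@[simp] theorem tv_none : tv (none : Option (Fin (2 * n))) = 1 := rfl
@[simp] theorem tv_some (p : Fin (2 * n)) : tv (some p) = 1 + fv p := rfl

theorem tv_pair (p : Fin (2 * n)) : tv none + tv (some p) = fv p := by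
  rw [tv_none, tv_some, ← add_assoc, vec_self, zero_add]

theorem tv_injective : Function.Injective (tv : Option (Fin (2 * n)) → Vec (2 * n)) := by
  intro a c h
  match a, c with
  | none, none => rfl
  | none, some p =>
    have := congrFun h p
    rw [tv_none, tv_some, Pi.add_apply, fv_same, Pi.one_apply] at this
    exact absurd this (by decide)
  | some p, none =>
    have := congrFun h p
    rw [tv_none, tv_some, Pi.add_apply, fv_same, Pi.one_apply] at this
    exact absurd this (by decide)
  | some p, some q =>
    have := congrFun (add_left_cancel (a := (1 : Vec (2 * n))) h) p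
    rw [fv_same, fv_apply] at this
    by_cases e : p = q
    · rw [e]
    · rw [if_neg e] at this; exact absurd this (by decide)

/-- an even set of orbit points represents a vector -/
def evenSet (w : Vec (2 * n)) : Finset (Option (Fin (2 * n))) :=
  if par w = 0 then (univ.filter fun p => w p = 1).map Function.Embedding.some
  else insertNone (univ.filter fun p => w p = 1)

theorem card_cast (w : Vec (2 * n)) : ((univ.filter fun p => w p = 1).card : ZMod 2) = par w := by
  conv_rhs => rw [vec_eq_sum w, par_sum]

theorem even_evenSet (w : Vec (2 * n)) : Even (evenSet w).card := by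
  rw [evenSet]
  split
  · rename_i h
    rw [Finset.card_map, ← ZMod.natCast_eq_zero_iff_even, card_cast, h]
  · rename_i h
    rw [Finset.card_insertNone, Nat.even_add_one, ← ZMod.natCast_eq_zero_iff_even, card_cast]
    exact h

theorem sum_evenSet (w : Vec (2 * n)) : ∑ a ∈ evenSet w, tv a = w := by
  have h1 : ∑ p ∈ univ.filter (fun p => w p = 1), tv (some p) = (fun _ => par w) + w := by
    simp only [tv_some]
    rw [Finset.sum_add_distrib, Finset.sum_const, ← vec_eq_sum w]
    congr 1
    funext x
    rw [Pi.smul_apply, Pi.one_apply, nsmul_one, card_cast]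
  rw [evenSet]
  split
  · rename_i h
    rw [Finset.sum_map]
    exact h1.trans (by rw [h]; exact zero_add w)
  · rename_i h
    rw [Finset.insertNone, OrderEmbedding.coe_ofMapLEIff, Finset.sum_cons, Finset.sum_map]
    refine (congrArg (tv none + ·) h1).trans ?_
    rw [(zmod2_cases (par w)).resolve_left h, tv_none]
    funext x
    show (1 : ZMod 2) + (1 + w x) = w x
    rw [← add_assoc, two_eq, zero_add]

theorem eq_evenSet {Q : Finset (Option (Fin (2 * n)))} (hQ : Even Q.card) : evenSet (∑ a ∈ Q, tv a) = Q := by
  classical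
  set w := ∑ a ∈ Q, tv a with hw
  have h1 : ∀ p, w p = if some p ∈ Q then 1 else 0 := by
    intro p
    have e : ∀ a : Option (Fin (2 * n)), tv a p = 1 + if a = some p then 1 else 0 := by
      intro a
      match a with
      | none => simp
      | some q =>
        rw [tv_some, Pi.add_apply, Pi.one_apply, fv_apply]
        simp [eq_comm]
    rw [hw, Finset.sum_apply, Finset.sum_congr rfl (fun a _ => e a), Finset.sum_add_distrib, Finset.sum_const,
      Finset.sum_ite_eq' Q (some p), nsmul_one, ZMod.natCast_eq_zero_iff_even.2 hQ, zero_add]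
  have h2 : (univ.filter fun p => w p = 1) = eraseNone Q := by
    ext p
    rw [Finset.mem_filter, Finset.mem_eraseNone, h1]
    by_cases h : some p ∈ Q <;> simp [h]
  by_cases hnone : none ∈ Q
  · have h3 : insertNone (eraseNone Q) = Q := by
      rw [Finset.insertNone_eraseNone]; exact Finset.insert_eq_of_mem hnone
    have h4 : par w ≠ 0 := by
      rw [← card_cast, h2, ne_eq, ZMod.natCast_eq_zero_iff_even]
      intro he
      have := hQ
      rw [← h3, Finset.card_insertNone, Nat.even_add_one] at this
      exact this he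
    rw [evenSet, if_neg h4, h2, h3]
  · have h3 : (eraseNone Q).map Function.Embedding.some = Q := by
      rw [Finset.map_some_eraseNone]; exact Finset.erase_eq_of_notMem hnone
    have h4 : par w = 0 := by
      rw [← card_cast, h2, ZMod.natCast_eq_zero_iff_even]
      have := hQ
      rwa [← h3, Finset.card_map] at this
    rw [evenSet, if_pos h4, h2, h3]

namespace Setup

variable {D}

theorem orb_iff (hn : 2 ≤ n) (hN : D.Normed) {y : Vec (2 * n)} : D.Orb y ↔ ∃ a, tv a = y := by
  constructor
  · intro hy
    by_cases h1 : y = 1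
    · exact ⟨none, h1.symm⟩
    · obtain ⟨p, rfl | rfl⟩ := D.orb_shape hn hy h1
      · exact (D.not_both hn hy (hN p)).elim
      · exact ⟨some p, rfl⟩
  · rintro ⟨a, rfl⟩
    match a with
    | none => exact D.orb_one
    | some p => exact hN p

theorem exists_xi (hn : 2 ≤ n) (hN : D.Normed) {g : G} {T : Vec (2 * n) → Vec (2 * n)}
    (h : D.Maps g one_invol one_invol T) : ∃ ξ : Perm (Option (Fin (2 * n))), ∀ a, T (tv a) = tv (ξ a) := by
  have h1 : ∀ a, ∃ c, tv c = T (tv a) := fun a => (orb_iff hn hN).1 (((orb_iff hn hN).2 ⟨a, rfl⟩).map h)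
  choose c hc using h1
  have hinj : Function.Injective c := fun a a' e => tv_injective (h.injective (by rw [← hc, ← hc, e]))
  exact ⟨Equiv.ofBijective c (Finite.injective_iff_bijective.1 hinj), fun a => (hc a).symm⟩

/-- every permutation of the orbit is realised -/
theorem exists_maps_xi (hn : 2 ≤ n) (hN : D.Normed) (ξ : Perm (Option (Fin (2 * n)))) :
    ∃ g T, D.Maps g one_invol one_invol T ∧ ∀ a, T (tv a) = tv (ξ a) := by
  obtain ⟨g, T, h, h1⟩ := (orb_iff hn hN).2 ⟨ξ none, rfl⟩
  obtain ⟨ξ₀, hξ₀⟩ := exists_xi hn hN h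
  have e0 : ξ₀ none = ξ none := tv_injective ((hξ₀ none).symm.trans h1)
  let ξ₁ : Perm (Option (Fin (2 * n))) := ξ₀⁻¹ * ξ
  have hfix : ξ₁ none = none := by
    show ξ₀.symm (ξ none) = none
    rw [← e0, Equiv.symm_apply_apply]
  let σ : Perm (Fin (2 * n)) := Equiv.removeNone ξ₁
  refine ⟨g * D.ι (SP.embP σ), _, h.comp (D.maps_base (SP.embP σ)), fun a => ?_⟩
  have e : tv a ∘ σ.symm = tv (ξ₁ a) := by
    match a with
    | none => rw [hfix]; rfl
    | some p =>
      have : ξ₁ (some p) = some (σ p) := by
        refine (Equiv.removeNone_some ξ₁ ?_).symm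
        by_contra hc
        push Not at hc
        rcases hq : ξ₁ (some p) with _ | q
        · exact absurd (ξ₁.injective (hq.trans hfix.symm)) (by simp)
        · exact hc q hq
      rw [this, tv_some, tv_some, ← fv_comp]
      rfl
  show T (tv a ∘ σ.symm) = _
  rw [e, hξ₀, show ξ₀ (ξ₁ a) = ξ a from Equiv.apply_symm_apply ξ₀ _]

/-- the class invariant -/
def level (w : Vec (2 * n)) : ℕ := (evenSet w).card / 2

theorem conj_iff_level [Finite G] (hn : 2 ≤ n) (hN : D.Normed) (w w' : Vec (2 * n)) :
    IsConj (D.b w) (D.b w') ↔ level w = level w' := by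
  classical
  constructor
  · intro hc
    obtain ⟨g, hg⟩ := isConj_iff.1 hc
    obtain ⟨g', T, h, hT⟩ := D.burnside hn hg
    obtain ⟨ξ, hξ⟩ := exists_xi hn hN h
    have e : w' = ∑ a ∈ (evenSet w).map ξ.toEmbedding, tv a := by
      rw [← hT]
      conv_lhs => rw [← sum_evenSet w]
      show h.hom (∑ a ∈ evenSet w, tv a) = _
      rw [map_sum, Finset.sum_map]
      exact Finset.sum_congr rfl fun a _ => hξ a
    rw [level, level, e, eq_evenSet (by rw [Finset.card_map]; exact even_evenSet w), Finset.card_map]
  · intro hl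
    have hcard : (evenSet w).card = (evenSet w').card := by
      obtain ⟨a, ha⟩ := even_evenSet w
      obtain ⟨c, hc⟩ := even_evenSet w'
      rw [level, level] at hl
      omega
    obtain ⟨ξ, hξ⟩ : ∃ ξ : Perm (Option (Fin (2 * n))), (evenSet w).map ξ.toEmbedding = evenSet w' := by
      let e : {x // x ∈ evenSet w} ≃ {x // x ∈ evenSet w'} := Finset.equivOfCardEq hcard
      refine ⟨e.extendSubtype, Finset.eq_of_subset_of_card_le (fun x hx => ?_) (by rw [Finset.card_map, hcard])⟩
      obtain ⟨a, ha, rfl⟩ := Finset.mem_map.1 hx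
      exact Equiv.extendSubtype_mem e a ha
    obtain ⟨g, T, h, hT⟩ := exists_maps_xi hn hN ξ
    refine isConj_iff.2 ⟨g, ?_⟩
    rw [b, h w]
    congr 1
    conv_lhs => rw [← sum_evenSet w]
    show h.hom (∑ a ∈ evenSet w, tv a) = _
    rw [map_sum, ← sum_evenSet w', ← hξ, Finset.sum_map]
    exact Finset.sum_congr rfl fun a _ => hT a

end Setup

end H37.Kondo
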