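import Cfsg.Agent.H37.Kondo.Fuse

/-!
An element exchanging the transposition with its sign vector and fixing the other coordinates.
-/

set_option autoImplicit false

namespace H37.Kondo

open Equiv Finset Pair

variable {G : Type*} [Group G] {n : ℕ} {D : Setup G n} {P : Pair n} {u₀ : Vec (2 * n)}

theorem crest_eq : P.crest = 1 + P.d := by
  rw [P.one_eq, add_comm, ← add_assoc, vec_self, zero_add]

theorem crest_comp {s : Perm (Fin (2 * n))} (hs : s * P.π = P.π * s) : P.crest ∘ s.symm = P.crest := by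
  funext p
  rw [Function.comp_apply, P.crest_apply, P.crest_apply]
  have h : (s.symm p = P.a ∨ s.symm p = P.b) ↔ (p = P.a ∨ p = P.b) := by
    have key : ∀ y, (y = P.a ∨ y = P.b) ↔ P.π y ≠ y := fun y => ⟨fun h => by
      rcases h with rfl | rfl
      · rw [P.π_a]; exact P.hab.symm
      · rw [P.π_b]; exact P.hab, P.moved⟩
    rw [key, key]
    have e : P.π (s.symm p) = s.symm (P.π p) := by
      rw [eq_comm, Equiv.symm_apply_eq, ← Perm.mul_apply, hs, Perm.mul_apply, Equiv.apply_symm_apply]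
    rw [e]
    exact not_congr s.symm.injective.eq_iff
  exact if_congr h rfl rfl

/-- an orbit point with the image of `crest` -/
def HasC (D : Setup G n) (P : Pair n) (x c : Vec (2 * n)) : Prop :=
  ∃ g T, D.Maps g P.hπ P.hπ T ∧ T 1 = x ∧ T P.crest = c

theorem HasC.unique {x c c' : Vec (2 * n)} (h : HasC D P x c) (h' : HasC D P x c') : c = c' := by
  obtain ⟨g, T, hT, h1, h2⟩ := h
  obtain ⟨g', T', hT', h1', h2'⟩ := h'
  obtain ⟨S, hS, hl, hr⟩ := hT.inv
  obtain ⟨s, hs, hs'⟩ := (hS.comp hT').perm (by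
    show S (T' 1) = 1
    rw [h1', ← h1, hl])
  have e : S (T' P.crest) = P.crest := by
    show (S ∘ T') P.crest = _
    rw [hs', crest_comp hs]
  rw [← h2, ← h2', ← hr (T' P.crest), e]

theorem HasC.map {x c : Vec (2 * n)} (h : HasC D P x c) {g : G} {T : Vec (2 * n) → Vec (2 * n)}
    (hT : D.Maps g P.hπ P.hπ T) : HasC D P (T x) (T c) := by
  obtain ⟨g', T', h', h1, h2⟩ := h
  exact ⟨g * g', T ∘ T', hT.comp h', by rw [Function.comp_apply, h1], by rw [Function.comp_apply, h2]⟩

theorem sum_rest {S : Finset (Fin (2 * n))} (hS : ∀ x ∈ S, P.π x = x) (hc : S.card + 2 = 2 * n) :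
    ∑ x ∈ S, fv x = P.crest := by
  classical
  have hS' : S = univ.filter fun p => ¬ (p = P.a ∨ p = P.b) := by
    refine Finset.eq_of_subset_of_card_le (fun x hx => Finset.mem_filter.2 ⟨mem_univ x, ?_⟩) ?_
    · rintro (rfl | rfl)
      · exact P.hab ((hS _ hx).symm.trans P.π_a)
      · exact P.hab ((hS _ hx).symm.trans P.π_b).symm
    · have e : univ.filter (fun p => ¬ (p = P.a ∨ p = P.b)) = ({P.a, P.b} : Finset _)ᶜ := by ext p; simp
      rw [e, Finset.card_compl, Finset.card_pair P.hab, Fintype.card_fin]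
      omega
  funext p
  rw [sum_fv_apply, P.crest_apply, hS']
  by_cases h : p = P.a ∨ p = P.b
  · rw [if_pos h, if_neg]
    simp only [Finset.mem_filter]; exact fun h' => h'.2 h
  · rw [if_neg h, if_pos (Finset.mem_filter.2 ⟨mem_univ p, h⟩)]

/-- the two kinds of outside orbit points -/
theorem classify (hn : 2 ≤ n) (hu₀ : ¬ P.InU u₀) (hS : Swaps D P u₀) {u c : Vec (2 * n)}
    {A : Finset (Option (Fin (2 * n)))} (hu : u = u₀ ∨ u = u₀ + P.d) (hA : A ⊆ P.J) (hev : Even A.card)
    (hc : HasC D P (u + chi A) c) :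
    (c = chi A ∧ (P.J \ A).card = 1) ∨ (c = u ∧ A.card = 2) := by
  classical
  obtain ⟨g, T, hT, h1, h2⟩ := hc
  obtain ⟨K, hK, hl, hr⟩ := hT.inv
  have hx : K (u + chi A) = 1 := by rw [← h1, hl]
  have hKc : K c = P.crest := by rw [← h2, hl]
  obtain ⟨hb, hsm⟩ := shape hn hu₀ hS P.π_ne_one hK hu hA hev hx
  have hJ := P.card_J
  have hcard : A.card + (P.J \ A).card = P.J.card := by
    rw [add_comm, Finset.card_sdiff_add_card_eq_card hA]
  rcases Nat.lt_or_ge 2 A.card with hA3 | hA3
  · obtain ⟨hB1, S, hSc, hSf, hKA⟩ := hb hA3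
    rw [sum_rest hSf (by omega)] at hKA
    exact Or.inl ⟨hK.injective (hKc.trans hKA.symm), hB1⟩
  obtain ⟨hA2, v, v', hvv, hcm, he, hB⟩ := hsm hA3
  rcases pair_commute hvv hcm with ⟨f1, f2⟩ | ⟨f1, f2⟩
  · -- a fixed pair
    have hn2 : n = 2 := by
      by_contra hne
      obtain ⟨S, hSc, hSf, hvS, hvS'⟩ := hB (by omega)
      have := fixed_card (π' := P.π) (S := insert v (insert v' S)) (by
        intro x hx
        simp only [Finset.mem_insert] at hx
        rcases hx with rfl | rfl | hx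
        · exact f1
        · exact f2
        · exact hSf x hx)
      rw [Finset.card_insert_of_notMem (by simp [hvv, hvS]), Finset.card_insert_of_notMem hvS', P.card_support] at this
      omega
    subst hn2
    have hsum := sum_rest (P := P) (S := {v, v'}) (by
      intro x hx
      simp only [Finset.mem_insert, Finset.mem_singleton] at hx
      rcases hx with rfl | rfl <;> assumption) (by rw [Finset.card_pair hvv])
    rw [Finset.sum_pair hvv] at hsum
    exact Or.inl ⟨hK.injective (hKc.trans (hsum.symm.trans he.symm)), by omega⟩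
  · -- the transposition itself
    have hd : fv v + fv v' = P.d := by
      have m1 := P.moved (p := v) (by rw [f1]; exact hvv.symm)
      rcases m1 with rfl | rfl
      · rw [P.π_a] at f1; subst f1; rfl
      · rw [P.π_b] at f1; subst f1; exact add_comm _ _
    refine Or.inr ⟨hK.injective (hKc.trans ?_), hA2⟩
    have e := hx
    rw [hK.add, he, hd, P.one_eq, add_comm P.d] at e
    exact (add_right_cancel e).symm

theorem swap_bad (hu₀ : ¬ P.InU u₀) (hS : Swaps D P u₀) {u : Vec (2 * n)} (hu : u = u₀ ∨ u = u₀ + P.d)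
    {A : Finset (Option (Fin (2 * n)))} (hA : A ⊆ P.J) (hev : Even A.card) {z z' : Option (Fin (2 * n))}
    (hz : z ∈ P.J) (hz' : z' ∈ P.J) (hc : HasC D P (u + chi A) u) :
    HasC D P (u + chi (A.map (Equiv.swap z z').toEmbedding)) u := by
  obtain ⟨g, T, hT, h1, h2, h3⟩ := hS.exists_map hz hz'
  have hTu : T u = u := by
    rcases hu with rfl | rfl
    · exact h1
    · rw [hT.add, h1, h2]
  have := hc.map hT
  rwa [hT.add, hTu, h3 A hA hev] at this

/-- all pairs occur once one does -/
theorem bad_all (hu₀ : ¬ P.InU u₀) (hS : Swaps D P u₀) {u : Vec (2 * n)} (hu : u = u₀ ∨ u = u₀ + P.d)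
    {A : Finset (Option (Fin (2 * n)))} (hA : A ⊆ P.J) (hA2 : A.card = 2) (hc : HasC D P (u + chi A) u)
    {u' : Vec (2 * n)} (hu' : u' = u₀ ∨ u' = u₀ + P.d) {A' : Finset (Option (Fin (2 * n)))}
    (hA' : A' ⊆ P.J) (hA2' : A'.card = 2) : HasC D P (u' + chi A') u' := by
  classical
  have step : ∀ u, (u = u₀ ∨ u = u₀ + P.d) → HasC D P (u + chi A) u → HasC D P (u + chi A') u := by
    intro u hu hc
    obtain ⟨z, z', hzz, rfl⟩ := Finset.card_eq_two.1 hA2
    obtain ⟨w, w', hww, rfl⟩ := Finset.card_eq_two.1 hA2'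
    have hz : z ∈ P.J := hA (Finset.mem_insert_self _ _)
    have hz' : z' ∈ P.J := hA (Finset.mem_insert_of_mem (Finset.mem_singleton_self _))
    have hw : w ∈ P.J := hA' (Finset.mem_insert_self _ _)
    have hw' : w' ∈ P.J := hA' (Finset.mem_insert_of_mem (Finset.mem_singleton_self _))
    have hev : Even ({z, z'} : Finset (Option (Fin (2 * n)))).card := by rw [hA2]; exact ⟨1, rfl⟩
    have h1 := swap_bad hu₀ hS hu hA hev hz hw hc
    rw [Finset.map_insert, Finset.map_singleton] at h1
    simp only [Equiv.coe_toEmbedding, Equiv.swap_apply_left] at h1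
    set z'' := Equiv.swap z w z' with hz''
    have hwz : w ≠ z'' := fun e => hzz ((Equiv.swap z w).injective (by rw [Equiv.swap_apply_left]; exact e))
    have hz''J : z'' ∈ P.J := by
      rw [hz'', Equiv.swap_apply_def]; split_ifs <;> assumption
    have h2 := swap_bad hu₀ hS hu (A := {w, z''}) (by
      intro y hy; simp only [Finset.mem_insert, Finset.mem_singleton] at hy
      rcases hy with rfl | rfl <;> assumption) (by rw [Finset.card_pair hwz]; exact ⟨1, rfl⟩) hz''J hw' h1
    rw [Finset.map_insert, Finset.map_singleton] at h2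
    simp only [Equiv.coe_toEmbedding, Equiv.swap_apply_left] at h2
    rwa [Equiv.swap_apply_of_ne_of_ne hwz hww] at h2
  obtain ⟨g, τ, hτ, hτ1, hτ2⟩ := exists_tau (D := D) (P := P)
  have key : ∀ u, (u = u₀ ∨ u = u₀ + P.d) → HasC D P (u + chi A) u →
      HasC D P (u + P.d + chi A) (u + P.d) := by
    intro u hu hc
    have := hc.map hτ
    rwa [hτ.add, hτ2 u (out_ne hu₀ hu), hτ1 _ (P.chi_inU hA)] at this
  refine step u' hu' ?_
  rcases hu with rfl | rfl <;> rcases hu' with rfl | rfl
  · exact hc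
  · exact key _ (Or.inl rfl) hc
  · have := key _ (Or.inr rfl) hc
    rwa [add_assoc u', vec_self, add_zero] at this
  · exact hc

theorem hasC_tv [Finite G] (hn : 2 ≤ n) (hN : D.Normed) {z : Option (Fin (2 * n))} (hz : z ∈ P.J)
    (h : HasC D P (tv z) P.crest) : z = none := by
  classical
  rw [P.mem_J] at hz
  obtain ⟨g, R, hR, hR1, hR2, hR3⟩ := exists_lift (P := P) hn hN (Equiv.swap none z)
    (Equiv.swap_apply_of_ne_of_ne (by simp) hz.1.symm) (Equiv.swap_apply_of_ne_of_ne (by simp) hz.2.symm)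
  have h1 : R 1 = tv z := by
    have := hR1 none P.none_mem_J
    rwa [Equiv.swap_apply_left] at this
  have h2 := h.unique ⟨g, R, hR, h1, rfl⟩
  rw [crest_eq, hR.add, h1, hR2] at h2
  exact tv_injective ((add_right_cancel h2).symm.trans tv_none.symm)

/-- no outside orbit point is of the second kind -/
theorem no_bad [Finite G] (hn : 2 ≤ n) (hN : D.Normed) (hu₀ : ¬ P.InU u₀) (hS : Swaps D P u₀)
    {u : Vec (2 * n)} (hu : u = u₀ ∨ u = u₀ + P.d) {A : Finset (Option (Fin (2 * n)))} (hA : A ⊆ P.J)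
    (hA2 : A.card = 2) (hc : HasC D P (u + chi A) u) : False := by
  classical
  obtain ⟨g, R, hR, hR1, hR2⟩ := id hc
  obtain ⟨R', hR', hl, hr⟩ := hR.inv
  have hJ := P.card_J
  let pr : Option (Fin (2 * n)) → Finset (Option (Fin (2 * n))) := fun z => {none, z}
  let y : Option (Fin (2 * n)) → Vec (2 * n) := fun z => R' (u + chi (pr z))
  let I := P.J.erase none
  have hpr : ∀ z ∈ I, pr z ⊆ P.J ∧ (pr z).card = 2 := by
    intro z hz
    obtain ⟨h1, h2⟩ := Finset.mem_erase.1 hz
    refine ⟨fun x hx => ?_, Finset.card_pair (Ne.symm h1)⟩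
    simp only [pr, Finset.mem_insert, Finset.mem_singleton] at hx
    rcases hx with rfl | rfl
    · exact P.none_mem_J
    · exact h2
  have hy : ∀ z ∈ I, HasC D P (y z) P.crest := by
    intro z hz
    have := (bad_all hu₀ hS hu hA hA2 hc hu (hpr z hz).1 (hpr z hz).2).map hR'
    rwa [show R' u = P.crest from by rw [← hR2, hl]] at this
  have hyinj : Set.InjOn y I := by
    intro z hz z' hz' e
    have h1 := hR'.injective e
    have h2 := chi_inj (by rw [(hpr z hz).2]; exact ⟨1, rfl⟩) (by rw [(hpr z' hz').2]; exact ⟨1, rfl⟩)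
      (add_left_cancel h1)
    have h3 : z ∈ pr z' := h2 ▸ Finset.mem_insert_of_mem (Finset.mem_singleton_self z)
    simp only [pr, Finset.mem_insert, Finset.mem_singleton] at h3
    exact h3.resolve_left (Finset.mem_erase.1 hz).1
  have hI : I.card + 2 = 2 * n := by
    rw [Finset.card_erase_of_mem P.none_mem_J]; omega
  have hfib : ∀ z ∈ I, y z = 1 ∨ (3 ≤ n ∧ (y z = u₀ + P.crest ∨ y z = u₀ + P.d + P.crest)) := by
    intro z hz
    obtain ⟨g', T', hT', hT1, hT2⟩ := hy z hz
    by_cases hU : P.InU (y z)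
    · left
      have horb : D.Orb (y z) := by
        obtain ⟨g'', T'', h'', e''⟩ := D.burnside hn (g := g') (w := 1) (w' := y z) (by
          rw [← D.el_eq_b P.hπ (w := y z) (P.inU_iff.1 hU), ← hT1, ← hT']
          show g' * D.el Setup.one_invol 1 * g'⁻¹ = _
          rw [D.el_one, ← D.el_one P.hπ])
        exact ⟨g'', T'', h'', e''⟩
      obtain ⟨z₁, hz₁⟩ := (Setup.orb_iff hn hN).1 horb
      rw [← hz₁] at hU
      have := hasC_tv hn hN (P.inU_tv.1 hU) (hz₁ ▸ hy z hz)
      rw [← hz₁, this]; rfl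
    · right
      obtain ⟨u', B, hu', hB, hevB, he⟩ := exists_coords_out hu₀ hU
      rcases classify hn hu₀ hS hu' hB hevB (he ▸ hy z hz) with ⟨h1, h2⟩ | ⟨h1, -⟩
      · have hn3 : 3 ≤ n := by
          by_contra hlt
          have hn2 : n = 2 := by omega
          subst hn2
          have hB2 : B.card = 2 := by
            have := Finset.card_sdiff_add_card_eq_card hB
            omega
          have := (bad_all hu₀ hS hu hA hA2 hc hu' hB hB2).unique (he ▸ hy z hz)
          exact out_ne hu₀ hu' (this ▸ P.crest_inU)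
        rw [he, ← h1]
        exact ⟨hn3, hu'.imp (fun e => by rw [e]) (fun e => by rw [e])⟩
      · exact absurd (h1 ▸ P.crest_inU) (out_ne hu₀ hu')
  have hsub : I.image y ⊆ if 3 ≤ n then {1, u₀ + P.crest, u₀ + P.d + P.crest} else {1} := by
    intro v hv
    obtain ⟨z, hz, rfl⟩ := Finset.mem_image.1 hv
    rcases hfib z hz with h | ⟨h3, h⟩
    · split <;> simp [h]
    · rw [if_pos h3]
      rcases h with h | h <;> simp [h]
  have := Finset.card_le_card hsub
  rw [Finset.card_image_of_injOn hyinj] at this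
  split at this
  · have h3 := Finset.card_le_three (a := (1 : Vec (2 * n))) (b := u₀ + P.crest) (c := u₀ + P.d + P.crest)
    omega
  · rw [Finset.card_singleton] at this
    omega

/-- some orbit point leaves the hyperplane -/
theorem exists_out [Finite G] (hn : 2 ≤ n) (hN : D.Normed) (hu₀ : ¬ P.InU u₀) (hS : Swaps D P u₀) :
    ∃ x c, ¬ P.InU x ∧ HasC D P x c := by
  classical
  by_contra hno
  push Not at hno
  have horbit : ∀ {g : G} {T : Vec (2 * n) → Vec (2 * n)}, D.Maps g P.hπ P.hπ T → P.InU (T 1) := fun {g T} h => by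
    by_contra hh; exact hno _ _ hh ⟨g, T, h, rfl, rfl⟩
  have hpres : ∀ {g : G} {T : Vec (2 * n) → Vec (2 * n)}, D.Maps g P.hπ P.hπ T →
      ∀ w, P.InU w → P.InU (T w) := by
    intro g T h w hw
    have hz : ∀ z ∈ P.J, P.InU (T (tv z)) := by
      intro z hz
      rw [P.mem_J] at hz
      obtain ⟨g', R, hR, hR1, -, -⟩ := exists_lift (P := P) hn hN (Equiv.swap none z)
        (Equiv.swap_apply_of_ne_of_ne (by simp) hz.1.symm) (Equiv.swap_apply_of_ne_of_ne (by simp) hz.2.symm)
      have := horbit (h.comp hR)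
      rwa [Function.comp_apply, show R 1 = tv z from by
        have := hR1 none P.none_mem_J; rwa [Equiv.swap_apply_left] at this] at this
    refine Pair.inU_map h.hom ?_ hz hw
    show P.InU (T P.d)
    have e : P.d = 1 + ∑ q ∈ P.J.erase none, (tv none + tv q) := by
      simp only [← Pair.rv_add, rv_none, zero_add]
      change P.d = 1 + P.crest
      rw [P.one_eq, add_assoc, vec_self, add_zero]
    rw [e]
    show P.InU (h.hom _)
    rw [map_add, map_sum]
    refine P.inU_add (horbit h) (Finset.sum_induction _ P.InU (fun _ _ a b => P.inU_add a b) rfl fun q hq => ?_)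
    rw [map_add]
    exact P.inU_add (hz none P.none_mem_J) (hz q (Finset.mem_erase.1 hq).2)
  -- transfer for the sign of the permutation part
  obtain ⟨S, hES, hSr⟩ := D.exists_sylow (D.elSub_isPGroup P.hπ) (D.elSub_le_range _)
  have hσ : (phi P.hπ (fv P.a)).σ = P.π := by
    ext1 p
    rw [phi_σ, flip_apply]
    split
    · rfl
    · rename_i h
      by_contra hne
      rcases P.moved (Ne.symm hne) with rfl | rfl
      · exact h (by rw [P.π_a, fv_same, fv_of_ne P.hab.symm, add_zero])
      · exact h (by rw [P.π_b, fv_same, fv_of_ne P.hab.symm, zero_add])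
  obtain ⟨Q, hQS, hQi, hQχ⟩ := D.exists_index_two S hSr (Perm.sign.comp SP.proj) (a₀ := phi P.hπ (fv P.a))
    (hES ⟨fv P.a, rfl⟩) (by
      show Perm.sign (phi P.hπ (fv P.a)).σ = -1
      rw [hσ]; exact Perm.sign_swap P.hab)
  obtain ⟨w, hw, hT⟩ := H68.PF.extremal_transfer D.noTwo S hQS hQi (u := D.el P.hπ (fv P.a)) (D.el_sq _ _)
  obtain ⟨g, hg, hgS⟩ := hT (D.elSub P.hπ) (D.elSub_isPGroup _) (by
    rintro _ ⟨v, rfl⟩
    refine Subgroup.mem_centralizer_singleton_iff.2 ?_
    rw [← D.el_add, ← D.el_add, add_comm])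
  obtain ⟨π', hπ', K, hK⟩ := D.exists_maps_of_range (hπ := P.hπ) (g := g) fun v => hSr (hgS _ ⟨v, rfl⟩)
  have hKa : D.ι (phi hπ' (K (fv P.a))) ∈ Q := by
    show D.el hπ' _ ∈ Q
    rw [← hK, hg]; exact hw
  have hsign : Perm.sign (phi hπ' (K (fv P.a))).σ = 1 := hQχ _ hKa
  have hsupp : π'.support.card = 2 := by
    have h2 : π' ≠ 1 := by rintro rfl; exact not_maps_one hn hK
    have h3 := Perm.two_le_card_support_of_ne_one h2
    have h4 : ¬ 4 ≤ π'.support.card := fun h => not_big hn hN hu₀ hS h hK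
    have h5 : π'.support.card ≠ 3 := by
      intro h
      haveI : Fact (Nat.Prime 2) := ⟨Nat.prime_two⟩
      obtain ⟨k, hk⟩ := Equiv.Perm.cycleType_prime_order (σ := π')
        ((orderOf_eq_prime (by rw [sq, hπ']) h2).symm ▸ Nat.prime_two)
      have hsum := Equiv.Perm.sum_cycleType π'
      rw [hk, orderOf_eq_prime (by rw [sq, hπ']) h2, Multiset.sum_replicate, smul_eq_mul, h] at hsum
      omega
    omega
  obtain ⟨a', b', hab', rfl⟩ := Perm.card_support_eq_two.1 hsupp
  obtain ⟨s, hsa, hsb⟩ : ∃ s : Perm (Fin (2 * n)), s a' = P.a ∧ s b' = P.b := by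
    let t1 := Equiv.swap a' P.a
    refine ⟨Equiv.swap (t1 b') P.b * t1, ?_, ?_⟩
    · rw [Perm.mul_apply, Equiv.swap_apply_left]
      refine Equiv.swap_apply_of_ne_of_ne (fun e => hab' (t1.injective ?_)) P.hab
      rw [Equiv.swap_apply_left]; exact e
    · rw [Perm.mul_apply, Equiv.swap_apply_left]
  obtain ⟨T₁, hT₁⟩ := D.maps_conj hπ' s P.hπ (by
    ext1 x
    rw [Perm.mul_apply, Perm.mul_apply]
    have := Equiv.symm_trans_swap_trans a' b' s
    rw [hsa, hsb] at this
    rw [Pair.π, ← this]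
    rfl)
  have hσ' : (phi hπ' (K (fv P.a))).σ = 1 := by
    by_contra hne
    have hfl : (phi hπ' (K (fv P.a))).σ = Equiv.swap a' b' := by
      rw [phi_σ] at hne ⊢
      obtain ⟨x, hx⟩ : ∃ x, flip hπ' (K (fv P.a)) x ≠ x := by
        by_contra h; push Not at h; exact hne (Equiv.ext h)
      have hf : K (fv P.a) x + K (fv P.a) (Equiv.swap a' b' x) = 1 := by
        by_contra h; rw [flip_apply, if_neg h] at hx; exact hx rfl
      have hxa : x = a' ∨ x = b' := by
        by_contra h
        rw [not_or] at h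
        rw [Equiv.swap_apply_of_ne_of_ne h.1 h.2, two_eq] at hf
        exact zero_ne_one hf
      ext1 y
      rw [flip_apply]
      by_cases hy : y = a' ∨ y = b'
      · rw [if_pos]
        rcases hxa with rfl | rfl <;> rcases hy with rfl | rfl
        · exact hf
        · rw [Equiv.swap_apply_left] at hf; rw [Equiv.swap_apply_right, add_comm]; exact hf
        · rw [Equiv.swap_apply_right] at hf; rw [Equiv.swap_apply_left, add_comm]; exact hf
        · exact hf
      · rw [not_or] at hy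
        rw [Equiv.swap_apply_of_ne_of_ne hy.1 hy.2, ite_self]
    rw [hfl, Perm.sign_swap hab'] at hsign
    exact absurd hsign (by decide)
  have hKinv : ∀ p, K (fv P.a) (Equiv.swap a' b' p) = K (fv P.a) p := by
    intro p
    by_contra h
    have h2 := congrArg (fun e : Perm (Fin (2 * n)) => e p) hσ'
    simp only [phi_σ, flip_apply, Perm.one_apply] at h2
    rw [if_pos (add_eq_one_iff_ne.2 (Ne.symm h))] at h2
    exact h (by rw [h2])
  have hin : P.InU (T₁ (K (fv P.a))) := by
    have e := hT₁ (K (fv P.a))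
    rw [Setup.el, Setup.el, phi_eq_embV hπ' hKinv, ← map_inv, ← map_mul, ← map_mul, SP.conj_embV] at e
    have e' := congrArg SP.σ (D.inj e)
    rw [phi_σ] at e'
    show T₁ (K (fv P.a)) P.a = T₁ (K (fv P.a)) P.b
    by_contra h
    have e'' := congrArg (fun f : Perm (Fin (2 * n)) => f P.a) e'
    simp only [SP.embV, Perm.one_apply, flip_apply, P.π_a] at e''
    rw [if_pos (add_eq_one_iff_ne.2 h)] at e''
    exact P.hab e''
  have hTT := hT₁.comp hK
  obtain ⟨v, hv, hv'⟩ := Pair.surjOn hTT.injective (hpres hTT) hin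
  exact not_inU_fv_a (hTT.injective hv' ▸ hv)

/-- the exchange -/
theorem exists_psi [Finite G] (hn : 2 ≤ n) (hN : D.Normed) :
    ∃ u₀ g T, D.Maps g P.hπ P.hπ T ∧ (u₀ = fv P.a ∨ u₀ = fv P.a + P.crest) ∧
      T u₀ = P.d ∧ T P.d = u₀ ∧ ∀ p, p ≠ P.a → p ≠ P.b → T (fv p) = fv p := by
  classical
  obtain ⟨u₀, hu₀f, hu₀, hS⟩ := exists_u0 (P := P) hn hN
  obtain ⟨x, c, hxU, hc⟩ := exists_out hn hN hu₀ hS
  obtain ⟨u, A, hu, hA, hev, rfl⟩ := exists_coords_out hu₀ hxU
  obtain ⟨rfl, hB⟩ : c = chi A ∧ (P.J \ A).card = 1 := by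
    rcases classify hn hu₀ hS hu hA hev hc with h | ⟨rfl, h2⟩
    · exact h
    · exact (no_bad hn hN hu₀ hS hu hA h2 hc).elim
  obtain ⟨i, hi⟩ := Finset.card_eq_one.1 hB
  have hiJ : i ∈ P.J ∧ i ∉ A := Finset.mem_sdiff.1 (hi ▸ Finset.mem_singleton_self i)
  have hAJ : A = P.J.erase i := by
    refine Finset.eq_of_subset_of_card_le (fun y hy => Finset.mem_erase.2 ⟨fun e => hiJ.2 (e ▸ hy), hA hy⟩) ?_
    have := Finset.card_sdiff_add_card_eq_card hA
    rw [Finset.card_erase_of_mem hiJ.1]; omega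
  -- move to `u₀ + crest`
  have hx₀ : HasC D P (u₀ + P.crest) P.crest := by
    obtain ⟨g₁, T₁, hT₁, a1, a2, a3⟩ := hS.exists_map hiJ.1 P.none_mem_J
    have h1 := hc.map hT₁
    have hTu : T₁ u = u := by
      rcases hu with rfl | rfl
      · exact a1
      · rw [hT₁.add, a1, a2]
    rw [hT₁.add, hTu, a3 A hA hev] at h1
    have hmap : A.map (Equiv.swap i none).toEmbedding = P.J.erase none := by
      rw [hAJ, Finset.map_erase]
      simp only [Equiv.coe_toEmbedding, Equiv.swap_apply_left]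
      rw [map_swap_fix (iff_of_true hiJ.1 P.none_mem_J)]
    rw [hmap] at h1
    rcases hu with rfl | rfl
    · exact h1
    · obtain ⟨g, τ, hτ, hτ1, hτ2⟩ := exists_tau (D := D) (P := P)
      have := h1.map hτ
      rw [hτ.add, hτ2 _ (out_ne hu₀ (Or.inr rfl)), add_assoc u₀, vec_self, add_zero] at this
      rwa [hτ1 _ (P.chi_inU (Finset.erase_subset _ _))] at this
  obtain ⟨g, T, hT, h1, h2⟩ := hx₀
  obtain ⟨K, hK, hl, hr⟩ := hT.inv
  have hKu : K u₀ = P.d := by
    refine hT.injective ?_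
    rw [hr]
    have e : P.d = 1 + P.crest := by rw [P.one_eq, add_assoc, vec_self, add_zero]
    rw [e, hT.add, h1, h2, add_assoc, vec_self, add_zero]
  have hKc : K P.crest = P.crest := by
    rw [← h2]; exact (hl _).trans h2.symm
  -- the conjugate transvection
  obtain ⟨gτ, τ, hτ, hτ1, hτ2⟩ := exists_tau (D := D) (P := P)
  have hT' := hT.comp (hτ.comp hK)
  set T' : Vec (2 * n) → Vec (2 * n) := T ∘ (τ ∘ K) with hT'def
  have hval : ∀ w, (P.InU (K w) → T' w = w) ∧ (¬ P.InU (K w) → T' w = w + u₀) := by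
    intro w
    refine ⟨fun h => ?_, fun h => ?_⟩
    · show T (τ (K w)) = w
      rw [hτ1 _ h, hr]
    · show T (τ (K w)) = w + u₀
      rw [hτ2 _ h, hT.add, hr, ← hKu, hr]
  have hu₀T : T' u₀ = u₀ := (hval u₀).1 (by rw [hKu]; exact P.d_inU)
  have hcT : T' P.crest = P.crest := (hval _).1 (by rw [hKc]; exact P.crest_inU)
  -- it moves all the orbit points of the hyperplane
  have hmove : ∀ z ∈ P.J, T' (tv z) = tv z + u₀ := by
    intro z hz
    by_cases h : P.InU (K (tv z))
    · exfalso
      have hfix := (hval (tv z)).1 h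
      have hid : ∀ w, P.InU (K w) := by
        intro w
        have hU : ∀ v, P.InU v → P.InU (K v) := by
          intro v hv
          by_contra hh
          have h3 := stab_inU hn hN hT' hz hfix hv
          rw [(hval v).2 hh] at h3
          refine hu₀ ?_
          have := P.inU_add h3 hv
          rwa [add_comm v u₀, add_assoc, vec_self, add_zero] at this
        obtain ⟨e, B, he, hB, -, rfl⟩ := exists_coords hu₀ w
        rw [hK.add]
        refine P.inU_add ?_ (hU _ (P.chi_inU hB))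
        rcases he with rfl | rfl | rfl | rfl
        · rw [hK.zero]; rfl
        · exact hU _ P.d_inU
        · rw [hKu]; exact P.d_inU
        · rw [hK.add, hKu]; exact P.inU_add P.d_inU (hU _ P.d_inU)
      obtain ⟨v, hv⟩ := hK.bijective.2 (fv P.a)
      exact not_inU_fv_a (hv ▸ hid v)
    · exact (hval (tv z)).2 h
  have hfvT : ∀ p, p ≠ P.a → p ≠ P.b → T' (fv p) = fv p := by
    intro p ha hb
    rw [← tv_pair p, hT'.add, hmove none P.none_mem_J,
      hmove (some p) (P.mem_J.2 ⟨by simpa using ha, by simpa using hb⟩)]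
    rw [add_add_add_comm, vec_self, add_zero]
  have hdT : T' P.d = P.d + u₀ := by
    have e : P.d = tv none + P.crest := by rw [tv_none, P.one_eq, add_assoc, vec_self, add_zero]
    rw [e, hT'.add, hmove none P.none_mem_J, hcT]; abel
  refine ⟨u₀, _, _, hT'.comp (hτ.comp hT'), hu₀f, ?_, ?_, fun p ha hb => ?_⟩
  · show T' (τ (T' u₀)) = P.d
    rw [hu₀T, hτ2 _ hu₀, hT'.add, hu₀T, hdT, ← add_assoc, add_comm u₀ P.d, add_assoc, vec_self, add_zero]
  · show T' (τ (T' P.d)) = u₀
    rw [hdT, hτ.add, hτ1 _ P.d_inU, hτ2 _ hu₀, ← add_assoc, add_comm P.d u₀, add_assoc, vec_self, add_zero,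
      hu₀T]
  · show T' (τ (T' (fv p))) = fv p
    rw [hfvT p ha hb, hτ1 _ (P.fv_inU ha hb), hfvT p ha hb]

end H37.Kondo
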