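import Cfsg.Agent.H37.Kondo.Linear
import Cfsg.Agent.H68.PF.Extremal

/-!
The setting of S3191 and the fusion inside the base group.
-/

set_option autoImplicit false

namespace H37.Kondo

open Equiv Finset

/-- a 2-central involution whose centralizer is signed permutations extended by an odd kernel -/
structure Setup (G : Type*) [Group G] (n : ℕ) where
  t : G
  ι : SP (2 * n) →* G
  inj : Function.Injective ι
  ι_top : ι SP.top = t
  ρ : Subgroup.centralizer ({t} : Set G) →* SP (2 * n)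
  ρ_ι : ∀ x h, ρ ⟨ι x, h⟩ = x
  odd : Odd (Nat.card ρ.ker)
  noTwo : ∀ H : Subgroup G, H.Normal → H.index ≠ 2
  sylow : ∃ S : Sylow 2 G, (S : Subgroup G) ≤ ι.range

variable {G : Type*} [Group G] {n : ℕ} (D : Setup G n)

namespace Setup

theorem mem_cent {x : G} : x ∈ Subgroup.centralizer ({D.t} : Set G) ↔ x * D.t = D.t * x := by
  rw [Subgroup.mem_centralizer_singleton_iff]

theorem ι_comm (a : SP (2 * n)) : D.ι a * D.t = D.t * D.ι a := by
  rw [← D.ι_top, ← map_mul, ← map_mul, SP.top_comm]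

/-- `ρ` extended by `1` -/
noncomputable def rho (x : G) : SP (2 * n) := by
  classical exact if h : x * D.t = D.t * x then D.ρ ⟨x, D.mem_cent.2 h⟩ else 1

theorem rho_eq {x : G} (h : x * D.t = D.t * x) : D.rho x = D.ρ ⟨x, D.mem_cent.2 h⟩ := by
  rw [rho, dif_pos h]

theorem rho_ι (a : SP (2 * n)) : D.rho (D.ι a) = a := by rw [D.rho_eq (D.ι_comm a), D.ρ_ι]

theorem rho_conj {g x : G} (hg : g * D.t = D.t * g) (hx : x * D.t = D.t * x) :
    D.rho (g * x * g⁻¹) = D.rho g * D.rho x * (D.rho g)⁻¹ := by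
  have hg' := D.mem_cent.2 hg
  have hx' := D.mem_cent.2 hx
  have h : g * x * g⁻¹ ∈ Subgroup.centralizer ({D.t} : Set G) := mul_mem (mul_mem hg' hx') (inv_mem hg')
  rw [D.rho_eq (D.mem_cent.1 h), D.rho_eq hg, D.rho_eq hx, ← map_inv, ← map_mul, ← map_mul]
  rfl

theorem rho_mul {g x : G} (hg : g * D.t = D.t * g) (hx : x * D.t = D.t * x) :
    D.rho (g * x) = D.rho g * D.rho x := by
  have h := D.mem_cent.1 (mul_mem (D.mem_cent.2 hg) (D.mem_cent.2 hx))
  rw [D.rho_eq h, D.rho_eq hg, D.rho_eq hx, ← map_mul]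
  rfl

/-- the element with coordinates `w` in the subgroup attached to `π` -/
def el {π : Perm (Fin (2 * n))} (hπ : π * π = 1) (w : Vec (2 * n)) : G := D.ι (phi hπ w)

variable {π π' π'' : Perm (Fin (2 * n))} {hπ : π * π = 1} {hπ' : π' * π' = 1} {hπ'' : π'' * π'' = 1}

theorem el_add (hπ : π * π = 1) (w w' : Vec (2 * n)) : D.el hπ (w + w') = D.el hπ w * D.el hπ w' := by
  rw [el, phi_add, map_mul]; rfl

theorem el_zero (hπ : π * π = 1) : D.el hπ 0 = 1 := by rw [el, phi_zero, map_one]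

theorem el_injective (hπ : π * π = 1) : Function.Injective (D.el hπ) :=
  D.inj.comp (phi_injective hπ)

theorem el_sq (hπ : π * π = 1) (w : Vec (2 * n)) : D.el hπ w * D.el hπ w = 1 := by
  rw [el, ← map_mul, phi_sum, map_one]

theorem el_one (hπ : π * π = 1) : D.el hπ 1 = D.t := by
  rw [el, phi_eq_embV hπ fun _ => rfl]; exact D.ι_top

theorem el_comm (hπ : π * π = 1) (w : Vec (2 * n)) : D.el hπ w * D.t = D.t * D.el hπ w := D.ι_comm _

theorem rho_el (hπ : π * π = 1) (w : Vec (2 * n)) : D.rho (D.el hπ w) = phi hπ w := D.rho_ι _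

/-- `g` carries the subgroup of `π` to that of `π'`, acting as `T` on coordinates -/
def Maps (g : G) (hπ : π * π = 1) (hπ' : π' * π' = 1) (T : Vec (2 * n) → Vec (2 * n)) : Prop :=
  ∀ w, g * D.el hπ w * g⁻¹ = D.el hπ' (T w)

variable {D}

theorem Maps.add {g : G} {T : Vec (2 * n) → Vec (2 * n)} (h : D.Maps g hπ hπ' T) (w w' : Vec (2 * n)) :
    T (w + w') = T w + T w' := by
  apply D.el_injective hπ'
  rw [← h, D.el_add, D.el_add, ← h, ← h]
  group

theorem Maps.zero {g : G} {T : Vec (2 * n) → Vec (2 * n)} (h : D.Maps g hπ hπ' T) : T 0 = 0 := by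
  apply D.el_injective hπ'
  rw [← h, D.el_zero, D.el_zero, mul_one, mul_inv_cancel]

theorem Maps.injective {g : G} {T : Vec (2 * n) → Vec (2 * n)} (h : D.Maps g hπ hπ' T) :
    Function.Injective T := fun w w' e =>
  D.el_injective hπ (mul_left_cancel (mul_right_cancel ((h w).trans (e ▸ (h w').symm))))

theorem Maps.bijective {g : G} {T : Vec (2 * n) → Vec (2 * n)} (h : D.Maps g hπ hπ' T) :
    Function.Bijective T := Finite.injective_iff_bijective.1 h.injective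

/-- the additive map underlying `Maps` -/
def Maps.hom {g : G} {T : Vec (2 * n) → Vec (2 * n)} (h : D.Maps g hπ hπ' T) :
    Vec (2 * n) →+ Vec (2 * n) where
  toFun := T
  map_zero' := h.zero
  map_add' := h.add

theorem Maps.comp {g g' : G} {T T' : Vec (2 * n) → Vec (2 * n)} (h' : D.Maps g' hπ' hπ'' T')
    (h : D.Maps g hπ hπ' T) : D.Maps (g' * g) hπ hπ'' (T' ∘ T) := fun w => by
  rw [Function.comp_apply, ← h', ← h]; group

theorem Maps.inv {g : G} {T : Vec (2 * n) → Vec (2 * n)} (h : D.Maps g hπ hπ' T) :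
    ∃ T', D.Maps g⁻¹ hπ' hπ T' ∧ (∀ w, T' (T w) = w) ∧ ∀ w, T (T' w) = w := by
  let e := Equiv.ofBijective T h.bijective
  refine ⟨e.symm, fun w => ?_, e.symm_apply_apply, e.apply_symm_apply⟩
  have h1 := h (e.symm w)
  rw [show T (e.symm w) = w from e.apply_symm_apply w] at h1
  rw [← h1]; group

/-- an element fixing `t` acts by a permutation commuting with `π` -/
theorem Maps.perm {g : G} {T : Vec (2 * n) → Vec (2 * n)} (h : D.Maps g hπ hπ T) (h1 : T 1 = 1) :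
    ∃ s : Perm (Fin (2 * n)), s * π = π * s ∧ ∀ w, T w = w ∘ s.symm := by
  have hg : g * D.t = D.t * g := by
    have := h 1
    rw [h1, D.el_one] at this
    exact mul_inv_eq_iff_eq_mul.1 this
  have hc : ∀ w, D.rho g * phi hπ w * (D.rho g)⁻¹ = phi hπ (T w) := fun w => by
    rw [← D.rho_el hπ w, ← D.rho_conj hg (D.el_comm hπ w), h, D.rho_el]
  obtain ⟨s, hs, hs'⟩ := exists_perm_of_normalize hπ fun w => ⟨_, hc w⟩
  exact ⟨s, hs, fun w => phi_injective hπ ((hc w).symm.trans (hs' w))⟩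

variable (D)

theorem maps_of_forall (g : G) (hπ : π * π = 1) (hπ' : π' * π' = 1)
    (h : ∀ w, ∃ w', g * D.el hπ w * g⁻¹ = D.el hπ' w') : ∃ T, D.Maps g hπ hπ' T :=
  ⟨fun w => (h w).choose, fun w => (h w).choose_spec⟩

theorem maps_one (hπ : π * π = 1) : D.Maps 1 hπ hπ id := fun w => by rw [one_mul, inv_one, mul_one]; rfl

/-- a signed permutation on the base group -/
theorem maps_base (a : SP (2 * n)) :
    D.Maps (D.ι a) (one_mul 1) (one_mul 1) fun w => w ∘ a.σ.symm := fun w => by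
  rw [el, el, phi_eq_embV _ fun _ => rfl, phi_eq_embV _ fun _ => rfl, ← map_inv, ← map_mul,
    ← map_mul, SP.conj_embV]

/-- an element of `C(t)` cannot enlarge the permutation part -/
theorem Maps.support_le {g : G} {T : Vec (2 * n) → Vec (2 * n)} (h : D.Maps g hπ hπ' T)
    (hg : g * D.t = D.t * g) : π'.support.card ≤ π.support.card := by
  obtain ⟨w', hw'⟩ := phi_surj hπ' (e := SP.embP π')
    ⟨fun _ => rfl, fun p => Or.inr rfl, rfl⟩
  obtain ⟨w, rfl⟩ := h.bijective.2 w'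
  have hc : D.rho g * phi hπ w * (D.rho g)⁻¹ = SP.embP π' := by
    rw [← D.rho_el hπ w, ← D.rho_conj hg (D.el_comm hπ w), h, D.rho_el, hw']
  have h1 := congrArg SP.σ hc
  rw [SP.mul_σ, SP.mul_σ, SP.inv_σ, phi_σ] at h1
  change _ = π' at h1
  rw [← h1, Perm.card_support_conj]
  refine Finset.card_le_card fun p hp => ?_
  rw [Perm.mem_support, flip_apply] at hp
  rw [Perm.mem_support]
  intro h2
  exact hp (by rw [h2]; exact ite_self _)

/-! ### Sylow subgroups and the retraction -/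

theorem isPGroup_base : IsPGroup 2 (Subgroup.closure (Set.range (D.el (one_mul (1 : Perm (Fin (2 * n))))))) := by
  have hcl : ∀ x ∈ Subgroup.closure (Set.range (D.el (one_mul (1 : Perm (Fin (2 * n)))))),
      ∃ w, x = D.el (one_mul 1) w := by
    intro x hx
    induction hx using Subgroup.closure_induction with
    | mem x hx => obtain ⟨w, rfl⟩ := hx; exact ⟨w, rfl⟩
    | one => exact ⟨0, (D.el_zero _).symm⟩
    | mul a b _ _ ha hb =>
      obtain ⟨u, rfl⟩ := ha; obtain ⟨v, rfl⟩ := hb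
      exact ⟨u + v, (D.el_add _ u v).symm⟩
    | inv a _ ha =>
      obtain ⟨u, rfl⟩ := ha
      exact ⟨u, inv_eq_of_mul_eq_one_left (D.el_sq _ u)⟩
  intro x
  refine ⟨1, Subtype.ext ?_⟩
  obtain ⟨w, hw⟩ := hcl x x.2
  rw [SubmonoidClass.coe_pow, hw, pow_one, sq]
  exact D.el_sq _ w

/-- the image of the subgroup attached to `π` -/
def elSub (hπ : π * π = 1) : Subgroup G where
  carrier := Set.range (D.el hπ)
  one_mem' := ⟨0, D.el_zero hπ⟩
  mul_mem' := by rintro _ _ ⟨u, rfl⟩ ⟨v, rfl⟩; exact ⟨u + v, D.el_add hπ u v⟩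
  inv_mem' := by
    rintro _ ⟨u, rfl⟩
    exact ⟨u, eq_inv_of_mul_eq_one_left (D.el_sq hπ u)⟩

theorem elSub_isPGroup (hπ : π * π = 1) : IsPGroup 2 (D.elSub hπ) := by
  rintro ⟨_, w, rfl⟩
  exact ⟨1, Subtype.ext (by rw [SubmonoidClass.coe_pow, pow_one, sq]; exact D.el_sq hπ w)⟩

theorem elSub_le_range (hπ : π * π = 1) : D.elSub hπ ≤ D.ι.range := by
  rintro _ ⟨w, rfl⟩; exact ⟨_, rfl⟩

theorem exists_sylow [Finite G] {T : Subgroup G} (hT : IsPGroup 2 T) (hle : T ≤ D.ι.range) :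
    ∃ S : Sylow 2 G, T ≤ (S : Subgroup G) ∧ (S : Subgroup G) ≤ D.ι.range := by
  haveI : Fact (Nat.Prime 2) := ⟨Nat.prime_two⟩
  obtain ⟨S, hS⟩ := D.sylow
  let P : Sylow 2 D.ι.range := S.subtype hS
  obtain ⟨P', hP'⟩ := (IsPGroup.comap_subtype (K := D.ι.range) hT).exists_le_sylow
  obtain ⟨k, hk⟩ := MulAction.exists_smul_eq D.ι.range P P'
  refine ⟨(k : G) • S, fun x hx => ?_, fun x hx => ?_⟩
  · have h1 : (⟨x, hle hx⟩ : D.ι.range) ∈ (P' : Subgroup D.ι.range) := hP' hx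
    rw [← hk] at h1
    rw [Sylow.coe_subgroup_smul, Subgroup.mem_pointwise_smul_iff_inv_smul_mem, MulAut.smul_def] at h1
    rw [Sylow.coe_subgroup_smul, Subgroup.mem_pointwise_smul_iff_inv_smul_mem, MulAut.smul_def]
    exact h1
  · rw [Sylow.coe_subgroup_smul, Subgroup.mem_pointwise_smul_iff_inv_smul_mem] at hx
    simp only [MulAut.conj_inv_apply, MulAut.smul_def] at hx
    have h1 := hS hx
    have h2 : x = (k : G) * ((k : G)⁻¹ * x * k) * (k : G)⁻¹ := by group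
    rw [h2]
    exact mul_mem (mul_mem k.2 h1) (inv_mem k.2)

/-- a 2-subgroup of `C(t)` is moved onto its retract by an element of the odd kernel -/
theorem exists_retract [Finite G] {T : Subgroup G} (hT : IsPGroup 2 T)
    (hle : T ≤ Subgroup.centralizer ({D.t} : Set G)) :
    ∃ k : G, k * D.t = D.t * k ∧ D.rho k = 1 ∧ ∀ x ∈ T, k * x * k⁻¹ = D.ι (D.rho x) := by
  haveI : Fact (Nat.Prime 2) := ⟨Nat.prime_two⟩
  let C := Subgroup.centralizer ({D.t} : Set G)
  let T₁ : Subgroup C := T.subgroupOf C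
  have hT₁ : IsPGroup 2 T₁ := IsPGroup.comap_subtype (K := C) hT
  let T' : Subgroup C := ((T₁.map D.ρ).map D.ι).subgroupOf C
  have hT'le : (T₁.map D.ρ).map D.ι ≤ C := by
    rintro _ ⟨a, -, rfl⟩; exact D.mem_cent.2 (D.ι_comm a)
  let L : Subgroup C := (T₁.map D.ρ).comap D.ρ
  have hT₁L : T₁ ≤ L := Subgroup.le_comap_map D.ρ T₁
  have hT'L : T' ≤ L := by
    rintro ⟨x, hx⟩ ⟨a, ha, rfl⟩
    show D.ρ ⟨D.ι a, hx⟩ ∈ T₁.map D.ρ
    rw [D.ρ_ι]; exact ha
  obtain ⟨k2, hk2⟩ := hT₁.exists_card_eq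
  have hcardρ : Nat.card (T₁.map D.ρ) = Nat.card T₁ := by
    refine Nat.card_congr (Equiv.ofBijective (fun x : T₁ => (⟨D.ρ x, ⟨x, x.2, rfl⟩⟩ : T₁.map D.ρ))
      ⟨fun x y h => ?_, fun ⟨_, x, hx, e⟩ => ⟨⟨x, hx⟩, Subtype.ext e⟩⟩).symm
    have hxy : x.1 * y.1⁻¹ ∈ D.ρ.ker := by
      rw [MonoidHom.mem_ker, map_mul, map_inv, mul_inv_eq_one]
      exact congrArg Subtype.val h
    obtain ⟨j, hj⟩ := hT₁ (x * y⁻¹)
    have h1 : orderOf ((⟨_, hxy⟩ : D.ρ.ker) : C) ∣ 2 ^ j := by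
      apply orderOf_dvd_of_pow_eq_one
      exact congrArg Subtype.val hj
    have h2 : orderOf ((⟨_, hxy⟩ : D.ρ.ker) : C) ∣ Nat.card D.ρ.ker := by
      rw [Subgroup.orderOf_coe]; exact orderOf_dvd_natCard _
    have h3 := Nat.eq_one_of_dvd_coprimes
      (((Nat.coprime_two_left.2 D.odd)).pow_left j) h1 h2
    exact Subtype.ext (mul_inv_eq_one.1 (orderOf_eq_one_iff.1 h3))
  have hcardT' : Nat.card T' = Nat.card T₁ := by
    rw [Nat.card_congr (Subgroup.subgroupOfEquivOfLe hT'le).toEquiv,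
      Subgroup.card_map_of_injective D.inj, hcardρ]
  have hcardL : Nat.card L = Nat.card D.ρ.ker * Nat.card T₁ := by
    let f : L →* T₁.map D.ρ := (D.ρ.comp L.subtype).codRestrict _ fun x => x.2
    have hs : Function.Surjective f := by
      rintro ⟨_, x, hx, rfl⟩
      exact ⟨⟨x, hT₁L hx⟩, Subtype.ext rfl⟩
    have h := f.ker.card_mul_index
    rw [Subgroup.index_ker, MonoidHom.range_eq_top.2 hs, Subgroup.card_top, hcardρ] at h
    rw [← h]
    congr 1
    refine Nat.card_congr ⟨fun x => ⟨x.1.1, congrArg Subtype.val x.2⟩,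
      fun x => ⟨⟨x.1, by show D.ρ x.1 ∈ T₁.map D.ρ; rw [show D.ρ x.1 = 1 from x.2]; exact one_mem _⟩, Subtype.ext x.2⟩,
      fun x => rfl, fun x => rfl⟩
  have hnot : ¬ 2 ∣ Nat.card D.ρ.ker := by
    rw [← even_iff_two_dvd, Nat.not_even_iff_odd]; exact D.odd
  have hidx : ∀ X : Subgroup C, X ≤ L → Nat.card X = Nat.card T₁ → (X.subgroupOf L).index = Nat.card D.ρ.ker := by
    intro X hX hc
    have h := (X.subgroupOf L).card_mul_index
    rw [Nat.card_congr (Subgroup.subgroupOfEquivOfLe hX).toEquiv, hc, hcardL] at h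
    exact Nat.eq_of_mul_eq_mul_left Nat.card_pos (h.trans (mul_comm _ _))
  have hT'p : IsPGroup 2 T' := IsPGroup.of_card (hcardT'.trans hk2)
  let P₁ : Sylow 2 L := (IsPGroup.comap_subtype (K := L) hT₁).toSylow (by
    show ¬ 2 ∣ (T₁.subgroupOf L).index
    rw [hidx T₁ hT₁L rfl]; exact hnot)
  let P₂ : Sylow 2 L := (IsPGroup.comap_subtype (K := L) hT'p).toSylow (by
    show ¬ 2 ∣ (T'.subgroupOf L).index
    rw [hidx T' hT'L hcardT']; exact hnot)
  obtain ⟨l, hl⟩ := MulAction.exists_smul_eq L P₁ P₂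
  obtain ⟨a, ha, hla⟩ : ∃ a ∈ T₁.map D.ρ, a = D.ρ l.1 := ⟨_, l.2, rfl⟩
  let k : G := D.ι a⁻¹ * (l.1.1 : G)
  have hl' : (l.1.1 : G) * D.t = D.t * l.1.1 := D.mem_cent.1 l.1.2
  have hk : k * D.t = D.t * k := D.mem_cent.1 (mul_mem (D.mem_cent.2 (D.ι_comm _)) l.1.2)
  have hρk : D.rho k = 1 := by
    rw [D.rho_mul (D.ι_comm _) hl', D.rho_ι, D.rho_eq hl', hla, inv_mul_eq_one]
  refine ⟨k, hk, hρk, fun x hx => ?_⟩
  have hxt : x * D.t = D.t * x := D.mem_cent.1 (hle hx)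
  have h1 : (⟨⟨x, hle hx⟩, hT₁L hx⟩ : L) ∈ (P₁ : Subgroup L) := hx
  have h2 : l * ⟨⟨x, hle hx⟩, hT₁L hx⟩ * l⁻¹ ∈ (P₂ : Subgroup L) := by
    rw [← hl, Sylow.coe_subgroup_smul]
    exact Subgroup.smul_mem_pointwise_smul _ (MulAut.conj l) _ h1
  obtain ⟨b, -, hb⟩ := (h2 : (l.1.1 : G) * x * (l.1.1 : G)⁻¹ ∈ (T₁.map D.ρ).map D.ι)
  have h3 : k * x * k⁻¹ = D.ι (a⁻¹ * b * a) := by
    show D.ι a⁻¹ * l.1.1 * x * (D.ι a⁻¹ * l.1.1)⁻¹ = _
    rw [map_mul, map_mul, map_inv]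
    calc (D.ι a)⁻¹ * l.1.1 * x * ((D.ι a)⁻¹ * l.1.1)⁻¹
        = (D.ι a)⁻¹ * ((l.1.1 : G) * x * (l.1.1 : G)⁻¹) * D.ι a := by group
      _ = _ := by rw [hb]; rfl
  rw [h3]
  have := congrArg D.rho h3
  rw [D.rho_conj hk hxt, hρk, one_mul, inv_one, mul_one, D.rho_ι] at this
  rw [this]

/-- conjugation is visible on retracts -/
theorem conj_retract [Finite G] {x : G} (hx : x * D.t = D.t * x) (hxx : x * x = 1) :
    ∃ k : G, k * x * k⁻¹ = D.ι (D.rho x) := by
  haveI : Fact (Nat.Prime 2) := ⟨Nat.prime_two⟩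
  obtain ⟨k, -, -, hk⟩ := D.exists_retract (T := Subgroup.zpowers x) (by
      rintro ⟨_, z, rfl⟩
      refine ⟨1, Subtype.ext ?_⟩
      show (x ^ z) ^ (2 ^ 1) = 1
      rw [pow_one, sq, ← (Commute.refl x).mul_zpow, hxx, one_zpow])
    (by rw [Subgroup.zpowers_le]; exact D.mem_cent.2 hx)
  exact ⟨k, hk x (Subgroup.mem_zpowers x)⟩

/-! ### elementary abelian conjugates of the base -/

theorem exists_maps_of_range {hπ : π * π = 1} {g : G}
    (hr : ∀ w, g * D.el hπ w * g⁻¹ ∈ D.ι.range) :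
    ∃ (π' : Perm (Fin (2 * n))) (hπ' : π' * π' = 1) (T : Vec (2 * n) → Vec (2 * n)),
      D.Maps g hπ hπ' T := by
  choose e he using hr
  have he' : ∀ w w', e (w + w') = e w * e w' := fun w w' => D.inj (by
    rw [map_mul, he, he, he, D.el_add]; group)
  have heinj : Function.Injective e := fun w w' h =>
    D.el_injective hπ (mul_left_cancel (mul_right_cancel (((he w).symm.trans (congrArg D.ι h)).trans (he w'))))
  let E : Subgroup (SP (2 * n)) :=
    { carrier := Set.range e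
      one_mem' := ⟨0, D.inj (by rw [he, map_one, D.el_zero]; group)⟩
      mul_mem' := by rintro _ _ ⟨u, rfl⟩ ⟨v, rfl⟩; exact ⟨u + v, he' u v⟩
      inv_mem' := by
        rintro _ ⟨u, rfl⟩
        refine ⟨u, eq_inv_of_mul_eq_one_left ?_⟩
        rw [← he', vec_self]
        exact D.inj (by rw [he, map_one, D.el_zero]; group) }
  obtain ⟨π', hπ', hE⟩ := exists_of_elementary E (by
      rintro _ ⟨u, rfl⟩
      rw [← he', vec_self]
      exact D.inj (by rw [he, map_one, D.el_zero]; group))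
    (by
      show 2 ^ (2 * n) ≤ Nat.card (Set.range e)
      rw [Nat.card_range_of_injective heinj, Nat.card_eq_fintype_card, Fintype.card_fun, ZMod.card,
        Fintype.card_fin])
  refine ⟨π', hπ', D.maps_of_forall g hπ hπ' fun w => ?_⟩
  obtain ⟨w', hw'⟩ := phi_surj hπ' ((hE (e w)).1 ⟨w, rfl⟩)
  exact ⟨w', by show _ = D.ι (phi hπ' w'); rw [hw', he]⟩

end Setup

end H37.Kondo
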