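import Cfsg.Agent.H37.Kondo.SwapBasic

/-!
The automiser of the subgroup attached to one transposition fuses the transposition into the base.
-/

set_option autoImplicit false

namespace H37.Kondo

open Equiv Finset Pair

variable {G : Type*} [Group G] {n : ℕ} {D : Setup G n} {P : Pair n}

theorem Pair.exists_decomp' {w : Vec (2 * n)} (hw : P.InU w) :
    ∃ e A, (e = 0 ∨ e = P.d) ∧ A ⊆ P.J ∧ Even A.card ∧ w = e + chi A := by
  obtain ⟨A, hA, hev, h⟩ := P.exists_decomp hw
  refine ⟨_, A, ?_, hA, hev, h⟩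
  split
  · exact Or.inr rfl
  · exact Or.inl rfl

/-- additive maps respecting `d` and the orbit points respect the hyperplane -/
theorem Pair.inU_map (f : Vec (2 * n) →+ Vec (2 * n)) (hd : P.InU (f P.d))
    (hz : ∀ z ∈ P.J, P.InU (f (tv z))) {w : Vec (2 * n)} (hw : P.InU w) : P.InU (f w) := by
  obtain ⟨e₀, A, he₀, hA, hev, rfl⟩ := P.exists_decomp' hw
  rw [map_add, chi_eq_tv hev, map_sum]
  refine P.inU_add ?_ ?_
  · rcases he₀ with rfl | rfl
    · rw [map_zero]; rfl
    · exact hd
  · refine Finset.sum_induction _ P.InU (fun _ _ h h' => P.inU_add h h') rfl fun z hz' => hz z (hA hz')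

theorem Pair.surjOn {T : Vec (2 * n) → Vec (2 * n)} (hT : Function.Injective T)
    (hU : ∀ w, P.InU w → P.InU (T w)) {w : Vec (2 * n)} (hw : P.InU w) : ∃ v, P.InU v ∧ T v = w := by
  let f : {v // P.InU v} → {v // P.InU v} := fun v => ⟨T v, hU v v.2⟩
  have hf : Function.Injective f := fun v v' h => Subtype.ext (hT (congrArg Subtype.val h))
  obtain ⟨v, hv⟩ := (Finite.injective_iff_surjective.1 hf) ⟨w, hw⟩
  exact ⟨v, v.2, congrArg Subtype.val hv⟩

theorem not_maps_one (hn : 2 ≤ n) {g : G} {T : Vec (2 * n) → Vec (2 * n)}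
    (h : D.Maps g P.hπ Setup.one_invol T) : False := by
  obtain ⟨T', h', -, -⟩ := h.inv
  exact P.π_ne_one (D.wc_maps hn h')

theorem perm_fix_pair {s : Perm (Fin (2 * n))} (hs : s * P.π = P.π * s) {w : Vec (2 * n)}
    (hw : P.InU w) : P.InU (w ∘ s.symm) := by
  rw [P.inU_iff] at hw ⊢
  intro p
  have : s.symm (P.π p) = P.π (s.symm p) := by
    rw [Equiv.symm_apply_eq, ← Perm.mul_apply, hs, Perm.mul_apply, Equiv.apply_symm_apply]
  rw [Function.comp_apply, Function.comp_apply, this, hw]

/-- a permutation of the orbit fixing the pair lifts to the subgroup of the pair -/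
theorem exists_lift [Finite G] (hn : 2 ≤ n) (hN : D.Normed) (ξ : Perm (Option (Fin (2 * n))))
    (ha : ξ (some P.a) = some P.a) (hb : ξ (some P.b) = some P.b) :
    ∃ g T, D.Maps g P.hπ P.hπ T ∧ (∀ z ∈ P.J, T (tv z) = tv (ξ z)) ∧ T P.d = P.d ∧
      ∀ w, P.InU w → P.InU (T w) := by
  obtain ⟨g₀, T₀, h₀, hT₀⟩ := Setup.exists_maps_xi hn hN ξ
  have hJ : ∀ z ∈ P.J, ξ z ∈ P.J := fun z hz => by
    rw [P.mem_J] at hz ⊢
    exact ⟨fun e => hz.1 (ξ.injective (e.trans ha.symm)), fun e => hz.2 (ξ.injective (e.trans hb.symm))⟩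
  have hd : T₀ P.d = P.d := by
    have e : P.d = tv (some P.a) + tv (some P.b) := by rw [← Pair.rv_add]; rfl
    rw [e, h₀.add, hT₀, hT₀, ha, hb]
  have hU₀ : ∀ w, P.InU w → P.InU (T₀ w) := fun w hw =>
    Pair.inU_map h₀.hom (show P.InU (T₀ P.d) by rw [hd]; exact P.d_inU)
      (fun z hz => show P.InU (T₀ (tv z)) by rw [hT₀, P.inU_tv]; exact hJ z hz) hw
  have hz₀ : ξ.symm none ∈ P.J := by
    rw [P.mem_J]
    refine ⟨fun e => ?_, fun e => ?_⟩
    · have := congrArg ξ e; rw [Equiv.apply_symm_apply, ha] at this; exact Option.some_ne_none _ this.symm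
    · have := congrArg ξ e; rw [Equiv.apply_symm_apply, hb] at this; exact Option.some_ne_none _ this.symm
  have hbU : ∀ u, P.InU u → g₀ * D.el P.hπ u * g₀⁻¹ = D.b (T₀ u) := fun u hu => by
    rw [D.el_eq_b P.hπ (P.inU_iff.1 hu)]; exact h₀ u
  have ht : g₀ * D.el P.hπ (tv (ξ.symm none)) * g₀⁻¹ = D.t := by
    rw [hbU _ (P.inU_tv.2 hz₀), hT₀, Equiv.apply_symm_apply]
    exact D.el_one _
  have hle : (D.elSub P.hπ).map (MulAut.conj g₀).toMonoidHom ≤ Subgroup.centralizer ({D.t} : Set G) := by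
    rintro _ ⟨_, ⟨w, rfl⟩, rfl⟩
    refine D.mem_cent.2 ?_
    rw [← ht]
    show g₀ * D.el P.hπ w * g₀⁻¹ * _ = _ * (g₀ * D.el P.hπ w * g₀⁻¹)
    calc g₀ * D.el P.hπ w * g₀⁻¹ * (g₀ * D.el P.hπ (tv (ξ.symm none)) * g₀⁻¹)
        = g₀ * (D.el P.hπ w * D.el P.hπ (tv (ξ.symm none))) * g₀⁻¹ := by group
      _ = g₀ * (D.el P.hπ (tv (ξ.symm none)) * D.el P.hπ w) * g₀⁻¹ := by
          rw [← D.el_add, ← D.el_add, add_comm]
      _ = _ := by group
  obtain ⟨k, -, -, hk⟩ := D.exists_retract ((D.elSub_isPGroup P.hπ).map _) hle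
  have hk' : ∀ w, k * g₀ * D.el P.hπ w * (k * g₀)⁻¹ = D.ι (D.rho (g₀ * D.el P.hπ w * g₀⁻¹)) := fun w => by
    have h' := hk (g₀ * D.el P.hπ w * g₀⁻¹) ⟨_, ⟨w, rfl⟩, rfl⟩
    rw [← h']
    group
  obtain ⟨π', hπ', T, h⟩ := D.exists_maps_of_range (hπ := P.hπ) (g := k * g₀) fun w => ⟨_, (hk' w).symm⟩
  have hTU : ∀ u, P.InU u → D.el hπ' (T u) = D.b (T₀ u) := fun u hu => by
    rw [← h u, hk', hbU u hu, D.b_eq, D.rho_ι]
  have hfix : ∀ p, p ≠ P.a → p ≠ P.b → π' p = p := by
    intro p h1 h2
    obtain ⟨u, hu, hue⟩ := Pair.surjOn h₀.injective hU₀ (P.fv_inU h1 h2)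
    have e := hTU u hu
    rw [hue, D.b_eq, Setup.el] at e
    have h3 := phi_v_inv hπ' (T u) p
    rw [D.inj e] at h3
    have h4 : fv p (π' p) = fv p p := h3
    rw [fv_same] at h4
    by_contra h5
    rw [fv_of_ne h5] at h4
    exact zero_ne_one h4
  have hπ'ne : π' ≠ 1 := by
    rintro rfl
    exact not_maps_one hn h
  have hab : π' P.a = P.b ∧ π' P.b = P.a := by
    have hmove : ∀ p, π' p ≠ p → p = P.a ∨ p = P.b := fun p hp => by
      by_contra hc; rw [not_or] at hc; exact hp (hfix p hc.1 hc.2)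
    obtain ⟨p, hp⟩ : ∃ p, π' p ≠ p := by
      by_contra hc; push Not at hc; exact hπ'ne (Equiv.ext hc)
    have hp' : π' (π' p) ≠ π' p := fun e => hp (π'.injective e)
    rcases hmove p hp with e1 | e1 <;> rcases hmove _ hp' with e2 | e2
    · exact absurd (e2.trans e1.symm) hp
    · subst e1; exact ⟨e2, by rw [← e2, invol_apply hπ']⟩
    · subst e1; exact ⟨by rw [← e2, invol_apply hπ'], e2⟩
    · exact absurd (e2.trans e1.symm) hp
  have hππ : π' = P.π := by
    ext1 p
    by_cases h1 : p = P.a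
    · rw [h1, hab.1, P.π_a]
    by_cases h2 : p = P.b
    · rw [h2, hab.2, P.π_b]
    rw [hfix p h1 h2, P.π_of_ne h1 h2]
  subst hππ
  have heq : ∀ u, P.InU u → T u = T₀ u := fun u hu =>
    D.el_injective P.hπ (by rw [D.el_eq_b P.hπ (P.inU_iff.1 (hU₀ u hu))]; exact hTU u hu)
  exact ⟨k * g₀, T, h, fun z hz => by rw [heq _ (P.inU_tv.2 hz), hT₀], by rw [heq _ P.d_inU, hd],
    fun w hw => by rw [heq w hw]; exact hU₀ w hw⟩

theorem agree_on_U {g g' : G} {T T' : Vec (2 * n) → Vec (2 * n)}
    (h : D.Maps g P.hπ P.hπ T) (h' : D.Maps g' P.hπ P.hπ T') (he : ∀ w, P.InU w → T w = T' w) :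
    T' (fv P.a) + T (fv P.a) = 0 ∨ T' (fv P.a) + T (fv P.a) = T P.d := by
  obtain ⟨S, hS, hl, hr⟩ := h.inv
  have h1 : (S ∘ T') 1 = 1 := by
    show S (T' 1) = 1
    rw [← he 1 rfl, hl]
  obtain ⟨s, hs, hs'⟩ := (hS.comp h').perm h1
  have hfix : ∀ p, p ≠ P.a → p ≠ P.b → s p = p := by
    intro p h1' h2'
    have e := hs' (fv p)
    rw [fv_comp, Function.comp_apply, ← he _ (P.fv_inU h1' h2'), hl] at e
    by_contra hne
    have e' := congrFun e p
    rw [fv_same, fv_of_ne (Ne.symm hne)] at e'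
    exact one_ne_zero e'
  have e : T' (fv P.a) = T (fv (s P.a)) := by
    rw [← fv_comp, ← hs']
    exact (hr _).symm
  have hsa : s P.a = P.a ∨ s P.a = P.b := by
    by_contra hc
    rw [not_or] at hc
    exact hc.1 (s.injective (hfix _ hc.1 hc.2))
  rcases hsa with e1 | e1
  · exact Or.inl (by rw [e, e1, vec_self])
  · refine Or.inr ?_
    rw [e, e1, ← h.add, add_comm]
    rfl

/-- coordinates of the hyperplane-moving transpositions -/
def Swaps (D : Setup G n) (P : Pair n) (u₀ : Vec (2 * n)) : Prop :=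
  ∀ z ∈ P.J, ∀ z' ∈ P.J, ∃ g T, D.Maps g P.hπ P.hπ T ∧ T u₀ = u₀ ∧ T P.d = P.d ∧
    ∀ x ∈ P.J, T (tv x) = tv (Equiv.swap z z' x)

theorem flip_ab (w : Vec (2 * n)) : w ∘ Equiv.swap P.a (P.π P.a) = if w P.a = w P.b then w else w + P.d := by
  rw [P.π_a]
  funext p
  rw [Function.comp_apply]
  by_cases h1 : p = P.a
  · subst h1
    rw [Equiv.swap_apply_left]
    split
    · rename_i h; exact h.symm
    · rename_i h
      rw [Pi.add_apply, P.d_apply, if_pos (Or.inl rfl)]
      revert h; generalize w P.a = A; generalize w P.b = B; revert A B; decide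
  by_cases h2 : p = P.b
  · subst h2
    rw [Equiv.swap_apply_right]
    split
    · rename_i h; exact h
    · rename_i h
      rw [Pi.add_apply, P.d_apply, if_pos (Or.inr rfl)]
      revert h; generalize w P.a = A; generalize w P.b = B; revert A B; decide
  rw [Equiv.swap_apply_of_ne_of_ne h1 h2]
  split
  · rfl
  · rw [Pi.add_apply, P.d_apply, if_neg (by tauto), add_zero]

theorem exists_tau : ∃ g T, D.Maps g P.hπ P.hπ T ∧ (∀ w, P.InU w → T w = w) ∧
    ∀ w, ¬ P.InU w → T w = w + P.d :=
  ⟨_, _, D.maps_flip P.hπ P.a, fun w hw => by rw [flip_ab, if_pos (show w P.a = w P.b from hw)],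
    fun w hw => by rw [flip_ab, if_neg (show ¬ w P.a = w P.b from hw)]⟩

theorem not_inU_fv_a : ¬ P.InU (fv P.a) := by
  show ¬ fv P.a P.a = fv P.a P.b
  rw [fv_same, fv_of_ne P.hab.symm]
  exact one_ne_zero

theorem exists_u0 [Finite G] (hn : 2 ≤ n) (hN : D.Normed) :
    ∃ u₀, (u₀ = fv P.a ∨ u₀ = fv P.a + P.crest) ∧ ¬ P.InU u₀ ∧ Swaps D P u₀ := by
  classical
  obtain ⟨q, hq1, hq2⟩ : ∃ q : Fin (2 * n), q ≠ P.a ∧ q ≠ P.b := by
    obtain ⟨q, -, hq⟩ := Finset.exists_mem_notMem_of_card_lt_card (s := ({P.a, P.b} : Finset _)) (t := univ)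
      (by rw [Finset.card_univ, Fintype.card_fin]; have := Finset.card_le_two (a := P.a) (b := P.b); omega)
    simp only [Finset.mem_insert, Finset.mem_singleton, not_or] at hq
    exact ⟨q, hq.1, hq.2⟩
  obtain ⟨g, T, hT, hTz, hTd, hTU⟩ := exists_lift (P := P) hn hN (Equiv.swap none (some q))
    (Equiv.swap_apply_of_ne_of_ne (by simp) (by simpa using hq1.symm))
    (Equiv.swap_apply_of_ne_of_ne (by simp) (by simpa using hq2.symm))
  have hqJ : some q ∈ P.J := P.mem_J.2 ⟨by simpa using hq1, by simpa using hq2⟩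
  have hT1 : T 1 = 1 + fv q := by
    have := hTz none P.none_mem_J
    rwa [Equiv.swap_apply_left] at this
  have hTq : T (fv q) = fv q := by
    rw [← tv_pair q, hT.add, hTz none P.none_mem_J, hTz _ hqJ, Equiv.swap_apply_left, Equiv.swap_apply_right, add_comm]
  have hTp : ∀ p, p ≠ P.a → p ≠ P.b → p ≠ q → T (fv p) = fv p + fv q := by
    intro p h1 h2 h3
    rw [← tv_pair p, hT.add, hTz none P.none_mem_J, hTz _ (P.mem_J.2 ⟨by simpa using h1, by simpa using h2⟩),
      Equiv.swap_apply_left, Equiv.swap_apply_of_ne_of_ne (by simp) (by simpa using h3), ← Pair.rv_add,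
      rv_some, rv_some, add_comm, tv_pair]
  have hTc : T P.crest = P.crest + fv q := by
    have e : P.crest = 1 + P.d := by rw [P.one_eq, add_comm, ← add_assoc, vec_self, zero_add]
    rw [e, hT.add, hT1, hTd]; abel
  set u := T (fv P.a) + fv P.a with hu
  have hTfa : T (fv P.a) = fv P.a + u := by rw [hu, add_comm, add_assoc, vec_self, add_zero]
  have huU : P.InU u := by
    have h1 : ¬ P.InU (T (fv P.a)) := fun h => by
      obtain ⟨v, hv, hve⟩ := Pair.surjOn hT.injective hTU h
      exact not_inU_fv_a (hT.injective hve ▸ hv)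
    have h2 : ¬ P.InU (fv P.a) := not_inU_fv_a
    show u P.a = u P.b
    rw [hu, Pi.add_apply, Pi.add_apply]
    revert h1 h2
    unfold Pair.InU
    generalize T (fv P.a) P.a = A; generalize T (fv P.a) P.b = B
    generalize fv P.a P.a = C; generalize fv P.a P.b = E
    revert A B C E; decide
  have hconst : ∀ p p', p ≠ P.a → p ≠ P.b → p ≠ q → p' ≠ P.a → p' ≠ P.b → p' ≠ q → u p = u p' := by
    intro p p' h1 h2 h3 h1' h2' h3'
    by_cases hpp : p = p'
    · rw [hpp]
    have hs : ∀ x, P.π x ≠ x → Equiv.swap p p' x = x := fun x hx => by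
      rcases P.moved hx with rfl | rfl
      · exact Equiv.swap_apply_of_ne_of_ne h1.symm h1'.symm
      · exact Equiv.swap_apply_of_ne_of_ne h2.symm h2'.symm
    have hS := D.maps_perm P.hπ hs
    have key := agree_on_U (hT.comp hS) (hS.comp hT) fun w hw => by
      show T (w ∘ (Equiv.swap p p').symm) = T w ∘ (Equiv.swap p p').symm
      rw [Equiv.symm_swap]
      obtain ⟨e₀, A, he₀, hA, hev, rfl⟩ := P.exists_decomp' hw
      show hT.hom _ = hT.hom _ ∘ _
      rw [map_add]
      have hd1 : P.d ∘ Equiv.swap p p' = P.d := by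
        funext x
        rw [Function.comp_apply]
        rcases eq_or_ne x p with rfl | hx
        · rw [Equiv.swap_apply_left, P.d_apply, P.d_apply, if_neg (by tauto), if_neg (by tauto)]
        rcases eq_or_ne x p' with rfl | hx'
        · rw [Equiv.swap_apply_right, P.d_apply, P.d_apply, if_neg (by tauto), if_neg (by tauto)]
        · rw [Equiv.swap_apply_of_ne_of_ne hx hx']
      have hcomm : ∀ z ∈ P.J, T (tv z ∘ Equiv.swap p p') = T (tv z) ∘ Equiv.swap p p' := by
        intro z hz
        have htv : ∀ y : Option (Fin (2 * n)), tv y ∘ Equiv.swap p p' = tv (y.map (Equiv.swap p p')) := by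
          intro y
          match y with
          | none => rfl
          | some x =>
            show (1 + fv x) ∘ Equiv.swap p p' = 1 + fv (Equiv.swap p p' x)
            rw [← fv_comp, Equiv.symm_swap]; rfl
        have hinj : Function.Injective (Option.map (Equiv.swap p p')) :=
          Option.map_injective (Equiv.swap p p').injective
        have hz' : z.map (Equiv.swap p p') ∈ P.J := by
          rw [P.mem_J] at hz ⊢
          refine ⟨fun e => hz.1 (hinj (e.trans ?_)), fun e => hz.2 (hinj (e.trans ?_))⟩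
          · rw [Option.map_some, Equiv.swap_apply_of_ne_of_ne h1.symm h1'.symm]
          · rw [Option.map_some, Equiv.swap_apply_of_ne_of_ne h2.symm h2'.symm]
        rw [htv, hTz _ hz', hTz _ hz, htv]
        congr 1
        rw [← hinj.swap_apply, Option.map_none, Option.map_some, Equiv.swap_apply_of_ne_of_ne h3.symm h3'.symm]
      have hchi : hT.hom (chi A ∘ Equiv.swap p p') = hT.hom (chi A) ∘ Equiv.swap p p' := by
        rw [chi_eq_tv hev]
        have e1 : (∑ z ∈ A, tv z) ∘ Equiv.swap p p' = ∑ z ∈ A, tv z ∘ Equiv.swap p p' := by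
          funext x; simp [Finset.sum_apply]
        rw [e1, map_sum, map_sum]
        funext x
        rw [Function.comp_apply, Finset.sum_apply, Finset.sum_apply]
        exact Finset.sum_congr rfl fun z hz => congrFun (hcomm z (hA hz)) x
      rcases he₀.symm with rfl | rfl
      · rw [show (P.d + chi A) ∘ Equiv.swap p p' = P.d ∘ Equiv.swap p p' + chi A ∘ Equiv.swap p p' from rfl,
          hd1, map_add, hchi]
        show T P.d + _ = (T P.d + _) ∘ _
        rw [hTd]
        funext x
        rw [Pi.add_apply, Function.comp_apply, Function.comp_apply, Pi.add_apply]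
        exact congrArg (· + _) (congrFun hd1 x).symm
      · rw [zero_add, map_zero, zero_add, hchi]
    have e1 : (T (fv P.a) ∘ (Equiv.swap p p').symm + T (fv P.a ∘ (Equiv.swap p p').symm)) p = 0 := by
      rcases key with k | k
      · exact congrFun k p
      · refine (congrFun k p).trans ?_
        show T (P.d ∘ (Equiv.swap p p').symm) p = 0
        have : P.d ∘ (Equiv.swap p p').symm = P.d := by
          rw [Equiv.symm_swap]
          funext x
          rw [Function.comp_apply]
          rcases eq_or_ne x p with rfl | hx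
          · rw [Equiv.swap_apply_left, P.d_apply, P.d_apply, if_neg (by tauto), if_neg (by tauto)]
          rcases eq_or_ne x p' with rfl | hx'
          · rw [Equiv.swap_apply_right, P.d_apply, P.d_apply, if_neg (by tauto), if_neg (by tauto)]
          · rw [Equiv.swap_apply_of_ne_of_ne hx hx']
        rw [this, hTd, P.d_apply, if_neg (by tauto)]
    rw [fv_comp, Equiv.swap_apply_of_ne_of_ne h1.symm h1'.symm, hTfa, Pi.add_apply, Function.comp_apply,
      Equiv.symm_swap, Equiv.swap_apply_left, Pi.add_apply, Pi.add_apply, fv_of_ne h1, fv_of_ne h1',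
      zero_add, zero_add, add_eq_zero_iff_eq'] at e1
    exact e1.symm
  obtain ⟨γ, hγ⟩ : ∃ γ, ∀ p, p ≠ P.a → p ≠ P.b → p ≠ q → u p = γ := by
    by_cases h : ∃ p, p ≠ P.a ∧ p ≠ P.b ∧ p ≠ q
    · obtain ⟨p, h1, h2, h3⟩ := h
      exact ⟨u p, fun p' a1 a2 a3 => hconst p' p a1 a2 a3 h1 h2 h3⟩
    · exact ⟨0, fun p a1 a2 a3 => (h ⟨p, a1, a2, a3⟩).elim⟩
  have hform : u = (fun x => u P.a * P.d x) + ((fun x => γ * P.crest x) + fun x => (u q + γ) * fv q x) := by
    funext x
    rw [Pi.add_apply, Pi.add_apply, P.d_apply, P.crest_apply, fv_apply]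
    by_cases h : x = P.a ∨ x = P.b
    · rw [if_pos h, if_pos h, if_neg (by rintro rfl; tauto), mul_one, mul_zero, mul_zero, add_zero, add_zero]
      rcases h with rfl | rfl
      · rfl
      · exact huU.symm
    · rw [if_neg h, if_neg h, mul_zero, mul_one, zero_add]
      by_cases hx : x = q
      · subst hx; rw [if_pos rfl, mul_one, add_comm (u _) γ, ← add_assoc, two_eq, zero_add]
      · rw [not_or] at h
        rw [if_neg hx, mul_zero, add_zero, hγ x h.1 h.2 hx]
  have hsm : ∀ (c : ZMod 2) (v : Vec (2 * n)), T (fun x => c * v x) = fun x => c * T v x := by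
    intro c v
    rcases zmod2_cases c with rfl | rfl
    · simp only [zero_mul]; exact hT.zero
    · simp only [one_mul]
  have hTu : T u = u + fun x => γ * fv q x := by
    conv_lhs => rw [hform]
    rw [hT.add, hT.add, hsm, hsm, hsm, hTd, hTc, hTq]
    conv_rhs => rw [hform]
    funext x
    simp only [Pi.add_apply]
    ring
  have hγ0 : γ = 0 := by
    have key := agree_on_U (D.maps_one P.hπ) (hT.comp hT) fun w hw => by
      show w = T (T w)
      obtain ⟨e₀, A, he₀, hA, hev, rfl⟩ := P.exists_decomp' hw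
      rw [chi_eq_tv hev]
      show _ = hT.hom (hT.hom _)
      rw [map_add, map_add, map_sum, map_sum]
      congr 1
      · rcases he₀ with rfl | rfl
        · rw [map_zero, map_zero]
        · show P.d = T (T P.d)
          rw [hTd, hTd]
      · refine Finset.sum_congr rfl fun z hz => ?_
        show tv z = T (T (tv z))
        rw [hTz _ (hA hz), hTz, Equiv.swap_apply_self]
        rw [P.mem_J]
        constructor
        · intro e; have := congrArg (Equiv.swap none (some q)) e
          rw [Equiv.swap_apply_self, Equiv.swap_apply_of_ne_of_ne (by simp) (by simpa using hq1.symm)] at this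
          exact (P.mem_J.1 (hA hz)).1 this
        · intro e; have := congrArg (Equiv.swap none (some q)) e
          rw [Equiv.swap_apply_self, Equiv.swap_apply_of_ne_of_ne (by simp) (by simpa using hq2.symm)] at this
          exact (P.mem_J.1 (hA hz)).2 this
    have e : T (T (fv P.a)) + fv P.a = fun x => γ * fv q x := by
      rw [hTfa, hT.add, hTfa, hTu]
      funext x
      simp only [Pi.add_apply]
      have h1 := two_eq (fv P.a x)
      have h2 := two_eq (u x)
      linear_combination h1 + h2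
    have e2 : (fun x => γ * fv q x) q = (0 : ZMod 2) := by
      rcases key with k | k
      · rw [← e]; exact congrFun k q
      · rw [← e]; refine (congrFun k q).trans ?_
        show P.d q = 0
        rw [P.d_apply, if_neg (by tauto)]
    simpa [fv_same] using e2
  subst hγ0
  let u₀ : Vec (2 * n) := fv P.a + fun x => u q * P.crest x
  have hu₀ : u₀ = fv P.a ∨ u₀ = fv P.a + P.crest := by
    rcases zmod2_cases (u q) with e | e
    · left; funext x; simp [u₀, e]
    · right; funext x; simp [u₀, e]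
  have hu₀U : ¬ P.InU u₀ := by
    show ¬ u₀ P.a = u₀ P.b
    intro h
    simp only [u₀, Pi.add_apply, show P.crest P.a = P.crest P.b from P.crest_inU] at h
    exact not_inU_fv_a (add_right_cancel h)
  have hTu₀ : T u₀ = u₀ + fun x => u P.a * P.d x := by
    show T (fv P.a + _) = _
    rw [hT.add, hsm, hTc, hTfa]
    funext x
    have := congrFun hform x
    simp only [Pi.add_apply, zero_mul, zero_add, add_zero] at this
    simp only [u₀, Pi.add_apply]
    rw [this]
    have h1 := two_eq (u q * fv q x)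
    linear_combination h1
  -- the base transposition with `u₀` fixed
  have hbase : ∃ g T, D.Maps g P.hπ P.hπ T ∧ T u₀ = u₀ ∧ T P.d = P.d ∧
      ∀ x ∈ P.J, T (tv x) = tv (Equiv.swap none (some q) x) := by
    rcases zmod2_cases (u P.a) with e | e
    · refine ⟨g, T, hT, ?_, hTd, hTz⟩
      rw [hTu₀]; funext x; simp [e]
    · obtain ⟨g', τ, hτ, hτ1, hτ2⟩ := exists_tau (D := D) (P := P)
      refine ⟨g' * g, τ ∘ T, hτ.comp hT, ?_, ?_, fun x hx => ?_⟩
      · show τ (T u₀) = u₀
        have e' : (fun x => u P.a * P.d x) = P.d := by funext x; rw [e, one_mul]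
        rw [hTu₀, e', hτ.add, hτ2 _ hu₀U, hτ1 _ P.d_inU, add_assoc, vec_self, add_zero]
      · show τ (T P.d) = P.d
        rw [hTd, hτ1 _ P.d_inU]
      · show τ (T (tv x)) = _
        rw [← hTz x hx]
        exact hτ1 _ (hTU _ (P.inU_tv.2 hx))
  -- permutations of the other points
  have hperm : ∀ p p' : Fin (2 * n), p ≠ P.a → p ≠ P.b → p' ≠ P.a → p' ≠ P.b →
      ∃ g T, D.Maps g P.hπ P.hπ T ∧ T u₀ = u₀ ∧ T P.d = P.d ∧
      ∀ x ∈ P.J, T (tv x) = tv (Equiv.swap (some p) (some p') x) := by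
    intro p p' h1 h2 h1' h2'
    have hs : ∀ x, P.π x ≠ x → Equiv.swap p p' x = x := fun x hx => by
      rcases P.moved hx with rfl | rfl
      · exact Equiv.swap_apply_of_ne_of_ne h1.symm h1'.symm
      · exact Equiv.swap_apply_of_ne_of_ne h2.symm h2'.symm
    have hinv : ∀ v : Vec (2 * n), v p = v p' → v ∘ (Equiv.swap p p').symm = v := by
      intro v hv
      rw [Equiv.symm_swap]
      funext x
      rw [Function.comp_apply]
      rcases eq_or_ne x p with rfl | hx
      · rw [Equiv.swap_apply_left, hv]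
      rcases eq_or_ne x p' with rfl | hx'
      · rw [Equiv.swap_apply_right, hv]
      · rw [Equiv.swap_apply_of_ne_of_ne hx hx']
    refine ⟨_, _, D.maps_perm P.hπ hs, hinv _ ?_, hinv _ ?_, fun x _ => ?_⟩
    · simp only [u₀, Pi.add_apply, P.crest_apply, fv_of_ne h1, fv_of_ne h1']
      rw [if_neg (by tauto), if_neg (by tauto)]
    · rw [P.d_apply, P.d_apply, if_neg (by tauto), if_neg (by tauto)]
    · match x with
      | none =>
        rw [Equiv.swap_apply_of_ne_of_ne (by simp) (by simp)]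
        exact hinv _ rfl
      | some y =>
        rw [(Option.some_injective _).swap_apply]
        show (1 + fv y) ∘ (Equiv.swap p p').symm = 1 + fv (Equiv.swap p p' y)
        rw [← fv_comp]; rfl
  have hnone : ∀ p, p ≠ P.a → p ≠ P.b → ∃ g T, D.Maps g P.hπ P.hπ T ∧ T u₀ = u₀ ∧ T P.d = P.d ∧
      ∀ x ∈ P.J, T (tv x) = tv (Equiv.swap none (some p) x) := by
    intro p h1 h2
    by_cases hpq : p = q
    · subst hpq; exact hbase
    obtain ⟨g₁, T₁, hm₁, a1, b1, c1⟩ := hperm p q h1 h2 hq1 hq2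
    obtain ⟨g₂, T₂, hm₂, a2, b2, c2⟩ := hbase
    refine ⟨_, _, (hm₁.comp (hm₂.comp hm₁)), ?_, ?_, fun x hx => ?_⟩
    · show T₁ (T₂ (T₁ u₀)) = u₀
      rw [a1, a2, a1]
    · show T₁ (T₂ (T₁ P.d)) = P.d
      rw [b1, b2, b1]
    · show T₁ (T₂ (T₁ (tv x))) = _
      have hJ : ∀ (i j : Option (Fin (2 * n))), i ∈ P.J → j ∈ P.J → ∀ y ∈ P.J, Equiv.swap i j y ∈ P.J := by
        intro i j hi hj y hy
        rw [Equiv.swap_apply_def]
        split_ifs <;> assumption
      have hpJ : some p ∈ P.J := P.mem_J.2 ⟨by simpa using h1, by simpa using h2⟩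
      rw [c1 x hx, c2 _ (hJ _ _ hpJ hqJ x hx),
        c1 _ (hJ _ _ P.none_mem_J hqJ _ (hJ _ _ hpJ hqJ x hx))]
      congr 1
      have e := (Equiv.swap (some p) (some q)).injective.swap_apply none (some q) (Equiv.swap (some p) (some q) x)
      rw [Equiv.swap_apply_self (some p) (some q) x, Equiv.swap_apply_right (some p) (some q),
        Equiv.swap_apply_of_ne_of_ne (a := some p) (b := some q) (x := none) (by simp) (by simp)] at e
      exact e.symm
  refine ⟨u₀, hu₀, hu₀U, fun z hz z' hz' => ?_⟩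
  rw [P.mem_J] at hz hz'
  match z, z' with
  | none, none => exact ⟨1, id, D.maps_one _, rfl, rfl, fun x _ => by rw [Equiv.swap_self]; rfl⟩
  | none, some p => exact hnone p (by simpa using hz'.1) (by simpa using hz'.2)
  | some p, none =>
    obtain ⟨g₁, T₁, h1, h2, h3, h4⟩ := hnone p (by simpa using hz.1) (by simpa using hz.2)
    exact ⟨g₁, T₁, h1, h2, h3, fun x hx => by rw [h4 x hx, Equiv.swap_comm]⟩
  | some p, some p' =>
    exact hperm p p' (by simpa using hz.1) (by simpa using hz.2) (by simpa using hz'.1) (by simpa using hz'.2)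

end H37.Kondo
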