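import Cfsg.Agent.H37.Kondo.Norm

/-!
The subgroup attached to one transposition: lifts of the base automorphisms.
-/

set_option autoImplicit false

namespace H37.Kondo

open Equiv Finset

variable {G : Type*} [Group G] {n : ℕ} (D : Setup G n)

theorem phi_flip {N : ℕ} {π : Perm (Fin N)} (hπ : π * π = 1) (u : Fin N) (w : Vec N) :
    SP.embV (fv u) * phi hπ w * (SP.embV (fv u))⁻¹ = phi hπ (w ∘ Equiv.swap u (π u)) := by
  have hw : ∀ p, (w ∘ Equiv.swap u (π u)) p + (w ∘ Equiv.swap u (π u)) (π p) = w p + w (π p) := by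
    intro p
    simp only [Function.comp_apply]
    by_cases h1 : p = u
    · subst h1; rw [Equiv.swap_apply_left, Equiv.swap_apply_right, add_comm]
    by_cases h2 : p = π u
    · subst h2; rw [invol_apply hπ, Equiv.swap_apply_left, Equiv.swap_apply_right, add_comm]
    have h3 : π p ≠ u := fun e => h2 (by rw [← e, invol_apply hπ])
    rw [Equiv.swap_apply_of_ne_of_ne h1 h2, Equiv.swap_apply_of_ne_of_ne h3 fun e => h1 (π.injective e)]
  apply SP.ext
  · funext i
    show fv u i + (phi hπ w).v i + fv u ((1 * flip hπ w : Perm (Fin N)).symm i) = _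
    rw [one_mul, flip_symm, phi_v, phi_v, flip_apply]
    simp only [Function.comp_apply]
    by_cases hi : i = u ∨ i = π u
    · rcases hi with rfl | rfl
      · rw [Equiv.swap_apply_left, Equiv.swap_apply_right, fv_same]
        by_cases hfix : π i = i
        · rw [hfix, two_eq, if_neg (by decide : ¬ ((0 : ZMod 2) = 1)), fv_same, add_right_comm, two_eq, zero_add]
        · rw [apply_ite (fv i), fv_same, fv_of_ne hfix]
          generalize w i = A
          generalize w (π i) = B
          split_ifs <;> revert A B <;> decide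
      · rw [invol_apply hπ, Equiv.swap_apply_left, Equiv.swap_apply_right]
        by_cases hfix : π u = u
        · rw [hfix, two_eq, if_neg (by decide : ¬ ((0 : ZMod 2) = 1)), fv_same, add_right_comm, two_eq, zero_add]
        · rw [apply_ite (fv u), fv_same, fv_of_ne hfix]
          generalize w u = A
          generalize w (π u) = B
          split_ifs <;> revert A B <;> decide
    · rw [not_or] at hi
      have h3 : π i ≠ u := fun e => hi.2 (by rw [← e, invol_apply hπ])
      rw [Equiv.swap_apply_of_ne_of_ne hi.1 hi.2,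
        Equiv.swap_apply_of_ne_of_ne h3 (fun e => hi.1 (π.injective e)), fv_of_ne hi.1, zero_add]
      have : fv u (if w i + w (π i) = 1 then π i else i) = 0 := by
        split
        · exact fv_of_ne h3
        · exact fv_of_ne hi.1
      rw [this, add_zero]
  · show (1 : Perm (Fin N)) * flip hπ w * (1 : Perm (Fin N))⁻¹ = flip hπ (w ∘ Equiv.swap u (π u))
    rw [one_mul, inv_one, mul_one]
    ext1 p
    rw [flip_apply, flip_apply, hw]

theorem phi_perm {N : ℕ} {π : Perm (Fin N)} (hπ : π * π = 1) {s : Perm (Fin N)}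
    (hs : ∀ p, π p ≠ p → s p = p) (w : Vec N) :
    SP.embP s * phi hπ w * (SP.embP s)⁻¹ = phi hπ (w ∘ s.symm) := by
  have hs' : ∀ p, π p ≠ p → s.symm p = p := fun p hp => by
    rw [Equiv.symm_apply_eq]; exact (hs p hp).symm
  have hc : ∀ p, π (s.symm p) = s.symm (π p) := by
    intro p
    by_cases hp : π p = p
    · have hq : π (s.symm p) = s.symm p := by
        by_contra hne
        have h2 := hs _ hne
        rw [Equiv.apply_symm_apply] at h2
        rw [← h2] at hne
        exact hne hp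
      rw [hp, hq]
    · rw [hs' p hp, hs' (π p) (fun e => hp (π.injective e))]
  apply SP.ext
  · funext i
    show (0 : ZMod 2) + (phi hπ w).v (s.symm i) + 0 = _
    rw [zero_add, add_zero, phi_v, phi_v]
    simp only [Function.comp_apply]
    rw [hc]
    by_cases hi : π i = i
    · rw [hi, if_neg (lt_irrefl _), if_neg (lt_irrefl _)]
    · rw [hs' i hi, hs' (π i) (fun e => hi (π.injective e))]
  · ext1 i
    show s (flip hπ w (s⁻¹ i)) = flip hπ (w ∘ s.symm) i
    rw [flip_apply, flip_apply]
    simp only [Function.comp_apply]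
    rw [show s⁻¹ i = s.symm i from rfl, hc]
    split
    · rw [Equiv.apply_symm_apply]
    · rw [Equiv.apply_symm_apply]

namespace Setup

variable {π : Perm (Fin (2 * n))}

theorem maps_flip (hπ : π * π = 1) (u : Fin (2 * n)) :
    D.Maps (D.ι (SP.embV (fv u))) hπ hπ fun w => w ∘ Equiv.swap u (π u) := fun w => by
  rw [el, el, ← map_inv, ← map_mul, ← map_mul, phi_flip]

theorem maps_perm (hπ : π * π = 1) {s : Perm (Fin (2 * n))} (hs : ∀ p, π p ≠ p → s p = p) :
    D.Maps (D.ι (SP.embP s)) hπ hπ fun w => w ∘ s.symm := fun w => by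
  rw [el, el, ← map_inv, ← map_mul, ← map_mul, phi_perm hπ hs]

theorem maps_conj (hπ : π * π = 1) (s : Perm (Fin (2 * n))) {π' : Perm (Fin (2 * n))} (hπ' : π' * π' = 1)
    (he : π' = s * π * s⁻¹) : ∃ T, D.Maps (D.ι (SP.embP s)) hπ hπ' T := by
  refine D.maps_of_forall _ hπ hπ' fun w => ?_
  have hm := phi_mem hπ w
  obtain ⟨w', hw'⟩ := phi_surj hπ' (e := SP.embP s * phi hπ w * (SP.embP s)⁻¹) ⟨fun p => by
      show (0 : ZMod 2) + (phi hπ w).v (s.symm (π' p)) + 0 = 0 + (phi hπ w).v (s.symm p) + 0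
      rw [he, show s.symm ((s * π * s⁻¹ : Perm (Fin (2 * n))) p) = π (s.symm p) from
        Equiv.symm_apply_apply s _, hm.1], fun p => by
      show s ((phi hπ w).σ (s.symm p)) = p ∨ s ((phi hπ w).σ (s.symm p)) = π' p
      rw [he]
      rcases hm.2.1 (s.symm p) with h | h
      · exact Or.inl (by rw [h, Equiv.apply_symm_apply])
      · exact Or.inr (by rw [h]; rfl), by
      show s * (phi hπ w).σ * s⁻¹ * π' = π' * (s * (phi hπ w).σ * s⁻¹)
      rw [he]
      calc s * (phi hπ w).σ * s⁻¹ * (s * π * s⁻¹) = s * ((phi hπ w).σ * π) * s⁻¹ := by group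
        _ = s * (π * (phi hπ w).σ) * s⁻¹ := by rw [hm.2.2]
        _ = _ := by group⟩
  exact ⟨w', by rw [el, el, hw', map_mul, map_mul, map_inv]⟩

theorem exists_index_two (S : Sylow 2 G) (hS : (S : Subgroup G) ≤ D.ι.range) (χ : SP (2 * n) →* ℤˣ)
    {a₀ : SP (2 * n)} (h0 : D.ι a₀ ∈ (S : Subgroup G)) (hχ : χ a₀ = -1) :
    ∃ Q : Subgroup G, Q ≤ (S : Subgroup G) ∧ Q.relIndex (S : Subgroup G) = 2 ∧
      ∀ a, D.ι a ∈ Q → χ a = 1 := by
  refine ⟨(S : Subgroup G) ⊓ χ.ker.map D.ι, inf_le_left, ?_, fun a ha => ?_⟩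
  · rw [Subgroup.relIndex, Subgroup.index_eq_two_iff]
    refine ⟨⟨D.ι a₀, h0⟩, fun c => ?_⟩
    obtain ⟨a, ha⟩ := hS c.2
    have hmem : ∀ x : SP (2 * n), D.ι x ∈ χ.ker.map D.ι ↔ χ x = 1 := fun x =>
      ⟨fun ⟨z, hz, e⟩ => D.inj e ▸ hz, fun hx => ⟨x, hx, rfl⟩⟩
    have e1 : (c * ⟨D.ι a₀, h0⟩ ∈ ((S : Subgroup G) ⊓ χ.ker.map D.ι).subgroupOf (S : Subgroup G)) ↔
        χ a * -1 = 1 := by
      rw [Subgroup.mem_subgroupOf, Subgroup.mem_inf, Subgroup.coe_mul, ← ha]
      show (D.ι a * D.ι a₀ ∈ (S : Subgroup G) ∧ D.ι a * D.ι a₀ ∈ χ.ker.map D.ι) ↔ _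
      rw [and_iff_right (by rw [ha]; exact mul_mem c.2 h0), ← map_mul, hmem, map_mul, hχ]
    have e2 : (c ∈ ((S : Subgroup G) ⊓ χ.ker.map D.ι).subgroupOf (S : Subgroup G)) ↔ χ a = 1 := by
      rw [Subgroup.mem_subgroupOf, Subgroup.mem_inf, ← ha, hmem, and_iff_right_iff_imp]
      exact fun _ => ha ▸ c.2
    rw [e1, e2]
    rcases Int.units_eq_one_or (χ a) with e | e <;> simp [e]
  · obtain ⟨-, z, hz, e⟩ := ha
    exact D.inj e ▸ hz

end Setup

/-! ### coordinates attached to a transposition -/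

/-- the distinguished pair -/
structure Pair (n : ℕ) where
  a : Fin (2 * n)
  b : Fin (2 * n)
  hab : a ≠ b

namespace Pair

variable (P : Pair n)

/-- the transposition -/
def π : Perm (Fin (2 * n)) := Equiv.swap P.a P.b

theorem hπ : P.π * P.π = 1 := Equiv.swap_mul_self _ _

theorem π_a : P.π P.a = P.b := Equiv.swap_apply_left _ _
theorem π_b : P.π P.b = P.a := Equiv.swap_apply_right _ _

theorem π_of_ne {p : Fin (2 * n)} (h1 : p ≠ P.a) (h2 : p ≠ P.b) : P.π p = p :=
  Equiv.swap_apply_of_ne_of_ne h1 h2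

/-- the hyperplane -/
def InU (w : Vec (2 * n)) : Prop := w P.a = w P.b

theorem inU_iff {w : Vec (2 * n)} : P.InU w ↔ ∀ p, w (P.π p) = w p := by
  refine ⟨fun h p => ?_, fun h => ?_⟩
  · by_cases h1 : p = P.a
    · rw [h1, P.π_a]; exact h.symm
    by_cases h2 : p = P.b
    · rw [h2, P.π_b]; exact h
    rw [P.π_of_ne h1 h2]
  · have := h P.a
    rw [P.π_a] at this
    exact this.symm

theorem π_ne_one : P.π ≠ 1 := fun h => P.hab (by
  have := congrArg (fun e : Perm (Fin (2 * n)) => e P.a) h
  simp only [P.π_a, Perm.one_apply] at this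
  exact this.symm)

theorem card_support : P.π.support.card = 2 := Perm.card_support_swap P.hab

theorem moved {p : Fin (2 * n)} (h : P.π p ≠ p) : p = P.a ∨ p = P.b := by
  by_contra hc
  rw [not_or] at hc
  exact h (P.π_of_ne hc.1 hc.2)

/-- `d` -/
def d : Vec (2 * n) := fv P.a + fv P.b

/-- the other points with the point at infinity -/
def J : Finset (Option (Fin (2 * n))) := (univ.erase (some P.a)).erase (some P.b)

theorem mem_J {z : Option (Fin (2 * n))} : z ∈ P.J ↔ z ≠ some P.a ∧ z ≠ some P.b := by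
  rw [J, Finset.mem_erase, Finset.mem_erase]
  simp [and_comm]

theorem none_mem_J : (none : Option (Fin (2 * n))) ∈ P.J := P.mem_J.2 ⟨by simp, by simp⟩

theorem card_J : P.J.card + 1 = 2 * n := by
  rw [J, Finset.card_erase_of_mem (Finset.mem_erase.2 ⟨by simpa using P.hab.symm, mem_univ _⟩),
    Finset.card_erase_of_mem (mem_univ _), Finset.card_univ, Fintype.card_option, Fintype.card_fin]
  have := P.a.2
  omega

/-- the coordinate vector of a point of `J` -/
def rv (z : Option (Fin (2 * n))) : Vec (2 * n) := z.elim 0 fv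

@[simp] theorem rv_none : rv (none : Option (Fin (2 * n))) = 0 := rfl
@[simp] theorem rv_some (p : Fin (2 * n)) : rv (some p) = fv p := rfl

theorem tv_eq (z : Option (Fin (2 * n))) : tv z = 1 + rv z := by
  match z with
  | none => rw [tv_none, rv_none, add_zero]
  | some p => rfl

theorem rv_add (z z' : Option (Fin (2 * n))) : rv z + rv z' = tv z + tv z' := by
  rw [tv_eq, tv_eq, add_add_add_comm, vec_self, zero_add]

/-- sum of coordinate vectors -/
def chi (A : Finset (Option (Fin (2 * n)))) : Vec (2 * n) := ∑ z ∈ A, rv z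

theorem chi_eq_tv {A : Finset (Option (Fin (2 * n)))} (hA : Even A.card) : chi A = ∑ z ∈ A, tv z := by
  rw [chi, Finset.sum_congr rfl fun z (_ : z ∈ A) => tv_eq z, Finset.sum_add_distrib, Finset.sum_const]
  obtain ⟨k, hk⟩ := hA
  rw [hk, add_nsmul, vec_self, zero_add]

theorem chi_apply (A : Finset (Option (Fin (2 * n)))) (p : Fin (2 * n)) :
    chi A p = if some p ∈ A then 1 else 0 := by
  rw [chi, Finset.sum_apply]
  rw [← Finset.sum_ite_eq' A (some p) (fun _ => (1 : ZMod 2))]
  refine Finset.sum_congr rfl fun z _ => ?_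
  match z with
  | none => simp
  | some q =>
    rw [rv_some, fv_apply]
    simp [eq_comm]

theorem chi_inU {A : Finset (Option (Fin (2 * n)))} (hA : A ⊆ P.J) : P.InU (chi A) := by
  show chi A P.a = chi A P.b
  rw [chi_apply, chi_apply, if_neg fun h => (P.mem_J.1 (hA h)).1 rfl, if_neg fun h => (P.mem_J.1 (hA h)).2 rfl]

/-- the all-ones vector on the other points -/
def crest : Vec (2 * n) := chi (P.J.erase none)

theorem crest_apply (p : Fin (2 * n)) : P.crest p = if p = P.a ∨ p = P.b then 0 else 1 := by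
  rw [crest, chi_apply]
  by_cases h : p = P.a ∨ p = P.b
  · rw [if_pos h, if_neg]
    rcases h with rfl | rfl <;> simp [P.mem_J]
  · rw [if_neg h, if_pos]
    rw [not_or] at h
    simp [P.mem_J, h.1, h.2]

theorem d_apply (p : Fin (2 * n)) : P.d p = if p = P.a ∨ p = P.b then 1 else 0 := by
  by_cases h : p = P.a ∨ p = P.b
  · rw [if_pos h]
    rcases h with rfl | rfl
    · exact pair_left P.hab
    · exact pair_right P.hab
  · rw [if_neg h]
    rw [not_or] at h
    rw [d, Pi.add_apply, fv_of_ne h.1, fv_of_ne h.2, add_zero]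

theorem one_eq : (1 : Vec (2 * n)) = P.d + P.crest := by
  funext p
  rw [Pi.add_apply, P.d_apply, P.crest_apply]
  split <;> simp

theorem d_inU : P.InU P.d := by
  show P.d P.a = P.d P.b
  rw [P.d_apply, P.d_apply, if_pos (Or.inl rfl), if_pos (Or.inr rfl)]

theorem crest_inU : P.InU P.crest := P.chi_inU (Finset.erase_subset _ _)

theorem inU_add {w w' : Vec (2 * n)} (h : P.InU w) (h' : P.InU w') : P.InU (w + w') := by
  show w P.a + w' P.a = w P.b + w' P.b
  rw [h, h']

theorem fv_inU {p : Fin (2 * n)} (h1 : p ≠ P.a) (h2 : p ≠ P.b) : P.InU (fv p) := by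
  show fv p P.a = fv p P.b
  rw [fv_of_ne h1.symm, fv_of_ne h2.symm]

theorem inU_tv {z : Option (Fin (2 * n))} : P.InU (tv z) ↔ z ∈ P.J := by
  rw [P.mem_J, InU, tv_eq, Pi.add_apply, Pi.add_apply, Pi.one_apply, Pi.one_apply, add_right_inj]
  match z with
  | none => simp
  | some p =>
    rw [rv_some, fv_apply, fv_apply]
    constructor
    · intro h
      constructor <;> intro e <;> rw [Option.some.injEq] at e <;> subst e
      · rw [if_pos rfl, if_neg P.hab.symm] at h; exact one_ne_zero h
      · rw [if_pos rfl, if_neg P.hab] at h; exact zero_ne_one h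
    · rintro ⟨h1, h2⟩
      rw [if_neg fun e => h1 (by rw [e]), if_neg fun e => h2 (by rw [e])]

theorem exists_decomp {w : Vec (2 * n)} (hw : P.InU w) :
    ∃ A ⊆ P.J, Even A.card ∧ w = (if w P.a = 1 then P.d else 0) + chi A := by
  classical
  let A₀ : Finset (Option (Fin (2 * n))) :=
    ((univ.filter fun p => w p = 1 ∧ p ≠ P.a ∧ p ≠ P.b)).map Function.Embedding.some
  have h0 : A₀ ⊆ P.J.erase none := by
    intro z hz
    obtain ⟨p, hp, rfl⟩ := Finset.mem_map.1 hz
    obtain ⟨-, -, h1, h2⟩ := Finset.mem_filter.1 hp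
    exact Finset.mem_erase.2 ⟨by simp, P.mem_J.2 ⟨by simpa using h1, by simpa using h2⟩⟩
  have hw' : w = (if w P.a = 1 then P.d else 0) + chi A₀ := by
    funext p
    rw [Pi.add_apply, chi_apply]
    by_cases h : p = P.a ∨ p = P.b
    · have hni : some p ∉ A₀ := fun hh => by
        obtain ⟨q, hq, e⟩ := Finset.mem_map.1 hh
        rw [Function.Embedding.some_apply, Option.some.injEq] at e
        subst e
        obtain ⟨-, -, h1, h2⟩ := Finset.mem_filter.1 hq
        exact h.elim h1 h2
      rw [if_neg hni, add_zero]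
      have e : w p = w P.a := h.elim (fun e => by rw [e]) (fun e => by rw [e]; exact hw.symm)
      rcases zmod2_cases (w P.a) with h1 | h1
      · rw [if_neg (by rw [h1]; exact zero_ne_one), e, h1]; rfl
      · rw [if_pos h1, e, h1, P.d_apply, if_pos h]
    · have hd : (if w P.a = 1 then P.d else 0) p = 0 := by
        split
        · rw [P.d_apply, if_neg h]
        · rfl
      rw [not_or] at h
      rw [hd, zero_add]
      rcases zmod2_cases (w p) with h1 | h1
      · rw [if_neg, h1]
        simp [A₀, h1]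
      · rw [if_pos, h1]
        simp [A₀, h1, h.1, h.2]
  have hnone : none ∉ A₀ := fun h => (Finset.mem_erase.1 (h0 h)).1 rfl
  rcases Nat.even_or_odd A₀.card with he | ho
  · exact ⟨A₀, h0.trans (Finset.erase_subset _ _), he, hw'⟩
  · refine ⟨insert none A₀, Finset.insert_subset P.none_mem_J (h0.trans (Finset.erase_subset _ _)), ?_, ?_⟩
    · rw [Finset.card_insert_of_notMem hnone]; exact ho.add_one
    · rw [chi, Finset.sum_insert hnone, rv_none, zero_add]; exact hw'

theorem chi_inj {A B : Finset (Option (Fin (2 * n)))} (hA : Even A.card) (hB : Even B.card)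
    (h : chi A = chi B) : A = B := by
  rw [← eq_evenSet hA, ← eq_evenSet hB, ← chi_eq_tv hA, ← chi_eq_tv hB, h]

theorem add_hom_chi {M : Type*} [AddCommGroup M] (f : Vec (2 * n) →+ M) (A : Finset (Option (Fin (2 * n)))) :
    f (chi A) = ∑ z ∈ A, f (rv z) := map_sum f _ _

end Pair

end H37.Kondo
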